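import Cfsg.Agent.Lib.BSW.EtaNegSylow

/-!
# The case `|G| = 2k(k-1)(2k-1)`: conclusion
-/

namespace Cfsg.Agent.Lib.BSW

open Cfsg.Agent.Lib.Involutions.Basic Cfsg.Agent.Lib.Characters.Complete

variable {G : Type*} [Group G] [Finite G] {t s : G} {K : Subgroup G}

variable (h : Hyp t s K) (k : ℕ)
  (hk : k = Nat.card K)
  (hord : Nat.card G = 2 * Nat.card K * ((k - 1) * (2 * k - 1)))
  (hN : ∀ y : G, Outside K y → ∃ C : ℤ, (Nat.card (Pairs y) : ℤ) = ((k : ℤ) - 1) * (1 - C))
include h hk hord hN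

/-- Each non-identity element of a subgroup of order `k - 1` has its centraliser of that order
and is inverted by an involution. -/
theorem real_of_card {D : Subgroup G} (hD : Nat.card D = k - 1) {x : G} (hx : x ∈ D)
    (hx1 : x ≠ 1) : Outside K x ∧ Real' x := by
  have h2 := two_le_k h k hk
  have hk2 : k ≠ 2 := by
    intro e
    rw [e] at hD
    rw [(Subgroup.card_eq_one (H := D)).1 hD, Subgroup.mem_bot] at hx
    exact hx1 hx
  obtain ⟨y, hy, u, hu, hinv⟩ := exists_real h k hk hord hN hk2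
  have hdvd : orderOf x ∣ k - 1 := hD ▸ Subgroup.orderOf_dvd_natCard D hx
  obtain ⟨r, hr, hrx⟩ := Nat.exists_prime_and_dvd (fun e => hx1 (orderOf_eq_one_iff.1 e))
  set c := x ^ (orderOf x / r) with hc
  have hco : orderOf c = r := by
    rw [hc, orderOf_pow_orderOf_div (orderOf_pos x).ne' hrx]
  have hc1 : c ≠ 1 := fun e => hr.one_lt.ne' (by rw [← hco, e, orderOf_one])
  obtain ⟨g, hg⟩ := conj_into_real h k hk hord hN hy hu hinv hr (hrx.trans hdvd) hco
  have hxc : g * x * g⁻¹ ∈ Subgroup.centralizer ({y} : Set G) := by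
    rw [← hy.centralizer_eq h hu hinv hg (by simpa using hc1),
      Subgroup.mem_centralizer_singleton_iff]
    have e : x * c = c * x := by rw [hc]; exact ((Commute.refl x).pow_right _).eq
    calc g * x * g⁻¹ * (g * c * g⁻¹) = g * (x * c) * g⁻¹ := by group
      _ = _ := by rw [e]; group
  have ho := (hy.mem_centralizer h hxc (by simpa using hx1)).conj g⁻¹
  have hrl := (real_of_mem h hy hu hinv hxc).conj g⁻¹
  simp only [inv_inv, mul_assoc, inv_mul_cancel_left, inv_mul_cancel, mul_one] at ho hrl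
  exact ⟨ho, hrl⟩

/-- A subgroup of order `k - 1` is the centraliser of each of its non-identity elements. -/
theorem centralizer_of_card {D : Subgroup G} (hD : Nat.card D = k - 1) {x : G} (hx : x ∈ D)
    (hx1 : x ≠ 1) : Subgroup.centralizer ({x} : Set G) = D := by
  classical
  obtain ⟨hxo, u, hu, hinv⟩ := real_of_card h k hk hord hN hD hx hx1
  set A := Subgroup.centralizer ({x} : Set G) with hA
  have hodd : Odd (k - 1) := by
    obtain ⟨c, hc⟩ := (hk ▸ h.even_card : 2 ∣ k)
    have := two_le_k h k hk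
    exact ⟨c - 1, by omega⟩
  have hoddD : ∀ d : G, d ∈ D → Odd (orderOf d) := fun d hd =>
    (hD ▸ hodd : Odd (Nat.card D)).of_dvd_nat (Subgroup.orderOf_dvd_natCard D hd)
  -- the subgroups `C(z) ∩ D` are TI and self-normalising in `D`
  have hctl : ∀ z : G, z ∈ D → z ≠ 1 →
      ∀ a ∈ (Subgroup.centralizer ({z} : Set G)).subgroupOf D, a ≠ 1 → ∀ d : ↥D,
        d * a * d⁻¹ ∈ (Subgroup.centralizer ({z} : Set G)).subgroupOf D →
        d ∈ (Subgroup.centralizer ({z} : Set G)).subgroupOf D := by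
    intro z hz hz1 a ha ha1 d hd
    obtain ⟨hzo, v, hv, hvinv⟩ := real_of_card h k hk hord hN hD hz hz1
    obtain ⟨-, -, hM⟩ := real_card h k hk hord hN hzo hv hvinv
    simp only [Subgroup.mem_subgroupOf, Subgroup.coe_mul, Subgroup.coe_inv] at ha hd ⊢
    refine odd_orderOf_mem_of_index_two Subgroup.le_normalizer hM ?_ (hoddD _ d.2)
    have ha1' : (a : G) ≠ 1 := fun e => ha1 (Subtype.ext e)
    have e1 := hzo.centralizer_eq h hv hvinv ha ha1'
    have e2 := hzo.centralizer_eq h hv hvinv hd (by simpa using ha1')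
    rw [Subgroup.mem_normalizer_iff]
    intro c
    conv_lhs => rw [← e1, Subgroup.mem_centralizer_singleton_iff]
    conv_rhs => rw [← e2, Subgroup.mem_centralizer_singleton_iff]
    constructor
    · intro e'
      calc (d : G) * c * (d : G)⁻¹ * ((d : G) * a * (d : G)⁻¹) = d * (c * a) * (d : G)⁻¹ := by group
        _ = _ := by rw [e']; group
    · intro e'
      calc c * (a : G) = (d : G)⁻¹ * ((d : G) * c * (d : G)⁻¹ * ((d : G) * a * (d : G)⁻¹)) * d := by
            group
        _ = _ := by rw [e']; group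
  have hnorm : ∀ z : G, z ∈ D → z ≠ 1 →
      ∀ n ∈ (Subgroup.centralizer ({z} : Set G)).subgroupOf D,
        ∀ a ∈ (Subgroup.centralizer ({z} : Set G)).subgroupOf D,
          n * a * n⁻¹ ∈ (Subgroup.centralizer ({z} : Set G)).subgroupOf D := fun z _ _ n hn a ha =>
    mul_mem (mul_mem hn ha) (inv_mem hn)
  have hcount : ∀ z : G, z ∈ D → z ≠ 1 →
      2 * Nat.card D ≤ 3 * Nat.card {w : ↥D // w ≠ 1 ∧
        ∃ d : ↥D, d * w * d⁻¹ ∈ (Subgroup.centralizer ({z} : Set G)).subgroupOf D} := by
    intro z hz hz1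
    set B := (Subgroup.centralizer ({z} : Set G)).subgroupOf D
    have e := card_conjSet B B (hctl z hz hz1) (hnorm z hz hz1)
    have hzB : (⟨z, hz⟩ : ↥D) ∈ B := Subgroup.mem_centralizer_singleton_iff.2 rfl
    have hdvdB := Subgroup.card_subgroup_dvd_card B
    rw [hD] at hdvdB
    have hoddB : Odd (Nat.card B) := hodd.of_dvd_nat hdvdB
    have hB3 : 3 ≤ Nat.card B := by
      have h1 : 1 < Nat.card B := by
        rw [Subgroup.one_lt_card_iff_ne_bot]
        intro e'
        rw [e', Subgroup.mem_bot] at hzB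
        exact hz1 (congrArg Subtype.val hzB)
      obtain ⟨j, hj⟩ := hoddB
      omega
    nlinarith [Nat.sub_add_cancel (show 1 ≤ Nat.card B by omega)]
  have hle : D ≤ A := by
    by_contra hno
    set B := A.subgroupOf D
    have hBlt : 2 * Nat.card B ≤ Nat.card D := by
      have hmul := B.card_mul_index
      have h1 : B.index ≠ 1 := fun e => hno (Subgroup.subgroupOf_eq_top.1 (Subgroup.index_eq_one.1 e))
      have h0 : B.index ≠ 0 := Subgroup.index_ne_zero_of_finite
      have : 2 ≤ B.index := by omega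
      nlinarith
    have hxB : (⟨x, hx⟩ : ↥D) ∈ B := Subgroup.mem_centralizer_singleton_iff.2 rfl
    have hB2 : 2 ≤ Nat.card B := by
      rw [Nat.succ_le_iff, Subgroup.one_lt_card_iff_ne_bot]
      intro e'
      rw [e', Subgroup.mem_bot] at hxB
      exact hx1 (congrArg Subtype.val hxB)
    have := Fintype.ofFinite ↥D
    set T₀ := Finset.univ.filter fun w : ↥D => w ≠ 1 ∧ ∃ d : ↥D, d * w * d⁻¹ ∈ B
    have e := card_conjSet B B (hctl x hx hx1) (hnorm x hx hx1)
    have hT₀ : Nat.card {w : ↥D // w ≠ 1 ∧ ∃ d : ↥D, d * w * d⁻¹ ∈ B} = T₀.card := by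
      rw [Nat.card_eq_fintype_card, Fintype.card_subtype]
    rw [hT₀] at e
    obtain ⟨z, hz1, hzT⟩ : ∃ z : ↥D, z ≠ 1 ∧ z ∉ T₀ := by
      by_contra hall
      push Not at hall
      have hcard : (Finset.univ.erase (1 : ↥D)).card ≤ T₀.card :=
        Finset.card_le_card fun w hw => hall w (Finset.mem_erase.1 hw).1
      rw [Finset.card_erase_of_mem (Finset.mem_univ _), Finset.card_univ,
        ← Nat.card_eq_fintype_card] at hcard
      have h3 := Nat.mul_le_mul_right (Nat.card B) hcard
      rw [e] at h3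
      have h4 : ((Nat.card D - 1 : ℕ) : ℤ) * (Nat.card B : ℤ) ≤
          (Nat.card D : ℤ) * ((Nat.card B - 1 : ℕ) : ℤ) := by exact_mod_cast h3
      have hDpos : 0 < Nat.card D := Nat.card_pos
      rw [Nat.cast_sub (by omega), Nat.cast_sub (by omega)] at h4
      push_cast at h4
      nlinarith
    have hz1' : (z : G) ≠ 1 := fun e => hz1 (Subtype.ext e)
    obtain ⟨hzo, v, hv, hvinv⟩ := real_of_card h k hk hord hN hD z.2 hz1'
    set T₁ := Finset.univ.filter fun w : ↥D => w ≠ 1 ∧
      ∃ d : ↥D, d * w * d⁻¹ ∈ (Subgroup.centralizer ({(z : G)} : Set G)).subgroupOf D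
    have hT₁ : Nat.card {w : ↥D // w ≠ 1 ∧
        ∃ d : ↥D, d * w * d⁻¹ ∈ (Subgroup.centralizer ({(z : G)} : Set G)).subgroupOf D} = T₁.card := by
      rw [Nat.card_eq_fintype_card, Fintype.card_subtype]
    have hdisj : Disjoint T₀ T₁ := by
      rw [Finset.disjoint_left]
      intro w hw hw'
      simp only [T₀, T₁, Finset.mem_filter, Finset.mem_univ, true_and] at hw hw'
      obtain ⟨hw1, d, hd⟩ := hw
      obtain ⟨-, d', hd'⟩ := hw'
      apply hzT
      simp only [T₀, Finset.mem_filter, Finset.mem_univ, true_and]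
      refine ⟨hz1, d * d'⁻¹, ?_⟩
      have hw1' : (w : G) ≠ 1 := fun e => hw1 (Subtype.ext e)
      simp only [B, Subgroup.mem_subgroupOf, Subgroup.coe_mul, Subgroup.coe_inv] at hd hd' ⊢
      have e1 := hxo.centralizer_eq h hu hinv hd (by simpa using hw1')
      have e2 := hzo.centralizer_eq h hv hvinv hd' (by simpa using hw1')
      have hzm : (z : G) ∈ Subgroup.centralizer ({(z : G)} : Set G) :=
        Subgroup.mem_centralizer_singleton_iff.2 rfl
      rw [← e2, Subgroup.mem_centralizer_singleton_iff] at hzm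
      rw [hA, ← e1, Subgroup.mem_centralizer_singleton_iff]
      calc (d : G) * (d' : G)⁻¹ * z * ((d : G) * (d' : G)⁻¹)⁻¹ * ((d : G) * w * (d : G)⁻¹)
          = (d : G) * (d' : G)⁻¹ * (z * ((d' : G) * w * (d' : G)⁻¹)) * (d' : G) * (d : G)⁻¹ := by
            group
        _ = _ := by rw [hzm]; group
    have hsub : T₀ ∪ T₁ ⊆ Finset.univ.erase (1 : ↥D) := fun w hw => by
      simp only [T₀, T₁, Finset.mem_union, Finset.mem_filter, Finset.mem_univ, true_and] at hw
      exact Finset.mem_erase.2 ⟨hw.elim And.left And.left, Finset.mem_univ _⟩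
    have hcard := Finset.card_le_card hsub
    rw [Finset.card_union_of_disjoint hdisj, Finset.card_erase_of_mem (Finset.mem_univ _),
      Finset.card_univ, ← Nat.card_eq_fintype_card] at hcard
    have h0 := hcount x hx hx1
    have h1 := hcount (z : G) z.2 hz1'
    rw [hT₀] at h0
    rw [hT₁] at h1
    have : 0 < Nat.card D := Nat.card_pos
    omega
  exact (Subgroup.eq_of_le_of_card_ge hle
    (by rw [hA, (real_card h k hk hord hN hxo hu hinv).1, hD])).symm

theorem eta_neg :
    ∃ Q D : Subgroup G, Nat.card Q = 2 * Nat.card K - 1 ∧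
      (∀ x ∈ Q, x ≠ 1 → Subgroup.centralizer ({x} : Set G) = Q) ∧
      IsMulCommutative D ∧ 2 * Nat.card D + 1 = Nat.card Q ∧ Q ⊓ D = ⊥ ∧
      Subgroup.normalizer (Q : Set G) = Q ⊔ D ∧
      ∀ X : Subgroup G, X ≤ D → X ≠ ⊥ →
        Subgroup.normalizer (X : Set G) = Subgroup.normalizer (D : Set G) ∧
        ∃ u : G, orderOf u = 2 ∧ u ∉ D ∧ (∀ d ∈ D, u * d * u⁻¹ = d⁻¹) ∧
          Subgroup.normalizer (D : Set G) = D ⊔ Subgroup.zpowers u := by
  classical
  have h2 := two_le_k h k hk
  obtain ⟨p, hp, hpq⟩ := Nat.exists_prime_and_dvd (show 2 * k - 1 ≠ 1 by omega)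
  haveI := Fact.mk hp
  obtain ⟨y, hy⟩ := exists_prime_orderOf_dvd_card' (G := G) p
    (hord ▸ dvd_mul_of_dvd_right (dvd_mul_of_dvd_right hpq _) _)
  obtain ⟨hyo, hyn⟩ := outside_nonreal_of_dvd h k hk hord hN hp hpq (dvd_of_eq hy.symm)
  set Q := Subgroup.centralizer ({y} : Set G) with hQdef
  obtain ⟨hQcard, hclass⟩ := nonreal_class h k hk hord hN hyo hyn
  have hQeq : ∀ x ∈ Q, x ≠ 1 → Subgroup.centralizer ({x} : Set G) = Q := fun x hx hx1 =>
    centralizer_eq_of_mem h k hk hord hN hpq hy hx hx1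
  set N := Subgroup.normalizer (Q : Set G) with hNdef
  have hQN : Q ≤ N := Subgroup.le_normalizer
  have hyQ : y ∈ Q := Subgroup.mem_centralizer_singleton_iff.2 rfl
  have hfus : ∀ z ∈ Q, z ≠ 1 → ∀ g : G, g * z * g⁻¹ ∈ Q → g ∈ N := by
    intro z hz hz1 g hg
    rw [hNdef, Subgroup.mem_normalizer_iff]
    intro c
    conv_lhs => rw [← hQeq z hz hz1, Subgroup.mem_centralizer_singleton_iff]
    conv_rhs => rw [← hQeq _ hg (by simpa using hz1), Subgroup.mem_centralizer_singleton_iff]
    constructor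
    · intro e
      calc g * c * g⁻¹ * (g * z * g⁻¹) = g * (c * z) * g⁻¹ := by group
        _ = _ := by rw [e]; group
    · intro e
      calc c * z = g⁻¹ * (g * c * g⁻¹ * (g * z * g⁻¹)) * g := by group
        _ = _ := by rw [e]; group
  have horbit : ∀ z ∈ Q, z ≠ 1 →
      Nat.card {x : ↥Q // IsConj z (x : G)} * Nat.card Q = Nat.card N := by
    intro z hz hz1
    rw [← card_conjugates_mul_centralizer (⟨z, hQN hz⟩ : ↥N)]
    congr 1
    · refine Nat.card_congr
        { toFun := fun x => ⟨⟨x.1, hQN x.1.2⟩, ?_⟩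
          invFun := fun x => ⟨⟨x.1, ?_⟩, ?_⟩
          left_inv := fun x => rfl
          right_inv := fun x => rfl }
      · obtain ⟨g, hg⟩ := isConj_iff.1 x.2
        exact isConj_iff.2 ⟨⟨g, hfus z hz hz1 g (hg ▸ x.1.2)⟩, Subtype.ext hg⟩
      · obtain ⟨n, hn⟩ := isConj_iff.1 x.2
        have hn' : (n : G) * z * (n : G)⁻¹ = (x.1 : G) := congrArg Subtype.val hn
        rw [← hn']
        exact (Subgroup.mem_normalizer_iff.1 n.2 z).1 hz
      · obtain ⟨n, hn⟩ := isConj_iff.1 x.2
        exact isConj_iff.2 ⟨n, congrArg Subtype.val hn⟩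
    · have e : Subgroup.centralizer ({(⟨z, hQN hz⟩ : ↥N)} : Set ↥N) = Q.subgroupOf N := by
        ext c
        rw [Subgroup.mem_centralizer_singleton_iff, Subgroup.mem_subgroupOf, Subtype.ext_iff,
          Subgroup.coe_mul, Subgroup.coe_mul]
        conv_rhs => rw [← hQeq z hz hz1, Subgroup.mem_centralizer_singleton_iff]
      rw [e, Nat.card_congr (Subgroup.subgroupOfEquivOfLe hQN).toEquiv]
  have hyi : y⁻¹ ≠ 1 := inv_ne_one.2 hyo.ne_one
  have hNcard : Nat.card N = Nat.card Q * (k - 1) := by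
    have o1 := horbit y hyQ hyo.ne_one
    have o2 := horbit y⁻¹ (inv_mem hyQ) hyi
    have := Fintype.ofFinite ↥Q
    set T := Finset.univ.filter fun x : ↥Q => IsConj y (x : G)
    set T' := Finset.univ.filter fun x : ↥Q => IsConj y⁻¹ (x : G)
    rw [Nat.card_eq_fintype_card, Fintype.card_subtype] at o1 o2
    have hu : T ∪ T' = Finset.univ.erase (1 : ↥Q) := by
      ext x
      simp only [T, T', Finset.mem_union, Finset.mem_filter, Finset.mem_univ, true_and,
        Finset.mem_erase, and_true]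
      constructor
      · rintro (hc | hc) e <;> rw [e, OneMemClass.coe_one] at hc
        · exact hyo.ne_one (isConj_one_left.1 hc)
        · exact hyi (isConj_one_left.1 hc)
      · intro hx
        have hx' : (x : G) ≠ 1 := fun e => hx (Subtype.ext e)
        obtain ⟨hxo, hxn⟩ := outside_nonreal_of_dvd h k hk hord hN hp hpq
          (dvd_of_eq (centralizer_mem_order h k hk hord hN hp hpq hy x.2 hx').symm)
        exact hclass _ hxo hxn
    have hd : Disjoint T T' := by
      rw [Finset.disjoint_left]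
      intro x hx hx'
      simp only [T, T', Finset.mem_filter, Finset.mem_univ, true_and] at hx hx'
      exact hyn (hyo.real_of_isConj h (hx.trans hx'.symm))
    have hsum := congrArg Finset.card hu
    rw [Finset.card_union_of_disjoint hd, Finset.card_erase_of_mem (Finset.mem_univ _),
      Finset.card_univ, ← Nat.card_eq_fintype_card, hQcard,
      show 2 * k - 1 - 1 = 2 * (k - 1) by omega] at hsum
    change T.card * Nat.card Q = Nat.card N at o1
    change T'.card * Nat.card Q = Nat.card N at o2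
    have hTT : T.card = T'.card := Nat.eq_of_mul_eq_mul_right Nat.card_pos (o1.trans o2.symm)
    rw [← o1, show T.card = k - 1 by omega, mul_comm]
  have hidx : (Q.subgroupOf N).index = k - 1 := by
    have := (Q.subgroupOf N).card_mul_index
    rw [Nat.card_congr (Subgroup.subgroupOfEquivOfLe hQN).toEquiv, hNcard] at this
    exact Nat.eq_of_mul_eq_mul_left Nat.card_pos this
  haveI : (Q.subgroupOf N).Normal := Subgroup.normal_in_normalizer
  have hcop : (Nat.card (Q.subgroupOf N)).Coprime (Q.subgroupOf N).index := by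
    rw [Nat.card_congr (Subgroup.subgroupOfEquivOfLe hQN).toEquiv, hidx, hQcard]
    refine Nat.coprime_of_dvd fun r hr h1 h3 => ?_
    exact (not_dvd_of_dvd_q h k hk hr h1).2.1 h3
  obtain ⟨C, hC⟩ := Subgroup.exists_right_complement'_of_coprime hcop
  set D := C.map N.subtype with hDdef
  have hDcard : Nat.card D = k - 1 := by
    rw [hDdef, Subgroup.card_map_of_injective N.subtype_injective, ← hidx]
    exact hC.symm.index_eq_card.symm
  have hDC : ∀ x ∈ D, x ≠ 1 → Subgroup.centralizer ({x} : Set G) = D := fun x hx hx1 =>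
    centralizer_of_card h k hk hord hN hDcard hx hx1
  have hDcomm : ∀ a ∈ D, ∀ b ∈ D, a * b = b * a := by
    intro a ha b hb
    by_cases hb1 : b = 1
    · simp [hb1]
    · rw [← hDC b hb hb1] at ha
      exact Subgroup.mem_centralizer_singleton_iff.1 ha
  refine ⟨Q, D, by rw [← hk]; exact hQcard, hQeq, ⟨⟨fun a b => Subtype.ext (hDcomm _ a.2 _ b.2)⟩⟩,
    by rw [hDcard, hQcard]; omega, ?_, ?_, fun X hX hX1 => ?_⟩
  · rw [eq_bot_iff]
    intro c hc
    have h1 := Subgroup.orderOf_dvd_natCard Q hc.1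
    have h3 := Subgroup.orderOf_dvd_natCard D hc.2
    rw [hQcard] at h1
    rw [hDcard] at h3
    rw [Subgroup.mem_bot, ← orderOf_eq_one_iff]
    by_contra hne
    obtain ⟨r, hr, hrc⟩ := Nat.exists_prime_and_dvd hne
    exact (not_dvd_of_dvd_q h k hk hr (hrc.trans h1)).2.1 (hrc.trans h3)
  · show N = Q ⊔ D
    have := congrArg (Subgroup.map N.subtype) hC.sup_eq_top
    rw [Subgroup.map_sup, Subgroup.subgroupOf_map_subtype, inf_eq_left.2 hQN,
      ← MonoidHom.range_eq_map, Subgroup.range_subtype] at this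
    exact this.symm
  · obtain ⟨⟨x, hx⟩, hx1⟩ := Subgroup.ne_bot_iff_exists_ne_one.1 hX1
    have hx1' : x ≠ 1 := fun e => hx1 (Subtype.ext e)
    obtain ⟨hxo, u, hu, hinv⟩ := real_of_card h k hk hord hN hDcard (hX hx) hx1'
    obtain ⟨-, hM, -⟩ := real_card h k hk hord hN hxo hu hinv
    have hDx := hDC x (hX hx) hx1'
    refine normalizer_inverted hu ?_ (fun d hd => hxo.invert_centralizer h hu hinv (hDx ▸ hd))
      hDcomm (fun z hz hz1 g hg => ?_) X hX hX1
    · intro huD
      rw [← hDx, Subgroup.mem_centralizer_singleton_iff] at huD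
      exact hxo.not_comm_invol h hu huD.symm
    · rw [← hDx, ← hM, hDx, Subgroup.mem_normalizer_iff]
      intro c
      conv_lhs => rw [← hDC z hz hz1, Subgroup.mem_centralizer_singleton_iff]
      conv_rhs => rw [← hDC _ hg (by simpa using hz1), Subgroup.mem_centralizer_singleton_iff]
      constructor
      · intro e
        calc g * c * g⁻¹ * (g * z * g⁻¹) = g * (c * z) * g⁻¹ := by group
          _ = _ := by rw [e]; group
      · intro e
        calc c * z = g⁻¹ * (g * c * g⁻¹ * (g * z * g⁻¹)) * g := by group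
          _ = _ := by rw [e]; group

end Cfsg.Agent.Lib.BSW
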