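import Cfsg.Agent.Lib.BSW.Real

/-!
# The case `|G| = 2k(k+1)(2k+1)`
-/

namespace Cfsg.Agent.Lib.BSW

open Cfsg.Agent.Lib.Involutions.Basic

variable {G : Type*} [Group G] [Finite G] {t s : G} {K : Subgroup G}

theorem eta_one (h : Hyp t s K)
    (hord : Nat.card G = 2 * Nat.card K * ((Nat.card K + 1) * (2 * Nat.card K + 1)))
    (hN : ∀ y : G, Outside K y → ∃ C : ℤ, (Nat.card (Pairs y) : ℤ) =
      (Nat.card K : ℤ) + 1 + C * (Nat.card K : ℤ)) :
    ∃ Q D : Subgroup G, Nat.card Q = 2 * Nat.card K + 1 ∧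
      (∀ x ∈ Q, x ≠ 1 → Subgroup.centralizer ({x} : Set G) = Q) ∧
      IsMulCommutative D ∧ 2 * Nat.card D + 1 = Nat.card Q ∧ Q ⊓ D = ⊥ ∧
      Subgroup.normalizer (Q : Set G) = Q ⊔ D ∧
      ∀ X : Subgroup G, X ≤ D → X ≠ ⊥ →
        Subgroup.normalizer (X : Set G) = Subgroup.normalizer (D : Set G) ∧
        ∃ u : G, orderOf u = 2 ∧ u ∉ D ∧ (∀ d ∈ D, u * d * u⁻¹ = d⁻¹) ∧
          Subgroup.normalizer (D : Set G) = D ⊔ Subgroup.zpowers u := by
  classical
  set k := Nat.card K with hk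
  have hkpos : 0 < k := Nat.card_pos
  have hk2 : 2 ≤ k := Nat.le_of_dvd hkpos h.even_card
  have hm : ((k + 1) * (2 * k + 1)).Coprime k := Nat.Coprime.mul_left (by simp) (by simp)
  obtain ⟨p, hp, hpq⟩ := Nat.exists_prime_and_dvd (show 2 * k + 1 ≠ 1 by omega)
  haveI := Fact.mk hp
  obtain ⟨y, hy⟩ := exists_prime_orderOf_dvd_card' (G := G) p
    (hord ▸ dvd_mul_of_dvd_right (dvd_mul_of_dvd_right hpq _) _)
  have hout : Outside K y := by
    intro g hg
    have h1 := Subgroup.orderOf_dvd_natCard K hg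
    rw [orderOf_conj_eq, hy, ← hk] at h1
    have h2 : p ∣ 1 := by
      have h3 := Nat.dvd_sub hpq (Dvd.dvd.mul_left h1 2)
      rwa [show 2 * k + 1 - 2 * k = 1 by omega] at h3
    exact hp.one_lt.ne' (Nat.dvd_one.1 h2)
  have hreal : Real' y := by
    by_contra hno
    obtain ⟨C, hC⟩ := hN y hout
    rw [Outside.card_pairs_nonreal hno] at hC
    have h1 : (k : ℤ) ∣ 1 := ⟨-1 - C, by push_cast at hC ⊢; linarith⟩
    have := Int.le_of_dvd one_pos h1
    omega
  obtain ⟨u, hu, hinv⟩ := hreal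
  obtain ⟨g, hg⟩ := isConj_iff.1 (h.conj t u h.ht hu)
  obtain ⟨D, hDK, huD, hsup, hdvd, h2D, hidx, hcong⟩ := real_data h hord hm hout hu hinv hg
  set A := Subgroup.centralizer ({y} : Set G) with hA
  have hyA : y ∈ A := Subgroup.mem_centralizer_singleton_iff.2 rfl
  have hpa : p ∣ Nat.card A := by
    have := Subgroup.orderOf_dvd_natCard A hyA
    rwa [hy] at this
  obtain ⟨C, hC⟩ := hN y hout
  rw [hout.card_pairs_real h hu hinv, ← hA] at hC
  have ha1 : 1 < Nat.card A :=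
    lt_of_lt_of_le hp.one_lt (Nat.le_of_dvd Nat.card_pos hpa)
  obtain ⟨hAq, hDk⟩ := arith_one hk2 ha1 ⟨1 + C, by rw [hC]; ring⟩
    (centralizer_dvd h hord hm hout) (hidx.trans hord) hdvd h2D hcong hp hpa hpq
  have hk' : Hyp u (g * s * g⁻¹) (K.map (MulAut.conj g).toMonoidHom) := by
    rw [← hg]; exact h.map g
  set K' := K.map (MulAut.conj g).toMonoidHom with hK'
  have hDeq : D = K' := Subgroup.eq_of_le_of_card_ge hDK (by
    rw [hK', Subgroup.card_map_of_injective (MulAut.conj g).injective, ← hk, hDk])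
  refine ⟨A, D, hAq, fun x hx hx1 => hout.centralizer_eq h hu hinv hx hx1, ?_, ?_, ?_, hsup, ?_⟩
  · rw [hDeq]
    exact ⟨⟨fun a b => Subtype.ext (hk'.comm _ a.2 _ b.2)⟩⟩
  · rw [hDk, hAq]
  · rw [eq_bot_iff]
    intro c hc
    by_contra hc1
    have hcD : c ∈ K' := hDeq ▸ hc.2
    exact (hout.mem_centralizer h hc.1 (fun e => hc1 (by simp [e]))).not_comm_invol h hu
      (hk'.comm_t hcD)
  · intro X hX hX1
    rw [hDeq] at hX ⊢
    refine normalizer_inverted hk'.hs hk'.hsK hk'.inv hk'.comm (fun x hx hx1 w hw => ?_) X hX hX1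
    rcases hk'.cases' w (hk'.ti x hx hx1 w hw) with h1 | h1
    · exact Subgroup.mem_sup_left h1
    · rw [show w = (g * s * g⁻¹)⁻¹ * ((g * s * g⁻¹) * w) by group]
      exact mul_mem (Subgroup.mem_sup_right (inv_mem (Subgroup.mem_zpowers _)))
        (Subgroup.mem_sup_left h1)

end Cfsg.Agent.Lib.BSW
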