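import Cfsg.Agent.Lib.BSW.Order
import Cfsg.Agent.Lib.BSW.EtaOne
import Cfsg.Agent.Lib.BSW.EtaNegMain

/-!
# The Brauer–Suzuki–Wall theorem, abstract form
-/

namespace Cfsg.Agent.Lib.BSW

open Cfsg.Agent.Lib.Involutions.Basic

universe u

variable {G : Type u} [Group G] [Finite G] {t s : G} {K : Subgroup G}

theorem brauer_suzuki_wall (h : Hyp t s K) :
    ∃ Q D : Subgroup G, 2 * Nat.card G = Nat.card ↥Q * (Nat.card ↥Q + 1) * (Nat.card ↥Q - 1) ∧
      (∀ x ∈ Q, x ≠ 1 → Subgroup.centralizer ({x} : Set G) = Q) ∧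
      IsMulCommutative ↥D ∧ 2 * Nat.card ↥D + 1 = Nat.card ↥Q ∧ Q ⊓ D = ⊥ ∧
      Subgroup.normalizer (Q : Set G) = Q ⊔ D ∧
      ∀ X : Subgroup G, X ≤ D → X ≠ ⊥ →
        Subgroup.normalizer (X : Set G) = Subgroup.normalizer (D : Set G) ∧
        ∃ u : G, orderOf u = 2 ∧ u ∉ D ∧ (∀ d ∈ D, u * d * u⁻¹ = d⁻¹) ∧
          Subgroup.normalizer (D : Set G) = D ⊔ Subgroup.zpowers u := by
  classical
  letI := Fintype.ofFinite G
  letI := Fintype.ofFinite ↥K
  letI := Fintype.ofFinite (Cfsg.IrrCharacter G)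
  letI := Fintype.ofFinite (Cfsg.IrrCharacter ↥K)
  obtain ⟨η, l₀, a, p, q, c⟩ := exists_conf h
  have hk2 : 2 ≤ Nat.card K := Nat.le_of_dvd Nat.card_pos h.even_card
  have hN := fun y hy => pairs_outside h c (y := y) hy
  rcases c.eta with e | e
  · have hord : Nat.card G =
        2 * Nat.card K * ((Nat.card K + 1) * (2 * Nat.card K + 1)) := by
      have := c.order
      rw [e] at this
      have h2 : (Nat.card G : ℤ) =
          ((2 * Nat.card K * ((Nat.card K + 1) * (2 * Nat.card K + 1)) : ℕ) : ℤ) := by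
        push_cast; rw [this]; ring
      exact_mod_cast h2
    obtain ⟨Q, D, hQ, h1, h2, h3, h4, h5, h6⟩ := eta_one h hord (fun y hy => by
      obtain ⟨C, hC⟩ := hN y hy
      rw [e] at hC
      exact ⟨C, by linarith⟩)
    refine ⟨Q, D, ?_, h1, h2, h3, h4, h5, h6⟩
    rw [hord, hQ, show 2 * Nat.card K + 1 - 1 = 2 * Nat.card K by omega]
    ring
  · have hord : Nat.card G =
        2 * Nat.card K * ((Nat.card K - 1) * (2 * Nat.card K - 1)) := by
      have := c.order
      rw [e] at this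
      have h2 : (Nat.card G : ℤ) =
          ((2 * Nat.card K * ((Nat.card K - 1) * (2 * Nat.card K - 1)) : ℕ) : ℤ) := by
        rw [Nat.cast_mul, Nat.cast_mul, Nat.cast_mul, Nat.cast_sub (by omega),
          Nat.cast_sub (by omega), this]
        push_cast; ring
      exact_mod_cast h2
    obtain ⟨Q, D, hQ, h1, h2, h3, h4, h5, h6⟩ := eta_neg h (Nat.card K) rfl hord (fun y hy => by
      obtain ⟨C, hC⟩ := hN y hy
      rw [e] at hC
      exact ⟨C, by linarith⟩)
    refine ⟨Q, D, ?_, h1, h2, h3, h4, h5, h6⟩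
    rw [hord, hQ, show 2 * Nat.card K - 1 + 1 = 2 * Nat.card K by omega,
      show 2 * Nat.card K - 1 - 1 = 2 * (Nat.card K - 1) by omega]
    ring

end Cfsg.Agent.Lib.BSW
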