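import Mathlib

/-!
# Counting conjugates, Sylow conjugation, congruences and arithmetic used for BSW
-/

namespace Cfsg.Agent.Lib.BSW

variable {G : Type*} [Group G]

/-- A `p`-subgroup is conjugate into any subgroup of index prime to `p`. -/
theorem exists_conj_le_of_not_dvd_index [Finite G] {p : ℕ} [Fact p.Prime] {P S : Subgroup G}
    (hP : IsPGroup p P) (hS : ¬ p ∣ S.index) :
    ∃ g : G, ∀ x ∈ P, g * x * g⁻¹ ∈ S := by
  obtain ⟨T⟩ : Nonempty (Sylow p S) := inferInstance
  have hT : Nat.card ((T : Subgroup S).map S.subtype) = p ^ (Nat.card G).factorization p := by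
    rw [Subgroup.card_map_of_injective S.subtype_injective, T.card_eq_multiplicity,
      ← Subgroup.card_mul_index S, Nat.factorization_mul Nat.card_pos.ne'
        (by exact (Subgroup.index_ne_zero_of_finite (H := S))), Finsupp.add_apply,
      Nat.factorization_eq_zero_of_not_dvd hS, add_zero]
  let T' : Sylow p G := Sylow.ofCard ((T : Subgroup S).map S.subtype) hT
  obtain ⟨P', hP'⟩ := hP.exists_le_sylow
  obtain ⟨g, hg⟩ := MulAction.exists_smul_eq G P' T'
  refine ⟨g, fun x hx => ?_⟩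
  have h1 : g * x * g⁻¹ ∈ (g • P' : Sylow p G) := by
    show g * x * g⁻¹ ∈ ((g • P' : Sylow p G) : Subgroup G)
    rw [Sylow.coe_subgroup_smul]
    exact Subgroup.smul_mem_pointwise_smul x (MulAut.conj g) _ (hP' hx)
  rw [hg] at h1
  exact Subgroup.map_subtype_le _ h1

theorem exists_conj_mem_of_not_dvd_index [Finite G] {p : ℕ} [Fact p.Prime] {S : Subgroup G}
    (hS : ¬ p ∣ S.index) {x : G} (hx : orderOf x = p) : ∃ g : G, g * x * g⁻¹ ∈ S := by
  obtain ⟨g, hg⟩ := exists_conj_le_of_not_dvd_index (P := Subgroup.zpowers x)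
    (IsPGroup.of_card (n := 1) (by rw [Nat.card_zpowers, hx, pow_one])) hS
  exact ⟨g, hg x (Subgroup.mem_zpowers x)⟩

/-- The non-identity elements conjugate into `X`, when fusion in `X` is controlled by `N`. -/
theorem card_conjSet [Finite G] (X N : Subgroup G)
    (hTI : ∀ x ∈ X, x ≠ 1 → ∀ g : G, g * x * g⁻¹ ∈ X → g ∈ N)
    (hN : ∀ n ∈ N, ∀ x ∈ X, n * x * n⁻¹ ∈ X) :
    Nat.card {y : G // y ≠ 1 ∧ ∃ g : G, g * y * g⁻¹ ∈ X} * Nat.card N =
      Nat.card G * (Nat.card X - 1) := by
  classical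
  have : ∀ y : {y : G // y ≠ 1 ∧ ∃ g : G, g * y * g⁻¹ ∈ X}, ∃ g : G, g * y.1 * g⁻¹ ∈ X :=
    fun y => y.2.2
  choose f hf using this
  have hne : ∀ (h x : G), x ≠ 1 → h * x * h⁻¹ ≠ 1 := by
    intro h x hx e
    exact hx (by simpa using e)
  have hcard : Nat.card {x : X // x ≠ 1} = Nat.card X - 1 := by
    have := Fintype.ofFinite X
    rw [Nat.card_eq_fintype_card, Nat.card_eq_fintype_card, Fintype.card_subtype,
      Finset.filter_ne', Finset.card_erase_of_mem (Finset.mem_univ _), Finset.card_univ]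
  rw [← hcard, ← Nat.card_prod, ← Nat.card_prod]
  let Y : G × {x : X // x ≠ 1} → {y : G // y ≠ 1 ∧ ∃ g : G, g * y * g⁻¹ ∈ X} := fun p =>
    ⟨p.1 * (p.2.1 : G) * p.1⁻¹, hne _ _ (fun e => p.2.2 (Subtype.ext e)), p.1⁻¹, by
      simp [mul_assoc]⟩
  refine (Nat.card_congr (β := {y : G // y ≠ 1 ∧ ∃ g : G, g * y * g⁻¹ ∈ X} × N) (α := G × {x : X // x ≠ 1})
    { toFun := fun p => (Y p, ⟨f (Y p) * p.1, hTI (p.2.1 : G) p.2.1.2
        (fun e => p.2.2 (Subtype.ext e)) _ (by
          have := hf (Y p)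
          simpa [Y, mul_assoc] using this)⟩)
      invFun := fun q => ((f q.1)⁻¹ * (q.2 : G),
        ⟨⟨(q.2 : G)⁻¹ * (f q.1 * q.1.1 * (f q.1)⁻¹) * (q.2 : G), by
          simpa using hN _ (inv_mem q.2.2) _ (hf q.1)⟩, fun e => by
          have e' := congrArg Subtype.val e
          simp only [OneMemClass.coe_one] at e'
          apply q.1.2.1
          have : q.1.1 = (f q.1)⁻¹ * (q.2 : G) * ((q.2 : G)⁻¹ *
              (f q.1 * q.1.1 * (f q.1)⁻¹) * (q.2 : G)) * ((q.2 : G)⁻¹ * f q.1) := by group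
          rw [this, e']; group⟩)
      left_inv := fun p => ?_
      right_inv := fun q => ?_ }).symm
  · refine Prod.ext (by simp) (Subtype.ext (Subtype.ext ?_))
    simp [Y, mul_assoc]
  · have hY : Y ((f q.1)⁻¹ * (q.2 : G), ⟨⟨(q.2 : G)⁻¹ * (f q.1 * q.1.1 * (f q.1)⁻¹) * (q.2 : G), by
          simpa using hN _ (inv_mem q.2.2) _ (hf q.1)⟩, fun e => by
          have e' := congrArg Subtype.val e
          simp only [OneMemClass.coe_one] at e'
          apply q.1.2.1
          have : q.1.1 = (f q.1)⁻¹ * (q.2 : G) * ((q.2 : G)⁻¹ *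
              (f q.1 * q.1.1 * (f q.1)⁻¹) * (q.2 : G)) * ((q.2 : G)⁻¹ * f q.1) := by group
          rw [this, e']; group⟩) = q.1 := by
      refine Subtype.ext ?_
      show (f q.1)⁻¹ * (q.2 : G) * ((q.2 : G)⁻¹ * (f q.1 * q.1.1 * (f q.1)⁻¹) * (q.2 : G)) *
        ((f q.1)⁻¹ * (q.2 : G))⁻¹ = q.1.1
      group
    refine Prod.ext hY (Subtype.ext ?_)
    simp only [hY]
    group

/-- If a subgroup acts with one fixed point and otherwise freely on cosets, a congruence. -/
theorem index_mod_card [Finite G] (A M : Subgroup G) (hAM : A ≤ M)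
    (hfree : ∀ g : G, g ∉ M → ∀ a ∈ A, g⁻¹ * a * g ∈ M → a = 1) :
    Nat.card A ∣ M.index - 1 := by
  classical
  let X := {x : G ⧸ M // x ≠ QuotientGroup.mk 1}
  have hfix : ∀ a ∈ A, (a : G) • (QuotientGroup.mk 1 : G ⧸ M) = QuotientGroup.mk 1 := by
    intro a ha
    rw [MulAction.Quotient.smul_mk, QuotientGroup.eq]
    simpa using inv_mem (hAM ha)
  letI : MulAction A X :=
    { smul := fun a x => ⟨(a : G) • x.1, fun e => x.2 (by
        have h2 := congrArg (fun z => ((a : G))⁻¹ • z) e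
        simp only [inv_smul_smul] at h2
        rw [h2, hfix _ (inv_mem a.2)])⟩
      one_smul := fun x => Subtype.ext (by show ((1 : A) : G) • x.1 = x.1; simp)
      mul_smul := fun a b x => Subtype.ext (by
        show ((a * b : A) : G) • x.1 = (a : G) • ((b : G) • x.1)
        rw [Subgroup.coe_mul, mul_smul]) }
  have hstab : ∀ x : X, MulAction.stabilizer A x = ⊥ := by
    intro x
    rw [eq_bot_iff]
    intro a ha
    rw [Subgroup.mem_bot]
    obtain ⟨g, hg⟩ := QuotientGroup.mk_surjective x.1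
    have hgM : g ∉ M := by
      intro hgM
      apply x.2
      rw [← hg, QuotientGroup.eq]
      simpa using inv_mem hgM
    have e : (a : G) • x.1 = x.1 := congrArg Subtype.val (MulAction.mem_stabilizer_iff.1 ha)
    rw [← hg, MulAction.Quotient.smul_mk, QuotientGroup.eq] at e
    have e2 : g⁻¹ * (a : G)⁻¹ * g ∈ M := by simpa [smul_eq_mul, mul_assoc] using e
    have := hfree g hgM _ (inv_mem a.2) e2
    exact Subtype.ext (inv_eq_one.1 this)
  have hdvd : Nat.card A ∣ Nat.card X := by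
    rw [Nat.card_congr (MulAction.selfEquivSigmaOrbits A X)]
    have := Fintype.ofFinite (Quotient (MulAction.orbitRel A X))
    rw [Nat.card_sigma]
    refine Finset.dvd_sum fun w _ => ?_
    rw [Nat.card_congr (MulAction.orbitEquivQuotientStabilizer A w.out), ← Subgroup.index,
      hstab, Subgroup.index_bot]
  have hX : Nat.card X = M.index - 1 := by
    have := Fintype.ofFinite (G ⧸ M)
    rw [Subgroup.index, Nat.card_eq_fintype_card, Nat.card_eq_fintype_card, Fintype.card_subtype,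
      Finset.filter_ne', Finset.card_erase_of_mem (Finset.mem_univ _), Finset.card_univ]
  rwa [hX] at hdvd

theorem exists_sq_eq_of_odd [Finite G] {A : Subgroup G} (hA : Odd (Nat.card A)) {a : G}
    (ha : a ∈ A) : ∃ b ∈ A, b * b = a := by
  obtain ⟨j, hj⟩ := hA
  refine ⟨a ^ (j + 1), pow_mem ha _, ?_⟩
  have h1 : a ^ Nat.card A = 1 := by
    have := pow_card_eq_one' (G := A) (x := ⟨a, ha⟩)
    exact Subtype.ext_iff.1 this
  rw [← pow_add, show j + 1 + (j + 1) = Nat.card A + 1 by omega, pow_succ, h1, one_mul]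

/-- Arithmetic for the case `η = 1`. -/
theorem arith_one {k a d e p : ℕ} (hk : 2 ≤ k) (ha : 1 < a) (hmod : (k : ℤ) ∣ (a : ℤ) - 1)
    (hdvd : a ∣ (k + 1) * (2 * k + 1)) (he : e * (a * d) = 2 * k * ((k + 1) * (2 * k + 1)))
    (hd : d ∣ k) (hd2 : 2 ≤ d) (hcong : a ∣ e - 1) (hp : p.Prime) (hpa : p ∣ a)
    (hpq : p ∣ 2 * k + 1) : a = 2 * k + 1 ∧ d = k := by
  obtain ⟨b, hb⟩ := hdvd
  obtain ⟨u, hu⟩ := hmod
  have hdk : d ≤ k := Nat.le_of_dvd (by omega) hd
  have hb' : ((k : ℤ) + 1) * (2 * k + 1) = a * b := by exact_mod_cast hb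
  obtain ⟨w, hw⟩ : (k : ℤ) ∣ (b : ℤ) - 1 := by
    refine ⟨2 * k + 3 - b * u, ?_⟩
    have e1 : (a : ℤ) = k * u + 1 := by linarith
    rw [e1] at hb'
    linear_combination -hb'
  have hsum : u + w + u * w * k = 2 * (k : ℤ) + 3 := by
    have e1 : (a : ℤ) = k * u + 1 := by linarith
    have e2 : (b : ℤ) = k * w + 1 := by linarith
    rw [e1, e2] at hb'
    have h3 : (k : ℤ) * (u + w + u * w * k) = k * (2 * k + 3) := by linear_combination -hb'
    exact mul_left_cancel₀ (by positivity) h3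
  have hu1 : 1 ≤ u := by
    have : (2 : ℤ) ≤ a := by exact_mod_cast ha
    nlinarith
  have hbpos : 0 < b := by
    rcases Nat.eq_zero_or_pos b with e0 | e0
    · rw [e0, mul_zero] at hb
      have : 0 < (k + 1) * (2 * k + 1) := by positivity
      omega
    · exact e0
  have hed : e * d = 2 * k * b := by
    apply Nat.eq_of_mul_eq_mul_left (show 0 < a by omega)
    rw [← mul_assoc, mul_comm a e, mul_assoc, he, hb]; ring
  have hw0 : 0 ≤ w := by
    have : (1 : ℤ) ≤ b := by exact_mod_cast hbpos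
    nlinarith
  rcases hw0.eq_or_lt with hw0 | hw0
  · exfalso
    subst hw0
    have hb1 : b = 1 := by
      have : (b : ℤ) = 1 := by linarith
      exact_mod_cast this
    rw [hb1, mul_one] at hed hb
    have he0 : 0 < e := by
      rcases Nat.eq_zero_or_pos e with e0 | e0
      · rw [e0, zero_mul] at hed; omega
      · exact e0
    have hea : e ≤ 2 * k := by
      calc e ≤ e * d := Nat.le_mul_of_pos_right e (by omega)
        _ = 2 * k := hed
    rcases Nat.eq_zero_or_pos (e - 1) with e0 | e0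
    · have : e = 1 := by omega
      rw [this] at hed; omega
    · have := Nat.le_of_dvd e0 hcong
      have : a ≤ 2 * k := by omega
      nlinarith
  have huw : u * w ≤ 2 := by
    by_contra hh
    have h3 : 3 ≤ u * w := by omega
    nlinarith
  have hu2 : u ≤ 2 := by nlinarith
  have hw2 : w ≤ 2 := by nlinarith
  have hcase : (u = 1 ∧ w = 2) ∨ (u = 2 ∧ w = 1) := by
    interval_cases u <;> interval_cases w <;> omega
  rcases hcase with ⟨e1, e2⟩ | ⟨e1, e2⟩
  · exfalso
    subst e1
    have : a = k + 1 := by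
      have : (a : ℤ) = k + 1 := by linarith
      exact_mod_cast this
    rw [this] at hpa
    have h1 : p ∣ 1 := by
      have := Nat.dvd_sub (Dvd.dvd.mul_left hpa 2) hpq
      rwa [show 2 * (k + 1) - (2 * k + 1) = 1 by omega] at this
    exact hp.one_lt.ne' (Nat.dvd_one.1 h1)
  · subst e1; subst e2
    have ha' : a = 2 * k + 1 := by
      have : (a : ℤ) = 2 * k + 1 := by linarith
      exact_mod_cast this
    have hb1 : b = k + 1 := by
      have : (b : ℤ) = k + 1 := by linarith
      exact_mod_cast this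
    refine ⟨ha', ?_⟩
    subst ha'; subst hb1
    have he1 : 1 ≤ e := by
      rcases Nat.eq_zero_or_pos e with e0 | e0
      · rw [e0, zero_mul] at hed
        have : 0 < 2 * k * (k + 1) := by positivity
        omega
      · exact e0
    obtain ⟨j, hj⟩ := hcong
    have hdiv : (2 * (k : ℤ) + 1) ∣ 2 * d + 1 := by
      refine ⟨2 * k + 1 - 2 * j * d, ?_⟩
      have hj' : (e : ℤ) = 1 + (2 * k + 1) * j := by
        have : e = 1 + (2 * k + 1) * j := by omega
        exact_mod_cast this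
      have hed' : (e : ℤ) * d = 2 * k * (k + 1) := by exact_mod_cast hed
      rw [hj'] at hed'
      linear_combination 2 * hed'
    have := Int.le_of_dvd (by positivity) hdiv
    omega

/-- Arithmetic for the case `η = -1`. -/
theorem arith_neg {k m q d e : ℕ} (hk : 2 ≤ k) (hkeven : 2 ∣ k) (hmq : m * q = 2 * k - 1)
    (hd : d ∣ k) (hd2 : 2 ≤ d) (he : e * (d * ((k - 1) * m)) = 2 * k * ((k - 1) * (2 * k - 1)))
    (hcong : (k - 1) * m ∣ e - 1) : m = 1 ∧ d = 2 := by
  obtain ⟨c, hc⟩ := hd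
  have hkm : 0 < k - 1 := by omega
  have hm0 : 0 < m := by
    rcases Nat.eq_zero_or_pos m with e0 | e0
    · rw [e0, zero_mul] at hmq; omega
    · exact e0
  have hc0 : 0 < c := by
    rcases Nat.eq_zero_or_pos c with e0 | e0
    · rw [e0, mul_zero] at hc; omega
    · exact e0
  have heq : e = 2 * c * q := by
    have h1 : e * d * m * (k - 1) = 2 * k * (2 * k - 1) * (k - 1) := by
      calc _ = e * (d * ((k - 1) * m)) := by ring
        _ = _ := by rw [he]; ring
    have h2 := Nat.eq_of_mul_eq_mul_right hkm h1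
    rw [← hmq] at h2
    have h3 : e * (d * m) = (2 * c * q) * (d * m) := by
      calc e * (d * m) = e * d * m := by ring
        _ = 2 * k * (m * q) := h2
        _ = _ := by rw [hc]; ring
    exact Nat.eq_of_mul_eq_mul_right (by positivity) h3
  obtain ⟨j, hj⟩ := hcong
  have hq0 : 0 < q := by
    rcases Nat.eq_zero_or_pos q with e0 | e0
    · rw [e0, mul_zero] at hmq; omega
    · exact e0
  have he1 : 1 ≤ e := by rw [heq]; have : 0 < 2 * c * q := by positivity
                         omega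
  have hEq : (2 * (c : ℤ)) * (2 * k - 1) = m + j * (k - 1) * m ^ 2 := by
    have h1 : ((m * q : ℕ) : ℤ) = 2 * k - 1 := by rw [hmq]; omega
    have h2 : (e : ℤ) = 1 + ((k - 1 : ℕ) : ℤ) * m * j := by
      have : e = 1 + (k - 1) * m * j := by omega
      exact_mod_cast this
    rw [show ((k - 1 : ℕ) : ℤ) = (k : ℤ) - 1 by omega, heq] at h2
    push_cast at h1 h2
    rw [← h1]
    linear_combination (m : ℤ) * h2
  have hdiv : ((k : ℤ) - 1) ∣ 2 * (c : ℤ) - m := by
    refine ⟨j * m ^ 2 - 4 * c, ?_⟩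
    linear_combination hEq
  have hmodd : m % 2 = 1 := by
    have h1 : (m * q) % 2 = 1 := by rw [hmq]; omega
    rw [Nat.mul_mod] at h1
    have := Nat.mod_lt m (show 0 < 2 by norm_num)
    interval_cases h : m % 2
    · simp at h1
    · rfl
  have hck : 2 * c ≤ k := by rw [hc]; exact Nat.mul_le_mul_right c hd2
  have hj0 : 1 ≤ j := by
    by_contra hj0
    have : j = 0 := by omega
    rw [this, mul_zero] at hj
    have he' : e = 1 := by omega
    rw [heq] at he'
    have : 2 ∣ 1 := he' ▸ (dvd_mul_of_dvd_left (dvd_mul_right 2 c) q)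
    norm_num at this
  rcases lt_trichotomy (2 * c : ℕ) m with hlt | heq' | hgt
  · exfalso
    have h1 : (k : ℤ) - 1 ≤ (m : ℤ) - 2 * c :=
      Int.le_of_dvd (by omega) (dvd_sub_comm.1 hdiv)
    have h3 : (k : ℤ) + 1 ≤ m := by omega
    have h4 : ((k : ℤ) - 1) * m ^ 2 ≤ j * (k - 1) * m ^ 2 := by
      have : (1 : ℤ) ≤ j := by exact_mod_cast hj0
      nlinarith [mul_nonneg (by omega : (0 : ℤ) ≤ (k : ℤ) - 1) (sq_nonneg (m : ℤ))]
    have h5 : 2 * (c : ℤ) * (2 * k - 1) ≤ k * (2 * k - 1) :=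
      mul_le_mul_of_nonneg_right (by exact_mod_cast hck) (by omega)
    have h6 : ((k : ℤ) + 1) ^ 2 ≤ (m : ℤ) ^ 2 := pow_le_pow_left₀ (by omega) h3 2
    have h7 := mul_le_mul_of_nonneg_left h6 (by omega : (0 : ℤ) ≤ (k : ℤ) - 1)
    nlinarith
  · omega
  · have h1 := Int.le_of_dvd (by omega : (0 : ℤ) < 2 * c - m) hdiv
    have hm1 : m = 1 := by omega
    refine ⟨hm1, ?_⟩
    have h2c : 2 * c = k := by omega
    have : d * c = 2 * c := by rw [← hc, h2c]
    exact Nat.eq_of_mul_eq_mul_right hc0 this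

end Cfsg.Agent.Lib.BSW
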