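import Cfsg.Agent.Lib.BSW.Real

/-!
# The case `|G| = 2k(k-1)(2k-1)`
-/

namespace Cfsg.Agent.Lib.BSW

open Cfsg.Agent.Lib.Involutions.Basic Cfsg.Agent.Lib.Characters.Complete

variable {G : Type*} [Group G] [Finite G] {t s : G} {K : Subgroup G}

theorem odd_orderOf_mem_of_index_two {A M : Subgroup G} (hAM : A ≤ M)
    (hcard : Nat.card M = Nat.card A * 2) {x : G} (hx : x ∈ M) (hodd : Odd (orderOf x)) :
    x ∈ A := by
  have hidx : (A.subgroupOf M).index = 2 := by
    have h3 := Subgroup.card_mul_index (A.subgroupOf M)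
    rw [Nat.card_congr (Subgroup.subgroupOfEquivOfLe hAM).toEquiv, hcard] at h3
    exact Nat.eq_of_mul_eq_mul_left Nat.card_pos h3
  have h2 := Subgroup.sq_mem_of_index_two hidx (⟨x, hx⟩ : M)
  simp only [Subgroup.mem_subgroupOf, SubmonoidClass.coe_pow] at h2
  obtain ⟨j, hj⟩ := hodd
  have e : x = (x ^ 2) ^ (j + 1) := by
    rw [← pow_mul, show 2 * (j + 1) = orderOf x + 1 by omega, pow_succ, pow_orderOf_eq_one, one_mul]
  rw [e]; exact pow_mem h2 _

section

variable (h : Hyp t s K) (k : ℕ)
  (hk : k = Nat.card K)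
  (hord : Nat.card G = 2 * Nat.card K * ((k - 1) * (2 * k - 1)))
  (hN : ∀ y : G, Outside K y → ∃ C : ℤ, (Nat.card (Pairs y) : ℤ) = ((k : ℤ) - 1) * (1 - C))
include h hk hord hN

omit hord hN in
theorem two_le_k : 2 ≤ k := hk ▸ Nat.le_of_dvd Nat.card_pos h.even_card

omit hord hN in
theorem coprime_m : ((k - 1) * (2 * k - 1)).Coprime (Nat.card K) := by
  have h2 := two_le_k h k hk
  rw [← hk]
  refine Nat.Coprime.mul_left ?_ ?_ <;> refine Nat.coprime_of_dvd fun r hr h1 h3 => ?_
  · have := Nat.dvd_sub h3 h1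
    rw [show k - (k - 1) = 1 by omega] at this
    exact hr.one_lt.ne' (Nat.dvd_one.1 this)
  · have := Nat.dvd_sub (Dvd.dvd.mul_left h3 2) h1
    rw [show 2 * k - (2 * k - 1) = 1 by omega] at this
    exact hr.one_lt.ne' (Nat.dvd_one.1 this)

/-- A real outside element has centraliser of order `k - 1`, with a normaliser twice as big. -/
theorem real_card {y u : G} (hy : Outside K y) (hu : orderOf u = 2)
    (hinv : u * y * u⁻¹ = y⁻¹) :
    Nat.card (Subgroup.centralizer ({y} : Set G)) = k - 1 ∧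
      Subgroup.normalizer (Subgroup.centralizer ({y} : Set G) : Set G) =
        Subgroup.centralizer ({y} : Set G) ⊔ Subgroup.zpowers u ∧
      Nat.card ↥(Subgroup.normalizer (Subgroup.centralizer ({y} : Set G) : Set G)) =
        Nat.card (Subgroup.centralizer ({y} : Set G)) * 2 := by
  have h2 := two_le_k h k hk
  obtain ⟨g, hg⟩ := isConj_iff.1 (h.conj t u h.ht hu)
  obtain ⟨D, -, huD, hsup, hdvd, h2D, hidx, hcong⟩ :=
    real_data h hord (coprime_m h k hk) hy hu hinv hg
  set a := Nat.card (Subgroup.centralizer ({y} : Set G)) with ha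
  obtain ⟨C, hC⟩ := hN y hy
  rw [hy.card_pairs_real h hu hinv, ← ha] at hC
  obtain ⟨j, hj⟩ : (k - 1) ∣ a := by
    rw [← Int.natCast_dvd_natCast]
    exact ⟨1 - C, by rw [hC]; congr 1; omega⟩
  obtain ⟨q, hq⟩ : j ∣ 2 * k - 1 := by
    have := centralizer_dvd h hord (coprime_m h k hk) hy
    rw [← ha, hj] at this
    exact Nat.dvd_of_mul_dvd_mul_left (by omega) this
  rw [← hk] at hdvd
  obtain ⟨hj1, hD2⟩ := arith_neg h2 (hk ▸ h.even_card) hq.symm hdvd h2D
    (e := (Subgroup.normalizer (Subgroup.centralizer ({y} : Set G) : Set G)).index)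
    (by rw [← hj, mul_comm (Nat.card D) a, hidx, hord, ← hk]) (by rw [← hj]; exact hcong)
  have hzp : Subgroup.zpowers u = D := Subgroup.eq_of_le_of_card_ge (Subgroup.zpowers_le.2 huD)
    (by rw [hD2, Nat.card_zpowers, hu])
  refine ⟨by rw [hj, hj1, mul_one], by rw [hzp, hsup], ?_⟩
  have hc := Subgroup.card_mul_index
    (Subgroup.normalizer (Subgroup.centralizer ({y} : Set G) : Set G))
  rw [← hidx, hD2, mul_comm] at hc
  refine Nat.eq_of_mul_eq_mul_left ?_ hc
  exact Nat.pos_of_ne_zero Subgroup.index_ne_zero_of_finite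

omit hN in
theorem index_card_sub_one {A : Subgroup G} (hA : Nat.card A = k - 1) :
    A.index = 2 * k * (2 * k - 1) := by
  have h2 := two_le_k h k hk
  have := A.card_mul_index
  rw [hA, hord, ← hk] at this
  refine Nat.eq_of_mul_eq_mul_left (show 0 < k - 1 by omega) ?_
  rw [this]; ring

omit hN in
theorem not_dvd_index_of_dvd {A : Subgroup G} (hA : Nat.card A = k - 1) {r : ℕ} (hr : r.Prime)
    (hrk : r ∣ k - 1) : ¬ r ∣ A.index := by
  have h2 := two_le_k h k hk
  obtain ⟨c, hc⟩ := (hk ▸ h.even_card : 2 ∣ k)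
  rw [index_card_sub_one h k hk hord hA, hr.dvd_mul, hr.dvd_mul]
  rintro ((e | e) | e)
  · have : r = 2 := (Nat.prime_dvd_prime_iff_eq hr Nat.prime_two).1 e
    subst this; omega
  · have := Nat.dvd_sub e hrk
    rw [show k - (k - 1) = 1 by omega] at this
    exact hr.one_lt.ne' (Nat.dvd_one.1 this)
  · have := Nat.dvd_sub e (Dvd.dvd.mul_left hrk 2)
    rw [show 2 * k - 1 - 2 * (k - 1) = 1 by omega] at this
    exact hr.one_lt.ne' (Nat.dvd_one.1 this)

omit hord hN in
theorem card_invol : Nat.card {x : G // orderOf x = 2} * (2 * k) = Nat.card G := by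
  rw [hk, ← h.card_C, ← card_conjugates_mul_centralizer t]
  congr 1
  refine Nat.card_congr (_root_.Equiv.subtypeEquivRight fun x => ⟨fun hx => h.conj t x h.ht hx, ?_⟩)
  intro hc
  obtain ⟨c, rfl⟩ := isConj_iff.1 hc
  rw [orderOf_conj_eq]; exact h.ht

omit hord hN in
theorem card_conjK : Nat.card {y : G // y ≠ 1 ∧ ∃ g : G, g * y * g⁻¹ ∈ K} * (2 * k) =
    Nat.card G * (k - 1) := by
  rw [hk, ← h.card_C]
  refine card_conjSet K _ (fun x hx hx1 g hg => (h.centralizer_t g).2 (h.ti x hx hx1 g hg))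
    fun n hn x hx => ?_
  by_cases hnK : n ∈ K
  · rw [h.comm n hnK x hx, mul_inv_cancel_right]; exact hx
  · rw [h.inverts_of_notMem hnK ((h.centralizer_t n).1 hn) hx]; exact inv_mem hx

theorem exists_real (h4 : k ≠ 2) : ∃ y : G, Outside K y ∧ Real' y := by
  classical
  have h2 := two_le_k h k hk
  by_contra hno
  push Not at hno
  have := Fintype.ofFinite G
  set S := Finset.univ.filter fun y : G => y ≠ 1 ∧ ∃ g : G, g * y * g⁻¹ ∈ K with hS
  set n := Nat.card {x : G // orderOf x = 2} with hn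
  have h1 : Nat.card (Pairs (1 : G)) = n := by
    refine Nat.card_congr
      { toFun := fun p => ⟨p.1.1, p.2.1⟩
        invFun := fun u => ⟨(u.1, u.1), u.2, u.2, invol_mul_self u.2⟩
        left_inv := fun p => ?_
        right_inv := fun u => rfl }
    refine Subtype.ext (Prod.ext rfl ?_)
    show p.1.1 = p.1.2
    rw [← invol_inv p.2.1]
    exact inv_eq_of_mul_eq_one_right p.2.2.2
  have hsum : n * n = ∑ y : G, Nat.card (Pairs y) := by
    rw [← Nat.card_sigma, hn, ← Nat.card_prod]
    exact Nat.card_congr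
      { toFun := fun p => ⟨p.1.1 * p.2.1, (p.1.1, p.2.1), p.1.2, p.2.2, rfl⟩
        invFun := fun q => (⟨q.2.1.1, q.2.2.1⟩, ⟨q.2.1.2, q.2.2.2.1⟩)
        left_inv := fun p => rfl
        right_inv := fun q => by
          obtain ⟨y, ⟨⟨a, b⟩, ha, hb, rfl⟩⟩ := q
          rfl }
  have hval : ∀ y : G, Nat.card (Pairs y) =
      (if y = 1 then n else 0) + (if y ∈ S then k else 0) := by
    intro y
    by_cases hy1 : y = 1
    · subst hy1; rw [if_pos rfl, if_neg (by simp [hS]), h1, add_zero]
    rw [if_neg hy1, zero_add]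
    by_cases hyS : y ∈ S
    · rw [if_pos hyS]
      obtain ⟨-, g, hg⟩ := (Finset.mem_filter.1 hyS).2
      have hne : g * y * g⁻¹ ≠ 1 := by simpa using hy1
      rw [hk, ← h.card_pairs hg hne]
      refine Nat.card_congr
        { toFun := fun p => ⟨(g * p.1.1 * g⁻¹, g * p.1.2 * g⁻¹),
            by rw [orderOf_conj_eq]; exact p.2.1, by rw [orderOf_conj_eq]; exact p.2.2.1, by
              conv_rhs => rw [← p.2.2.2]
              group⟩
          invFun := fun p => ⟨(g⁻¹ * p.1.1 * g⁻¹⁻¹, g⁻¹ * p.1.2 * g⁻¹⁻¹),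
            by rw [orderOf_conj_eq]; exact p.2.1, by rw [orderOf_conj_eq]; exact p.2.2.1, by
              calc g⁻¹ * p.1.1 * g⁻¹⁻¹ * (g⁻¹ * p.1.2 * g⁻¹⁻¹) = g⁻¹ * (p.1.1 * p.1.2) * g := by group
                _ = y := by rw [p.2.2.2]; group⟩
          left_inv := fun p => Subtype.ext (Prod.ext (by simp [mul_assoc]) (by simp [mul_assoc]))
          right_inv := fun p => Subtype.ext (Prod.ext (by simp [mul_assoc]) (by simp [mul_assoc])) }
    · rw [if_neg hyS]
      refine Outside.card_pairs_nonreal (hno y fun g hg => hyS ?_)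
      simp [hS, hy1]
      exact ⟨g, hg⟩
  rw [Finset.sum_congr rfl fun y _ => hval y, Finset.sum_add_distrib, Finset.sum_ite_eq',
    if_pos (Finset.mem_univ _), Finset.sum_ite_mem, Finset.univ_inter, Finset.sum_const,
    smul_eq_mul] at hsum
  have hScard : S.card = Nat.card {y : G // y ≠ 1 ∧ ∃ g : G, g * y * g⁻¹ ∈ K} := by
    rw [Nat.card_eq_fintype_card, Fintype.card_subtype]
  have e1 := card_conjK h k hk
  have e2 := card_invol h k hk
  rw [← hScard, ← e2] at e1
  rw [hord, ← hk] at e2
  have hSn : S.card = n * (k - 1) :=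
    Nat.eq_of_mul_eq_mul_right (show 0 < 2 * k by omega) (e1.trans (by rw [hn]; ring))
  have hnval : n = (k - 1) * (2 * k - 1) :=
    Nat.eq_of_mul_eq_mul_right (show 0 < 2 * k by omega) (e2.trans (by ring))
  rw [hSn, show n * n = n * n from rfl, show n + n * (k - 1) * k = n * (1 + (k - 1) * k) by ring] at hsum
  have hnpos : 0 < n := by
    rw [hnval]; exact Nat.mul_pos (by omega) (by omega)
  have h3 := Nat.eq_of_mul_eq_mul_left hnpos hsum
  rw [hnval] at h3
  obtain ⟨j, rfl⟩ : ∃ j, k = j + 3 := ⟨k - 3, by omega⟩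
  rw [show j + 3 - 1 = j + 2 by omega, show 2 * (j + 3) - 1 = 2 * j + 5 by omega] at h3
  nlinarith

/-- Elements of prime order `r ∣ k - 1` are conjugate into any given real centraliser. -/
theorem conj_into_real {y u : G} (hy : Outside K y) (hu : orderOf u = 2)
    (hinv : u * y * u⁻¹ = y⁻¹) {r : ℕ} (hr : r.Prime) (hrk : r ∣ k - 1) {c : G}
    (hc : orderOf c = r) :
    ∃ g : G, g * c * g⁻¹ ∈ Subgroup.centralizer ({y} : Set G) := by
  haveI := Fact.mk hr
  exact exists_conj_mem_of_not_dvd_index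
    (not_dvd_index_of_dvd h k hk hord (real_card h k hk hord hN hy hu hinv).1 hr hrk) hc

omit hk hord hN in
theorem real_of_mem {y u c : G} (hy : Outside K y) (hu : orderOf u = 2)
    (hinv : u * y * u⁻¹ = y⁻¹) (hc : c ∈ Subgroup.centralizer ({y} : Set G)) : Real' c :=
  ⟨u, hu, hy.invert_centralizer h hu hinv hc⟩

theorem nonreal_dvd {y : G} (hy : Outside K y) (hnr : ¬ Real' y) :
    Nat.card (Subgroup.centralizer ({y} : Set G)) ∣ 2 * k - 1 := by
  have h2 := two_le_k h k hk
  refine Nat.Coprime.dvd_of_dvd_mul_left ?_ (centralizer_dvd h hord (coprime_m h k hk) hy)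
  refine Nat.coprime_of_dvd fun r hr hra hrk => hnr ?_
  haveI := Fact.mk hr
  have hk2 : k ≠ 2 := by
    intro e
    rw [e] at hrk
    exact hr.one_lt.ne' (Nat.dvd_one.1 hrk)
  obtain ⟨y', hy', u, hu, hinv⟩ := exists_real h k hk hord hN hk2
  obtain ⟨⟨c, hc⟩, hco⟩ := exists_prime_orderOf_dvd_card' r hra
  have hco' : orderOf c = r := by rwa [← Subgroup.orderOf_coe] at hco
  have hc1 : c ≠ 1 := fun e => hr.one_lt.ne' (by rw [← hco', e, orderOf_one])
  obtain ⟨g, hg⟩ := conj_into_real h k hk hord hN hy' hu hinv hr hrk hco'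
  have hcr : Real' c := by
    have := (real_of_mem h hy' hu hinv hg).conj g⁻¹
    simpa [mul_assoc] using this
  obtain ⟨v, hv, hvc⟩ := hcr
  have hyc : y ∈ Subgroup.centralizer ({c} : Set G) :=
    Subgroup.mem_centralizer_singleton_iff.2 (Subgroup.mem_centralizer_singleton_iff.1 hc).symm
  exact real_of_mem h (hy.mem_centralizer h hc hc1) hv hvc hyc

/-- There are `(2k-1)² - 1` outside elements that are not real. -/
theorem card_nonreal : Nat.card {y : G // Outside K y ∧ ¬ Real' y} = 4 * k * (k - 1) := by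
  classical
  have h2 := two_le_k h k hk
  have := Fintype.ofFinite G
  set nS := Nat.card {y : G // y ≠ 1 ∧ ∃ g : G, g * y * g⁻¹ ∈ K}
  set nR := Nat.card {y : G // Outside K y ∧ Real' y}
  set nZ := Nat.card {y : G // Outside K y ∧ ¬ Real' y}
  have htot : Nat.card G = 1 + nS + nR + nZ := by
    simp only [nS, nR, nZ, Nat.card_eq_fintype_card, Fintype.card_subtype]
    refine (congrArg Finset.card (show (Finset.univ : Finset G) =
      {1} ∪ (Finset.univ.filter fun y : G => y ≠ 1 ∧ ∃ g : G, g * y * g⁻¹ ∈ K) ∪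
        (Finset.univ.filter fun y : G => Outside K y ∧ Real' y) ∪
        (Finset.univ.filter fun y : G => Outside K y ∧ ¬ Real' y) from ?_)).trans ?_
    rotate_left
    · rw [Finset.card_union_of_disjoint, Finset.card_union_of_disjoint,
        Finset.card_union_of_disjoint, Finset.card_singleton]
      all_goals
        rw [Finset.disjoint_left]
        intro x hx hx'
        simp only [Finset.mem_union, Finset.mem_singleton, Finset.mem_filter, Finset.mem_univ,
          true_and] at hx hx'
        have A1 : Outside K x → x ≠ 1 ∧ ¬ ∃ g : G, g * x * g⁻¹ ∈ K :=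
          fun ho => ⟨ho.ne_one, fun ⟨g, hg⟩ => ho g hg⟩
        tauto
    · ext y
      simp only [Finset.mem_univ, Finset.mem_union, Finset.mem_singleton, Finset.mem_filter,
        true_and, true_iff]
      by_cases h1 : y = 1
      · simp [h1]
      by_cases hS : ∃ g : G, g * y * g⁻¹ ∈ K
      · simp [h1, hS]
      · have ho : Outside K y := fun g hg => hS ⟨g, hg⟩
        by_cases hr : Real' y <;> simp [ho, hr]
  have hR : nR * (2 * (k - 1)) = Nat.card G * (k - 2) := by
    by_cases hk2 : k = 2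
    · have : IsEmpty {y : G // Outside K y ∧ Real' y} := ⟨fun ⟨y, hy, u, hu, hinv⟩ => by
        have e := (real_card h k hk hord hN hy hu hinv).1
        rw [hk2] at e
        have hmem : y ∈ Subgroup.centralizer ({y} : Set G) :=
          Subgroup.mem_centralizer_singleton_iff.2 rfl
        rw [(Subgroup.card_eq_one (H := Subgroup.centralizer ({y} : Set G))).1 e,
          Subgroup.mem_bot] at hmem
        exact hy.ne_one hmem⟩
      simp [nR, hk2]
    obtain ⟨y, hy, u, hu, hinv⟩ := exists_real h k hk hord hN hk2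
    obtain ⟨hA, -, hM⟩ := real_card h k hk hord hN hy hu hinv
    have hcs := card_conjSet (Subgroup.centralizer ({y} : Set G))
      (Subgroup.normalizer (Subgroup.centralizer ({y} : Set G) : Set G)) (fun x hx hx1 g hg => by
        have e1 := hy.centralizer_eq h hu hinv hx hx1
        have e2 := hy.centralizer_eq h hu hinv hg (by simpa using hx1)
        rw [Subgroup.mem_normalizer_iff]
        intro c
        conv_lhs => rw [← e1, Subgroup.mem_centralizer_singleton_iff]
        conv_rhs => rw [← e2, Subgroup.mem_centralizer_singleton_iff]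
        constructor
        · intro e
          calc g * c * g⁻¹ * (g * x * g⁻¹) = g * (c * x) * g⁻¹ := by group
            _ = _ := by rw [e]; group
        · intro e
          calc c * x = g⁻¹ * (g * c * g⁻¹ * (g * x * g⁻¹)) * g := by group
            _ = _ := by rw [e]; group)
      fun n hn x hx => (Subgroup.mem_normalizer_iff.1 hn x).1 hx
    rw [hM, hA, mul_comm (k - 1) 2, show k - 1 - 1 = k - 2 by omega] at hcs
    rw [← hcs]
    congr 1
    refine Nat.card_congr (_root_.Equiv.subtypeEquivRight fun x => ⟨?_, ?_⟩)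
    · rintro ⟨hx, v, hv, hvx⟩
      refine ⟨hx.ne_one, ?_⟩
      obtain ⟨hB, -, -⟩ := real_card h k hk hord hN hx hv hvx
      obtain ⟨r, hr, hrk⟩ := Nat.exists_prime_and_dvd (show k - 1 ≠ 1 by omega)
      haveI := Fact.mk hr
      obtain ⟨⟨c, hc⟩, hco⟩ := exists_prime_orderOf_dvd_card' r (hB ▸ hrk :
        r ∣ Nat.card (Subgroup.centralizer ({x} : Set G)))
      have hco' : orderOf c = r := by rwa [← Subgroup.orderOf_coe] at hco
      have hc1 : c ≠ 1 := fun e => hr.one_lt.ne' (by rw [← hco', e, orderOf_one])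
      obtain ⟨g, hg⟩ := conj_into_real h k hk hord hN hy hu hinv hr hrk hco'
      refine ⟨g, ?_⟩
      rw [← hy.centralizer_eq h hu hinv hg (by simpa using hc1),
        Subgroup.mem_centralizer_singleton_iff]
      have e := Subgroup.mem_centralizer_singleton_iff.1 hc
      calc g * x * g⁻¹ * (g * c * g⁻¹) = g * (x * c) * g⁻¹ := by group
        _ = _ := by rw [← e]; group
    · rintro ⟨hx1, g, hg⟩
      have ho := (hy.mem_centralizer h hg (by simpa using hx1)).conj g⁻¹
      have hr := (real_of_mem h hy hu hinv hg).conj g⁻¹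
      simp only [inv_inv, mul_assoc, inv_mul_cancel_left, inv_mul_cancel, mul_one] at ho hr
      exact ⟨ho, hr⟩
  have e1 : nS * (2 * k) = Nat.card G * (k - 1) := card_conjK h k hk
  rw [hord, ← hk] at htot hR e1
  obtain ⟨j, rfl⟩ : ∃ j, k = j + 2 := ⟨k - 2, by omega⟩
  simp only [show j + 2 - 1 = j + 1 by omega, show j + 2 - 2 = j by omega,
    show 2 * (j + 2) - 1 = 2 * j + 3 by omega] at htot hR e1 ⊢
  have hSv : nS = (j + 1) * (2 * j + 3) * (j + 1) :=
    Nat.eq_of_mul_eq_mul_right (show 0 < 2 * (j + 2) by omega) (e1.trans (by ring))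
  have hRv : nR = (j + 2) * (2 * j + 3) * j :=
    Nat.eq_of_mul_eq_mul_right (show 0 < 2 * (j + 1) by omega) (hR.trans (by ring))
  rw [hSv, hRv] at htot
  nlinarith [htot]

theorem nonreal_class {y : G} (hy : Outside K y) (hnr : ¬ Real' y) :
    Nat.card (Subgroup.centralizer ({y} : Set G)) = 2 * k - 1 ∧
      ∀ z : G, Outside K z → ¬ Real' z → IsConj y z ∨ IsConj y⁻¹ z := by
  classical
  have h2 := two_le_k h k hk
  have := Fintype.ofFinite G
  set a := Nat.card (Subgroup.centralizer ({y} : Set G)) with ha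
  have hC : Subgroup.centralizer ({y⁻¹} : Set G) = Subgroup.centralizer ({y} : Set G) := by
    ext c
    simp only [Subgroup.mem_centralizer_singleton_iff]
    exact ⟨fun e => (Commute.inv_right_iff.1 e).eq, fun e => (Commute.inv_right_iff.2 e).eq⟩
  have hale : a ≤ 2 * k - 1 := Nat.le_of_dvd (by omega) (nonreal_dvd h k hk hord hN hy hnr)
  set T := Finset.univ.filter fun z : G => IsConj y z
  set T' := Finset.univ.filter fun z : G => IsConj y⁻¹ z
  set Z := Finset.univ.filter fun z : G => Outside K z ∧ ¬ Real' z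
  have hT : T.card * a = Nat.card G := by
    have := card_conjugates_mul_centralizer y
    rwa [Nat.card_eq_fintype_card, Fintype.card_subtype] at this
  have hT' : T'.card * a = Nat.card G := by
    have := card_conjugates_mul_centralizer y⁻¹
    rwa [hC, Nat.card_eq_fintype_card, Fintype.card_subtype] at this
  have hdisj : Disjoint T T' := by
    rw [Finset.disjoint_left]
    intro z hz hz'
    simp only [T, T', Finset.mem_filter, Finset.mem_univ, true_and] at hz hz'
    exact hnr (hy.real_of_isConj h (hz.trans hz'.symm))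
  have hsub : T ∪ T' ⊆ Z := by
    intro z hz
    simp only [T, T', Z, Finset.mem_union, Finset.mem_filter, Finset.mem_univ, true_and] at hz ⊢
    rcases hz with hz | hz
    · obtain ⟨c, rfl⟩ := isConj_iff.1 hz
      refine ⟨hy.conj c, fun hr => hnr ?_⟩
      have := hr.conj c⁻¹
      simpa [mul_assoc] using this
    · obtain ⟨c, rfl⟩ := isConj_iff.1 hz
      have hyi : Outside K y⁻¹ := fun g hg => hy g (by simpa [mul_assoc] using inv_mem hg)
      refine ⟨hyi.conj c, fun hr => hnr ?_⟩
      have := hr.conj c⁻¹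
      obtain ⟨u, hu, e⟩ := this
      refine ⟨u, hu, ?_⟩
      simp only [inv_inv, mul_assoc, inv_mul_cancel_left, inv_mul_cancel, mul_one] at e
      have := congrArg (·⁻¹) e
      simpa [mul_assoc] using this
  have hZ : Z.card = 4 * k * (k - 1) := by
    rw [← card_nonreal h k hk hord hN, Nat.card_eq_fintype_card, Fintype.card_subtype]
  have hle := Finset.card_le_card hsub
  rw [Finset.card_union_of_disjoint hdisj, hZ] at hle
  have hapos : 0 < a := Nat.card_pos
  have hTT : T'.card = T.card := Nat.eq_of_mul_eq_mul_right hapos (hT'.trans hT.symm)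
  rw [hord, ← hk] at hT
  have hTle : T.card ≤ 2 * k * (k - 1) := by
    rw [show 4 * k * (k - 1) = 2 * k * (k - 1) + 2 * k * (k - 1) by ring] at hle
    omega
  have hpos : 0 < 2 * k * (k - 1) := Nat.mul_pos (by omega) (by omega)
  have hae : a = 2 * k - 1 := by
    refine le_antisymm hale (Nat.le_of_mul_le_mul_left ?_ hpos)
    calc 2 * k * (k - 1) * (2 * k - 1) = T.card * a := by rw [hT]; ring
      _ ≤ 2 * k * (k - 1) * a := Nat.mul_le_mul_right a hTle
  refine ⟨hae, fun z hz hnz => ?_⟩
  have hTeq : T.card = 2 * k * (k - 1) := by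
    rw [hae] at hT
    exact Nat.eq_of_mul_eq_mul_right (show 0 < 2 * k - 1 by omega) (hT.trans (by ring))
  have hEq : T ∪ T' = Z := Finset.eq_of_subset_of_card_le hsub (by
    rw [Finset.card_union_of_disjoint hdisj, hZ, hTT, hTeq]; linarith)
  have : z ∈ T ∪ T' := by rw [hEq]; simp [Z, hz, hnz]
  simpa [T, T'] using this

end

end Cfsg.Agent.Lib.BSW
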