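import Cfsg.Agent.Lib.BSW.EtaNeg

/-!
# The case `|G| = 2k(k-1)(2k-1)`: the Sylow subgroup of order `2k-1`
-/

namespace Cfsg.Agent.Lib.BSW

open Cfsg.Agent.Lib.Involutions.Basic Cfsg.Agent.Lib.Characters.Complete

variable {G : Type*} [Group G] [Finite G] {t s : G} {K : Subgroup G}

variable (h : Hyp t s K) (k : ℕ)
  (hk : k = Nat.card K)
  (hord : Nat.card G = 2 * Nat.card K * ((k - 1) * (2 * k - 1)))
  (hN : ∀ y : G, Outside K y → ∃ C : ℤ, (Nat.card (Pairs y) : ℤ) = ((k : ℤ) - 1) * (1 - C))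
include h hk hord hN

omit hord hN in
theorem not_dvd_of_dvd_q {p : ℕ} (hp : p.Prime) (hpq : p ∣ 2 * k - 1) :
    ¬ p ∣ k ∧ ¬ p ∣ k - 1 ∧ ¬ p ∣ 2 * k * (k - 1) := by
  have h2 := two_le_k h k hk
  have e1 : ¬ p ∣ k := fun e => by
    have := Nat.dvd_sub (Dvd.dvd.mul_left e 2) hpq
    rw [show 2 * k - (2 * k - 1) = 1 by omega] at this
    exact hp.one_lt.ne' (Nat.dvd_one.1 this)
  have e2 : ¬ p ∣ k - 1 := fun e => by
    have := Nat.dvd_sub hpq (Dvd.dvd.mul_left e 2)
    rw [show 2 * k - 1 - 2 * (k - 1) = 1 by omega] at this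
    exact hp.one_lt.ne' (Nat.dvd_one.1 this)
  refine ⟨e1, e2, ?_⟩
  rw [hp.dvd_mul, hp.dvd_mul]
  rintro ((e | e) | e)
  · have : p = 2 := (Nat.prime_dvd_prime_iff_eq hp Nat.prime_two).1 e
    subst this; omega
  · exact e1 e
  · exact e2 e

/-- Elements whose order is divisible by `p ∣ 2k - 1` are outside and not real. -/
theorem outside_nonreal_of_dvd {p : ℕ} (hp : p.Prime) (hpq : p ∣ 2 * k - 1) {x : G}
    (hx : p ∣ orderOf x) : Outside K x ∧ ¬ Real' x := by
  obtain ⟨e1, e2, -⟩ := not_dvd_of_dvd_q h k hk hp hpq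
  have hout : Outside K x := by
    intro g hg
    have := Subgroup.orderOf_dvd_natCard K hg
    rw [orderOf_conj_eq, ← hk] at this
    exact e1 (hx.trans this)
  refine ⟨hout, fun ⟨u, hu, hinv⟩ => e2 ?_⟩
  have := Subgroup.orderOf_dvd_natCard (Subgroup.centralizer ({x} : Set G))
    (Subgroup.mem_centralizer_singleton_iff.2 (rfl : x * x = x * x))
  rw [(real_card h k hk hord hN hout hu hinv).1] at this
  exact hx.trans this

/-- `2k - 1` is a power of `p`, and the centralisers of the outside non-real elements have that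
order and exponent `p`. -/
theorem nonreal_order {p : ℕ} (hp : p.Prime) (hpq : p ∣ 2 * k - 1) {x : G}
    (hx : Outside K x) (hnx : ¬ Real' x) : orderOf x = p := by
  haveI := Fact.mk hp
  obtain ⟨y, hy⟩ := exists_prime_orderOf_dvd_card' (G := G) p
    (hord ▸ dvd_mul_of_dvd_right (dvd_mul_of_dvd_right hpq _) _)
  obtain ⟨hyo, hyn⟩ := outside_nonreal_of_dvd h k hk hord hN hp hpq (dvd_of_eq hy.symm)
  rcases (nonreal_class h k hk hord hN hyo hyn).2 x hx hnx with hc | hc <;>
    obtain ⟨c, rfl⟩ := isConj_iff.1 hc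
  · rw [orderOf_conj_eq, hy]
  · rw [orderOf_conj_eq, orderOf_inv, hy]

theorem centralizer_mem_order {p : ℕ} (hp : p.Prime) (hpq : p ∣ 2 * k - 1) {y x : G}
    (hy : orderOf y = p) (hx : x ∈ Subgroup.centralizer ({y} : Set G)) (hx1 : x ≠ 1) :
    orderOf x = p := by
  obtain ⟨hyo, hyn⟩ := outside_nonreal_of_dvd h k hk hord hN hp hpq (dvd_of_eq hy.symm)
  have hxo := hyo.mem_centralizer h hx hx1
  refine nonreal_order h k hk hord hN hp hpq hxo fun ⟨u, hu, hinv⟩ => hyn ?_
  exact real_of_mem h hxo hu hinv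
    (Subgroup.mem_centralizer_singleton_iff.2 (Subgroup.mem_centralizer_singleton_iff.1 hx).symm)

theorem isPGroup_centralizer {p : ℕ} (hp : p.Prime) (hpq : p ∣ 2 * k - 1) {y : G}
    (hy : orderOf y = p) : IsPGroup p ↥(Subgroup.centralizer ({y} : Set G)) := by
  intro c
  by_cases hc : (c : G) = 1
  · exact ⟨0, by rw [pow_zero, pow_one]; exact Subtype.ext hc⟩
  · refine ⟨1, Subtype.ext ?_⟩
    rw [pow_one, SubmonoidClass.coe_pow, OneMemClass.coe_one,
      ← centralizer_mem_order h k hk hord hN hp hpq hy c.2 hc, pow_orderOf_eq_one]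

/-- `2k - 1 = p^e`. -/
theorem exists_pow_eq {p : ℕ} (hp : p.Prime) (hpq : p ∣ 2 * k - 1) :
    ∃ e, 2 * k - 1 = p ^ e := by
  haveI := Fact.mk hp
  obtain ⟨y, hy⟩ := exists_prime_orderOf_dvd_card' (G := G) p
    (hord ▸ dvd_mul_of_dvd_right (dvd_mul_of_dvd_right hpq _) _)
  obtain ⟨hyo, hyn⟩ := outside_nonreal_of_dvd h k hk hord hN hp hpq (dvd_of_eq hy.symm)
  obtain ⟨e, he⟩ := IsPGroup.iff_card.1 (isPGroup_centralizer h k hk hord hN hp hpq hy)
  exact ⟨e, by rw [← (nonreal_class h k hk hord hN hyo hyn).1, he]⟩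

/-- A nontrivial `p`-subgroup has a normaliser of odd order. -/
theorem odd_normalizer {p : ℕ} [Fact p.Prime] (hpq : p ∣ 2 * k - 1) {R : Subgroup G}
    (hR : IsPGroup p R) (hR1 : R ≠ ⊥) :
    Odd (Nat.card ↥(Subgroup.normalizer (R : Set G))) := by
  have hp : p.Prime := Fact.out
  by_contra hev
  rw [Nat.not_odd_iff_even] at hev
  obtain ⟨⟨w, hw⟩, hwo⟩ := exists_prime_orderOf_dvd_card' 2 (even_iff_two_dvd.1 hev)
  have hw2 : orderOf w = 2 := by rwa [← Subgroup.orderOf_coe] at hwo
  have hRo : ∀ r ∈ R, r ≠ 1 → Outside K r ∧ ¬ Real' r := by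
    intro r hr hr1
    refine outside_nonreal_of_dvd h k hk hord hN hp hpq ?_
    obtain ⟨i, hi⟩ := IsPGroup.iff_orderOf.1 hR ⟨r, hr⟩
    rw [← Subgroup.orderOf_coe] at hi
    have hi0 : i ≠ 0 := fun e => hr1 (orderOf_eq_one_iff.1 (by rw [hi, e, pow_zero]))
    rw [show orderOf r = p ^ i from hi]
    exact dvd_pow_self p hi0
  obtain ⟨⟨r, hr⟩, hr1⟩ := (Subgroup.ne_bot_iff_exists_ne_one).1 hR1
  have hr1' : r ≠ 1 := fun e => hr1 (Subtype.ext e)
  let φ : ↥R →* ↥R :=
    { toFun := fun a => ⟨w * (a : G) * w⁻¹, (Subgroup.mem_normalizer_iff.1 hw _).1 a.2⟩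
      map_one' := Subtype.ext (by simp)
      map_mul' := fun a b => Subtype.ext (by simp [mul_assoc]) }
  have hfpf : MonoidHom.FixedPointFree φ := by
    intro a ha
    by_contra ha1
    have ha' : w * (a : G) * w⁻¹ = a := congrArg Subtype.val ha
    exact (hRo a a.2 (fun e => ha1 (Subtype.ext e))).1.not_comm_invol h hw2
      (mul_inv_eq_iff_eq_mul.1 ha').symm
  have hinvo : Function.Involutive φ := fun a => Subtype.ext (by
    show w * (w * (a : G) * w⁻¹) * w⁻¹ = a
    rw [invol_inv hw2, show w * (w * (a : G) * w) * w = (w * w) * (a : G) * (w * w) by group,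
      invol_mul_self hw2]
    simp)
  exact (hRo r hr hr1').2
    ⟨w, hw2, congrArg Subtype.val (congrFun (hfpf.coe_eq_inv_of_involutive hinvo) ⟨r, hr⟩)⟩

/-- In a subgroup of odd order the elements of `p`-power order generate a `p`-group. -/
theorem pclosed_of_odd {p : ℕ} [Fact p.Prime] (hpq : p ∣ 2 * k - 1) (L : Subgroup G)
    (hL : Odd (Nat.card L)) :
    IsPGroup p ↥(Subgroup.closure {x : ↥L | ∃ j : ℕ, x ^ p ^ j = 1}) := by
  have hp : p.Prime := Fact.out
  have h2 := two_le_k h k hk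
  set J := Subgroup.closure {x : ↥L | ∃ j : ℕ, x ^ p ^ j = 1} with hJ
  refine IsPGroup.of_card (n := (Nat.card J).primeFactorsList.length)
    (Nat.eq_prime_pow_of_unique_prime_dvd Nat.card_pos.ne' fun {r} hr hrJ => ?_)
  by_contra hrp
  haveI := Fact.mk hr
  obtain ⟨W⟩ : Nonempty (Sylow r L) := inferInstance
  have hrL : r ∣ Nat.card L := hrJ.trans (Subgroup.card_subgroup_dvd_card J)
  have hr2 : r ≠ 2 := by
    rintro rfl
    exact absurd hrL (by rw [← even_iff_two_dvd, Nat.not_even_iff_odd]; exact hL)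
  have hrG : r ∣ 2 * k * ((k - 1) * (2 * k - 1)) := by
    rw [hk]
    rw [← hk] at hord
    exact hk ▸ hord ▸ hrL.trans (Subgroup.card_subgroup_dvd_card L)
  obtain ⟨e, he⟩ := exists_pow_eq h k hk hord hN hp hpq
  have hcase : r ∣ k ∨ r ∣ k - 1 := by
    rcases hr.dvd_mul.1 hrG with e1 | e1
    · exact Or.inl ((hr.dvd_mul.1 e1).resolve_left
        fun e2 => hr2 ((Nat.prime_dvd_prime_iff_eq hr Nat.prime_two).1 e2))
    · rcases hr.dvd_mul.1 e1 with e2 | e2
      · exact Or.inr e2
      · rw [he] at e2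
        exact absurd ((Nat.prime_dvd_prime_iff_eq hr hp).1 (hr.dvd_of_dvd_pow e2)) hrp
  have hoddel : ∀ n : ↥L, Odd (orderOf (n : G)) := fun n => by
    rw [Subgroup.orderOf_coe]
    exact hL.of_dvd_nat (orderOf_dvd_natCard n)
  have hW' : IsPGroup r ↥((W : Subgroup L).map L.subtype) := W.2.map _
  have hWne : ∃ w : ↥L, w ∈ (W : Subgroup L) ∧ w ≠ 1 := by
    by_contra hno
    push Not at hno
    have hb : (W : Subgroup L) = ⊥ := (Subgroup.eq_bot_iff_forall _).2 hno
    have := W.dvd_card_of_dvd_card hrL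
    rw [hb, Subgroup.card_bot] at this
    exact hr.one_lt.ne' (Nat.dvd_one.1 this)
  have hcent : Subgroup.normalizer ((W : Subgroup L) : Set L) ≤
      Subgroup.centralizer ((W : Subgroup L) : Set L) := by
    intro n hn
    rw [Subgroup.mem_centralizer_iff]
    intro w hw
    obtain ⟨w₀, hw₀, hw₀1⟩ := hWne
    have hn₀ : n * w₀ * n⁻¹ ∈ (W : Subgroup L) := (Subgroup.mem_normalizer_iff.1 hn w₀).1 hw₀
    have key : ∃ (X : Subgroup G) (g : G), (∀ v ∈ (W : Subgroup L), g * (v : G) * g⁻¹ ∈ X) ∧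
        (∀ a ∈ X, ∀ b ∈ X, a * b = b * a) ∧
        (∀ a ∈ X, a ≠ 1 → ∀ m : G, m * a * m⁻¹ ∈ X → Odd (orderOf m) → m ∈ X) := by
      rcases hcase with hr' | hr'
      · have hidx : ¬ r ∣ K.index := by
          intro hri
          have hmul := K.card_mul_index
          rw [← hk, hord, ← hk] at hmul
          have : K.index = 2 * ((k - 1) * (2 * k - 1)) :=
            Nat.eq_of_mul_eq_mul_left (show 0 < k by omega) (hmul.trans (by ring))
          rw [this, hr.dvd_mul] at hri
          rcases hri with e1 | e1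
          · exact hr2 ((Nat.prime_dvd_prime_iff_eq hr Nat.prime_two).1 e1)
          · exact hr.one_lt.ne' (Nat.eq_one_of_dvd_coprimes (coprime_m h k hk) e1 (hk ▸ hr'))
        obtain ⟨g, hg⟩ := exists_conj_le_of_not_dvd_index hW' hidx
        refine ⟨K, g, fun v hv => hg _ ⟨v, hv, rfl⟩, h.comm, fun a ha ha1 m hm hmo => ?_⟩
        by_contra hmK
        rw [h.sq_of_notMem hmK (h.ti a ha ha1 m hm)] at hmo
        exact absurd hmo (by decide)
      · have hk2 : k ≠ 2 := by
          intro e'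
          rw [e'] at hr'
          exact hr.one_lt.ne' (Nat.dvd_one.1 hr')
        obtain ⟨y, hy, u, hu, hinv⟩ := exists_real h k hk hord hN hk2
        obtain ⟨hA, -, hM⟩ := real_card h k hk hord hN hy hu hinv
        obtain ⟨g, hg⟩ := exists_conj_le_of_not_dvd_index hW'
          (not_dvd_index_of_dvd h k hk hord hA hr hr')
        refine ⟨_, g, fun v hv => hg _ ⟨v, hv, rfl⟩, fun a ha b hb =>
          hy.comm_centralizer h hu hinv ha hb, fun a ha ha1 m hm hmo => ?_⟩
        refine odd_orderOf_mem_of_index_two Subgroup.le_normalizer hM ?_ hmo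
        have e1 := hy.centralizer_eq h hu hinv ha ha1
        have e2 := hy.centralizer_eq h hu hinv hm (by simpa using ha1)
        rw [Subgroup.mem_normalizer_iff]
        intro c
        conv_lhs => rw [← e1, Subgroup.mem_centralizer_singleton_iff]
        conv_rhs => rw [← e2, Subgroup.mem_centralizer_singleton_iff]
        constructor
        · intro e'
          calc m * c * m⁻¹ * (m * a * m⁻¹) = m * (c * a) * m⁻¹ := by group
            _ = _ := by rw [e']; group
        · intro e'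
          calc c * a = m⁻¹ * (m * c * m⁻¹ * (m * a * m⁻¹)) * m := by group
            _ = _ := by rw [e']; group
    obtain ⟨X, g, hgX, hXc, hXn⟩ := key
    have hne : g * (w₀ : G) * g⁻¹ ≠ 1 := fun e' => hw₀1 (Subtype.ext (by simpa using e'))
    have hmem : g * (n : G) * g⁻¹ ∈ X := by
      refine hXn _ (hgX w₀ hw₀) hne _ ?_ (by rw [orderOf_conj_eq]; exact hoddel n)
      have := hgX _ hn₀
      rw [Subgroup.coe_mul, Subgroup.coe_mul, Subgroup.coe_inv] at this
      convert this using 1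
      group
    have := hXc _ (hgX w hw) _ hmem
    apply Subtype.ext
    calc ((w * n : ↥L) : G) = g⁻¹ * ((g * (w : G) * g⁻¹) * (g * (n : G) * g⁻¹)) * g := by
          rw [Subgroup.coe_mul]; group
      _ = ((n * w : ↥L) : G) := by rw [this, Subgroup.coe_mul]; group
  have hker : J ≤ (MonoidHom.transferSylow W hcent).ker := by
    rw [hJ, Subgroup.closure_le]
    rintro x ⟨j, hj⟩
    rw [SetLike.mem_coe, MonoidHom.mem_ker]
    obtain ⟨i, hi⟩ := IsPGroup.iff_orderOf.1 W.2 (MonoidHom.transferSylow W hcent x)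
    obtain ⟨i', -, hi'⟩ := (Nat.dvd_prime_pow hp).1 (orderOf_dvd_of_pow_eq_one hj)
    have hd := orderOf_map_dvd (MonoidHom.transferSylow W hcent) x
    rw [hi, hi'] at hd
    rw [← orderOf_eq_one_iff, hi]
    exact Nat.eq_one_of_dvd_coprimes
      ((Nat.coprime_pow_primes i' i hp hr (Ne.symm hrp))) hd dvd_rfl
  exact MonoidHom.not_dvd_card_ker_transferSylow W hcent (hrJ.trans (Subgroup.card_dvd_of_le hker))

/-- Two Sylow `p`-subgroups with a common non-identity element are equal. -/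
theorem sylow_ti {p : ℕ} [Fact p.Prime] (hpq : p ∣ 2 * k - 1) :
    ∀ P₁ P₂ : Sylow p G, (P₁ : Subgroup G) ⊓ P₂ ≠ ⊥ → P₁ = P₂ := by
  suffices key : ∀ N : ℕ, ∀ P₁ P₂ : Sylow p G,
      Nat.card (P₁ : Subgroup G) - Nat.card ((P₁ : Subgroup G) ⊓ P₂ : Subgroup G) ≤ N →
      (P₁ : Subgroup G) ⊓ P₂ ≠ ⊥ → P₁ = P₂ by
    exact fun P₁ P₂ => key _ P₁ P₂ le_rfl
  intro N
  induction N using Nat.strong_induction_on with
  | _ N ih =>
    intro P₁ P₂ hcard hne
    by_contra hP
    set R := (P₁ : Subgroup G) ⊓ P₂ with hR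
    have hRP : IsPGroup p R := P₁.2.to_le inf_le_left
    have hclosed := pclosed_of_odd h k hk hord hN hpq (Subgroup.normalizer (R : Set G))
      (odd_normalizer h k hk hord hN hpq hRP hne)
    set L := Subgroup.normalizer (R : Set G) with hL
    obtain ⟨P₃, hP₃⟩ := (hclosed.map L.subtype).exists_le_sylow
    have hmem : ∀ P : Sylow p G, ∀ x ∈ (P : Subgroup G), x ∈ L → x ∈ (P₃ : Subgroup G) := by
      intro P x hx hxL
      refine hP₃ ⟨⟨x, hxL⟩, Subgroup.subset_closure ?_, rfl⟩
      obtain ⟨j, hj⟩ := P.2 ⟨x, hx⟩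
      exact ⟨j, Subtype.ext (by simpa using congrArg Subtype.val hj)⟩
    have hgrow : ∀ P : Sylow p G, R ≤ P → R ≠ (P : Subgroup G) →
        ∃ x ∈ (P : Subgroup G), x ∈ L ∧ x ∉ R := by
      intro P hle hlt
      haveI : Group.IsNilpotent ↥(P : Subgroup G) := P.2.isNilpotent
      have hlt' : R.subgroupOf (P : Subgroup G) < ⊤ := by
        rw [lt_top_iff_ne_top, Ne, Subgroup.subgroupOf_eq_top]
        exact fun e => hlt (le_antisymm hle e)
      obtain ⟨x, hx, hxR⟩ := SetLike.exists_of_lt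
        (Group.normalizerCondition_of_isNilpotent _ hlt')
      refine ⟨x, x.2, ?_, hxR⟩
      rw [hL, Subgroup.mem_normalizer_iff]
      intro c
      constructor
      · intro hc
        have := (Subgroup.mem_normalizer_iff.1 hx ⟨c, hle hc⟩).1 (by simpa [Subgroup.mem_subgroupOf] using hc)
        simpa [Subgroup.mem_subgroupOf] using this
      · intro hc
        have hcP : c ∈ (P : Subgroup G) := by
          have := mul_mem (mul_mem (inv_mem x.2) (hle hc)) x.2
          simpa [mul_assoc] using this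
        have := (Subgroup.mem_normalizer_iff.1 hx ⟨c, hcP⟩).2
          (by simpa [Subgroup.mem_subgroupOf] using hc)
        simpa [Subgroup.mem_subgroupOf] using this
    have hRne : ∀ P : Sylow p G, R ≤ P → (P = P₁ ∨ P = P₂) → R ≠ (P : Subgroup G) := by
      intro P _ hPP e
      apply hP
      apply Sylow.ext
      rcases hPP with rfl | rfl
      · exact (P.3 P₂.2 (e ▸ inf_le_right)).symm
      · exact P.3 P₁.2 (e ▸ inf_le_left)
    have heq : ∀ P : Sylow p G, R ≤ P → (P = P₁ ∨ P = P₂) → P = P₃ := by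
      intro P hle hPP
      obtain ⟨x, hxP, hxL, hxR⟩ := hgrow P hle (hRne P hle hPP)
      have hRle : R ≤ (P : Subgroup G) ⊓ P₃ := le_inf hle fun r hr =>
        hmem P r (hle hr) (Subgroup.le_normalizer hr)
      have hlt : R < (P : Subgroup G) ⊓ P₃ :=
        lt_of_le_of_ne hRle fun e => hxR (e ▸ Subgroup.mem_inf.2 ⟨hxP, hmem P x hxP hxL⟩)
      have hclt : Nat.card R < Nat.card ((P : Subgroup G) ⊓ P₃ : Subgroup G) := by
        refine lt_of_le_of_ne (Subgroup.card_le_of_le hlt.le) fun e => hlt.ne ?_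
        exact Subgroup.eq_of_le_of_card_ge hlt.le (le_of_eq e.symm)
      have hPcard : Nat.card (P : Subgroup G) = Nat.card (P₁ : Subgroup G) := by
        rw [P.card_eq_multiplicity, P₁.card_eq_multiplicity]
      have hle2 : Nat.card ((P : Subgroup G) ⊓ P₃ : Subgroup G) ≤ Nat.card (P : Subgroup G) :=
        Subgroup.card_le_of_le inf_le_left
      refine ih (Nat.card (P : Subgroup G) - Nat.card ((P : Subgroup G) ⊓ P₃ : Subgroup G))
        (by omega) P P₃ le_rfl fun e => hne ?_
      exact le_bot_iff.1 (e ▸ hlt.le)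
    exact hP ((heq P₁ inf_le_left (Or.inl rfl)).trans (heq P₂ inf_le_right (Or.inr rfl)).symm)

/-- Centralisers of elements of order `p` are Sylow and TI: `C(x) = C(y)` for `x ∈ C(y)#`. -/
theorem centralizer_eq_of_mem {p : ℕ} [Fact p.Prime] (hpq : p ∣ 2 * k - 1) {y x : G}
    (hy : orderOf y = p) (hx : x ∈ Subgroup.centralizer ({y} : Set G)) (hx1 : x ≠ 1) :
    Subgroup.centralizer ({x} : Set G) = Subgroup.centralizer ({y} : Set G) := by
  have hp : p.Prime := Fact.out
  obtain ⟨e, he⟩ := exists_pow_eq h k hk hord hN hp hpq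
  have hfac : (Nat.card G).factorization p = e := by
    have hnd := (not_dvd_of_dvd_q h k hk hp hpq).2.2
    have h2 := two_le_k h k hk
    rw [hord, ← hk, ← mul_assoc, Nat.factorization_mul (Nat.ne_of_gt (Nat.mul_pos (by omega) (by omega))) (by omega),
      Finsupp.add_apply, Nat.factorization_eq_zero_of_not_dvd hnd, zero_add, he,
      Nat.Prime.factorization_pow hp]
    simp
  have hS : ∀ z : G, orderOf z = p →
      Nat.card (Subgroup.centralizer ({z} : Set G)) = p ^ (Nat.card G).factorization p := by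
    intro z hz
    obtain ⟨hzo, hzn⟩ := outside_nonreal_of_dvd h k hk hord hN hp hpq (dvd_of_eq hz.symm)
    rw [hfac, (nonreal_class h k hk hord hN hzo hzn).1, he]
  have hxo := centralizer_mem_order h k hk hord hN hp hpq hy hx hx1
  have := sylow_ti h k hk hord hN hpq (Sylow.ofCard _ (hS x hxo)) (Sylow.ofCard _ (hS y hy))
    (by
      intro e'
      have hmem : x ∈ Subgroup.centralizer ({x} : Set G) ⊓ Subgroup.centralizer ({y} : Set G) :=
        ⟨Subgroup.mem_centralizer_singleton_iff.2 rfl, hx⟩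
      simp only [Sylow.coe_ofCard] at e'
      rw [e', Subgroup.mem_bot] at hmem
      exact hx1 hmem)
  exact congrArg (fun S : Sylow p G => (S : Subgroup G)) this

end Cfsg.Agent.Lib.BSW
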