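import Cfsg.Agent.Lib.BSW.Setup
import Cfsg.Agent.Lib.Characters.Complete
import Cfsg.Agent.Lib.Characters.Linear
import Cfsg.Agent.Lib.H80.ClassMult

/-!
# Fourier coefficients on `K` of the irreducible characters of `G`

`wt χ l` is the multiplicity of the linear character `l` in `χ|K` minus that of the trivial
one.  The second orthogonality relation of `G` on `K \ {1}` computes all their scalar products.
-/

namespace Cfsg.Agent.Lib.BSW

open Cfsg.Agent.Lib.Involutions.Basic Cfsg.Agent.Lib.Characters.Basic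
open Cfsg.Agent.Lib.Characters.Complete Cfsg.Agent.Lib.Characters.Linear
open scoped ComplexConjugate

universe u

variable {G : Type u} [Group G]

/-- Pairs of elements whose conjugates of `t` multiply to `y`. -/
theorem card_conjPairs [Finite G] {t : G} (ht : orderOf t = 2)
    (hconj : ∀ x y : G, orderOf x = 2 → orderOf y = 2 → IsConj x y) (y : G) :
    Nat.card {p : G × G // (p.1 * t * p.1⁻¹) * (p.2 * t * p.2⁻¹) = y} =
      Nat.card (Pairs y) * (Nat.card (Subgroup.centralizer ({t} : Set G))) ^ 2 := by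
  let C := Subgroup.centralizer ({t} : Set G)
  have hinv : ∀ b : G, orderOf (b * t * b⁻¹) = 2 := fun b => by rw [orderOf_conj_eq]; exact ht
  have sel : ∀ u : G, orderOf u = 2 → ∃ b : G, b * t * b⁻¹ = u := fun u hu =>
    isConj_iff.1 (hconj t u ht hu)
  choose f hf using sel
  have hC : ∀ (u : G) (hu : orderOf u = 2) (b : G), b * t * b⁻¹ = u ↔ (f u hu)⁻¹ * b ∈ C := by
    intro u hu b
    rw [Subgroup.mem_centralizer_singleton_iff]
    constructor
    · intro e
      calc (f u hu)⁻¹ * b * t = (f u hu)⁻¹ * (b * t * b⁻¹) * b := by group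
        _ = (f u hu)⁻¹ * (f u hu * t * (f u hu)⁻¹) * b := by rw [e, hf u hu]
        _ = t * ((f u hu)⁻¹ * b) := by group
    · intro e
      calc b * t * b⁻¹ = f u hu * ((f u hu)⁻¹ * b * t) * b⁻¹ := by group
        _ = u := by rw [e]; exact (by group : _ = f u hu * t * (f u hu)⁻¹).trans (hf u hu)
  rw [pow_two, ← Nat.card_prod, ← Nat.card_prod]
  refine Nat.card_congr
    { toFun := fun p => (⟨(p.1.1 * t * p.1.1⁻¹, p.1.2 * t * p.1.2⁻¹), hinv _, hinv _, p.2⟩,
        ⟨(f _ (hinv p.1.1))⁻¹ * p.1.1, (hC _ _ _).1 rfl⟩,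
        ⟨(f _ (hinv p.1.2))⁻¹ * p.1.2, (hC _ _ _).1 rfl⟩)
      invFun := fun q => ⟨(f q.1.1.1 q.1.2.1 * (q.2.1 : G), f q.1.1.2 q.1.2.2.1 * (q.2.2 : G)), ?_⟩
      left_inv := fun p => Subtype.ext (Prod.ext (by simp) (by simp))
      right_inv := ?_ }
  · rw [(hC _ q.1.2.1 _).2 (by simpa using q.2.1.2), (hC _ q.1.2.2.1 _).2 (by simpa using q.2.2.2)]
    exact q.1.2.2.2
  · intro q
    obtain ⟨⟨⟨u, v⟩, hu, hv, huv⟩, c, d⟩ := q
    have e1 : f u hu * (c : G) * t * (f u hu * (c : G))⁻¹ = u :=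
      (hC u hu _).2 (by simpa using c.2)
    have e2 : f v hv * (d : G) * t * (f v hv * (d : G))⁻¹ = v :=
      (hC v hv _).2 (by simpa using d.2)
    simp only
    refine Prod.ext (Subtype.ext (Prod.ext e1 e2)) (Prod.ext (Subtype.ext ?_) (Subtype.ext ?_))
    · simp only [e1, inv_mul_cancel_left]
    · simp only [e2, inv_mul_cancel_left]

theorem card_conjugators [Finite G] (z y : G) [Decidable (IsConj z y)] :
    Nat.card {b : G // b * z * b⁻¹ = y} =
      if IsConj z y then Nat.card (Subgroup.centralizer ({z} : Set G)) else 0 := by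
  split_ifs with hc
  · obtain ⟨b₀, rfl⟩ := isConj_iff.1 hc
    refine Nat.card_congr
      { toFun := fun b => ⟨b₀⁻¹ * b.1, Subgroup.mem_centralizer_singleton_iff.2 (by
          calc b₀⁻¹ * b.1 * z = b₀⁻¹ * (b.1 * z * b.1⁻¹) * b.1 := by group
            _ = z * (b₀⁻¹ * b.1) := by rw [b.2]; group)⟩
        invFun := fun c => ⟨b₀ * c.1, by
          have := Subgroup.mem_centralizer_singleton_iff.1 c.2
          calc b₀ * c.1 * z * (b₀ * c.1)⁻¹ = b₀ * (c.1 * z) * c.1⁻¹ * b₀⁻¹ := by group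
            _ = b₀ * z * b₀⁻¹ := by rw [this]; group⟩
        left_inv := fun b => by simp
        right_inv := fun c => by simp }
  · have : IsEmpty {b : G // b * z * b⁻¹ = y} := ⟨fun b => hc (isConj_iff.2 ⟨b.1, b.2⟩)⟩
    simp

/-- Class multiplication: the number of ways `y` is a product of two involutions. -/
theorem classMult [Fintype G] [Fintype (Cfsg.IrrCharacter G)] {t : G} (ht : orderOf t = 2)
    (hconj : ∀ x y : G, orderOf x = 2 → orderOf y = 2 → IsConj x y) (y : G) :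
    (Nat.card G : ℂ) * ∑ χ : Cfsg.IrrCharacter G,
        (χ : G → ℂ) t * (χ : G → ℂ) t * conj ((χ : G → ℂ) y) / (χ : G → ℂ) 1 =
      (Nat.card (Pairs y) : ℂ) * (Nat.card (Subgroup.centralizer ({t} : Set G)) : ℂ) ^ 2 := by
  classical
  rw [← Nat.cast_pow, ← Nat.cast_mul, ← card_conjPairs ht hconj y]
  have hsig : Nat.card {p : G × G // (p.1 * t * p.1⁻¹) * (p.2 * t * p.2⁻¹) = y} =
      ∑ a : G, Nat.card {b : G // b * (t * (a * t * a⁻¹)) * b⁻¹ = y} := by
    rw [← Nat.card_sigma]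
    refine Nat.card_congr
      { toFun := fun p => ⟨p.1.1⁻¹ * p.1.2, p.1.1, ?_⟩
        invFun := fun q => ⟨(q.2.1, q.2.1 * q.1), ?_⟩
        left_inv := fun p => by simp
        right_inv := fun q => ?_ }
    · calc p.1.1 * (t * (p.1.1⁻¹ * p.1.2 * t * (p.1.1⁻¹ * p.1.2)⁻¹)) * p.1.1⁻¹ =
          (p.1.1 * t * p.1.1⁻¹) * (p.1.2 * t * p.1.2⁻¹) := by group
        _ = y := p.2
    · calc (q.2.1 * t * q.2.1⁻¹) * (q.2.1 * q.1 * t * (q.2.1 * q.1)⁻¹) =
          q.2.1 * (t * (q.1 * t * q.1⁻¹)) * q.2.1⁻¹ := by group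
        _ = y := q.2.2
    · obtain ⟨a, b, hb⟩ := q
      exact Sigma.subtype_ext (by simp) rfl
  rw [hsig, Nat.cast_sum]
  calc (Nat.card G : ℂ) * ∑ χ : Cfsg.IrrCharacter G,
        (χ : G → ℂ) t * (χ : G → ℂ) t * conj ((χ : G → ℂ) y) / (χ : G → ℂ) 1
      = ∑ χ : Cfsg.IrrCharacter G,
          (∑ a : G, (χ : G → ℂ) (t * (a * t * a⁻¹))) * conj ((χ : G → ℂ) y) := by
        rw [Finset.mul_sum]
        refine Finset.sum_congr rfl fun χ _ => ?_
        rw [Cfsg.Agent.Lib.H80.ClassMult.sum_apply_mul_conj]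
        ring
    _ = ∑ a : G, ∑ χ : Cfsg.IrrCharacter G,
          (χ : G → ℂ) (t * (a * t * a⁻¹)) * conj ((χ : G → ℂ) y) := by
        simp only [Finset.sum_mul]
        exact Finset.sum_comm
    _ = _ := by
        refine Finset.sum_congr rfl fun a _ => ?_
        rw [sum_irr_mul_conj, card_conjugators]
        split_ifs <;> simp

variable {t s : G} {K : Subgroup G}

/-- The function `conj l - 1` on `K`. -/
noncomputable def dlt (l : Cfsg.IrrCharacter ↥K) (x : ↥K) : ℂ := conj ((l : ↥K → ℂ) x) - 1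

variable [Fintype G] [Fintype ↥K]

theorem exists_mult (χ : Cfsg.IrrCharacter G) (l : Cfsg.IrrCharacter ↥K) :
    ∃ n : ℕ, Cfsg.classInner (fun x : ↥K => (χ : G → ℂ) x) (l : ↥K → ℂ) = n :=
  exists_classInner_nat (isCharacter_comp K.subtype (isCharacter_irr χ)) (isCharacter_irr l)

/-- Multiplicity of `l` in `χ|K`. -/
noncomputable def mlt (χ : Cfsg.IrrCharacter G) (l : Cfsg.IrrCharacter ↥K) : ℤ :=
  ((exists_mult χ l).choose : ℤ)

theorem mlt_spec (χ : Cfsg.IrrCharacter G) (l : Cfsg.IrrCharacter ↥K) :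
    (mlt χ l : ℂ) = Cfsg.classInner (fun x : ↥K => (χ : G → ℂ) x) (l : ↥K → ℂ) := by
  rw [(exists_mult χ l).choose_spec, mlt, Int.cast_natCast]

/-- Multiplicity relative to the trivial character. -/
noncomputable def wt (χ : Cfsg.IrrCharacter G) (l : Cfsg.IrrCharacter ↥K) : ℤ :=
  mlt χ l - mlt χ (oneChar ↥K)

theorem wt_eq (χ : Cfsg.IrrCharacter G) (l : Cfsg.IrrCharacter ↥K) :
    (wt χ l : ℂ) = (Nat.card ↥K : ℂ)⁻¹ * ∑ x : ↥K, (χ : G → ℂ) x * dlt l x := by
  rw [wt, Int.cast_sub, mlt_spec, mlt_spec, Cfsg.classInner, Cfsg.classInner, ← mul_sub,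
    ← Finset.sum_sub_distrib]
  congr 1
  refine Finset.sum_congr rfl fun x _ => ?_
  rw [dlt, oneChar_apply, map_one]
  ring

variable [Fintype (Cfsg.IrrCharacter G)]

/-- The master identity. -/
theorem sum_wt_mul (l : Cfsg.IrrCharacter ↥K) (v : Cfsg.IrrCharacter G → ℂ) :
    ∑ χ : Cfsg.IrrCharacter G, (wt χ l : ℂ) * v χ =
      (Nat.card ↥K : ℂ)⁻¹ *
        ∑ x : ↥K, dlt l x * ∑ χ : Cfsg.IrrCharacter G, (χ : G → ℂ) x * v χ := by
  simp only [wt_eq, Finset.mul_sum, Finset.sum_mul]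
  rw [Finset.sum_comm]
  exact Finset.sum_congr rfl fun x _ => Finset.sum_congr rfl fun χ _ => by ring

theorem dlt_one (l : Cfsg.IrrCharacter ↥K) (h : ∀ a ∈ K, ∀ b ∈ K, a * b = b * a) :
    dlt l 1 = 0 := by
  rw [dlt, degree_eq_one_of_comm (fun a b : ↥K => Subtype.ext (h _ a.2 _ b.2)) l, map_one, sub_self]

theorem sum_dlt {l : Cfsg.IrrCharacter ↥K} (hl : l ≠ oneChar ↥K) :
    ∑ x : ↥K, dlt l x = -(Nat.card ↥K : ℂ) := by
  have h := classInner_irr_of_ne (Ne.symm hl)
  rw [Cfsg.classInner, mul_eq_zero] at h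
  rcases h with h | h
  · rw [inv_eq_zero, Nat.cast_eq_zero] at h
    exact absurd h Nat.card_pos.ne'
  simp only [dlt, Finset.sum_sub_distrib]
  rw [show ∑ x : ↥K, conj ((l : ↥K → ℂ) x) = 0 from by simpa [oneChar_apply] using h]
  simp [Nat.card_eq_fintype_card]

theorem classInner_irr' [DecidableEq (Cfsg.IrrCharacter ↥K)] (l m : Cfsg.IrrCharacter ↥K) :
    Cfsg.classInner (l : ↥K → ℂ) (m : ↥K → ℂ) = if l = m then 1 else 0 := by
  split_ifs with e
  · rw [e, classInner_self_irr]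
  · exact classInner_irr_of_ne e

theorem inner_dlt [DecidableEq (Cfsg.IrrCharacter ↥K)] {l m : Cfsg.IrrCharacter ↥K}
    (hl : l ≠ oneChar ↥K) (hm : m ≠ oneChar ↥K) :
    (Nat.card ↥K : ℂ)⁻¹ * ∑ x : ↥K, dlt l x * conj (dlt m x) =
      (if m = l then 1 else 0) + 1 := by
  have e : (Nat.card ↥K : ℂ)⁻¹ * ∑ x : ↥K, dlt l x * conj (dlt m x) =
      Cfsg.classInner (m : ↥K → ℂ) (l : ↥K → ℂ) - Cfsg.classInner (oneChar ↥K : ↥K → ℂ) (l : ↥K → ℂ)
      - Cfsg.classInner (m : ↥K → ℂ) (oneChar ↥K : ↥K → ℂ)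
      + Cfsg.classInner (oneChar ↥K : ↥K → ℂ) (oneChar ↥K : ↥K → ℂ) := by
    simp only [Cfsg.classInner, ← mul_sub, ← mul_add, ← Finset.sum_sub_distrib,
      ← Finset.sum_add_distrib]
    congr 1
    refine Finset.sum_congr rfl fun x _ => ?_
    simp only [dlt, oneChar_apply, map_sub, map_one, Complex.conj_conj]
    ring
  rw [e, classInner_irr', classInner_irr', classInner_irr', classInner_irr', if_neg (Ne.symm hl),
    if_neg hm, if_pos rfl]
  ring

variable (h : Hyp t s K)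
include h

theorem col_orth {x : G} (hx : x ∈ K) (hx1 : x ≠ 1) {y : G} (hy : y ∈ K) [DecidableEq G] :
    ∑ χ : Cfsg.IrrCharacter G, (χ : G → ℂ) x * conj ((χ : G → ℂ) y) =
      (Nat.card ↥K : ℂ) * ((if y = x then 1 else 0) + (if y = x⁻¹ then 1 else 0)) := by
  classical
  rw [sum_irr_mul_conj]
  by_cases hc : IsConj x y
  · rw [if_pos hc, h.centralizer_card hx hx1]
    rcases (h.isConj_iff' hx hx1 hy).1 hc with e | e
    · subst e
      rw [if_pos (rfl : y = y)]
      split_ifs with e2 <;> push_cast <;> ring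
    · subst e
      by_cases e2 : x = x⁻¹
      · rw [if_pos e2, if_pos e2.symm, if_pos rfl]; push_cast; ring
      · rw [if_neg e2, if_neg (fun e3 => e2 e3.symm), if_pos rfl]; ring
  · rw [if_neg hc, if_neg (fun e => hc ((h.isConj_iff' hx hx1 hy).2 (Or.inl e))),
      if_neg (fun e => hc ((h.isConj_iff' hx hx1 hy).2 (Or.inr e)))]
    ring

theorem comm_K (a b : ↥K) : a * b = b * a := Subtype.ext (h.comm _ a.2 _ b.2)

/-- The scalar products of the vectors `wt · l`. -/
theorem gram [DecidableEq (Cfsg.IrrCharacter ↥K)] {l m : Cfsg.IrrCharacter ↥K}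
    (hl : l ≠ oneChar ↥K) (hm : m ≠ oneChar ↥K) :
    ∑ χ : Cfsg.IrrCharacter G, wt χ l * wt χ m =
      (if m = l then 1 else 0) + (if conjChar m = l then 1 else 0) + 2 := by
  classical
  have hk : (Nat.card ↥K : ℂ) ≠ 0 := Nat.cast_ne_zero.2 Nat.card_pos.ne'
  have hm' : conjChar m ≠ oneChar ↥K := by
    intro e
    apply hm
    rw [← conjChar_conjChar m, e]
    exact Subtype.ext (funext fun x => by simp [conjChar_apply, oneChar_apply])
  have hconjdlt : ∀ x : ↥K, conj (dlt m x⁻¹) = conj (dlt (conjChar m) x) := by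
    intro x
    simp only [dlt, conjChar_apply, apply_inv (isCharacter_irr m)]
  have key : ∀ x : ↥K, dlt l x * ∑ χ : Cfsg.IrrCharacter G, (χ : G → ℂ) x * (wt χ m : ℂ) =
      dlt l x * (conj (dlt m x) + conj (dlt (conjChar m) x)) := by
    intro x
    by_cases hx1 : (x : G) = 1
    · rw [show x = 1 from Subtype.ext hx1, dlt_one l h.comm, zero_mul, zero_mul]
    congr 1
    have hreal : ∀ χ : Cfsg.IrrCharacter G, (wt χ m : ℂ) = conj (wt χ m : ℂ) := fun χ => by
      rw [map_intCast]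
    calc ∑ χ : Cfsg.IrrCharacter G, (χ : G → ℂ) x * (wt χ m : ℂ)
        = ∑ χ : Cfsg.IrrCharacter G, ∑ y : ↥K, (Nat.card ↥K : ℂ)⁻¹ * conj (dlt m y) *
            ((χ : G → ℂ) x * conj ((χ : G → ℂ) y)) := by
          refine Finset.sum_congr rfl fun χ _ => ?_
          rw [hreal χ, wt_eq]
          simp only [map_mul, map_inv₀, map_natCast, map_sum, Finset.mul_sum]
          exact Finset.sum_congr rfl fun y _ => by ring
      _ = ∑ y : ↥K, conj (dlt m y) *
            ((if y = x then 1 else 0) + (if y = x⁻¹ then 1 else 0)) := by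
          rw [Finset.sum_comm]
          refine Finset.sum_congr rfl fun y _ => ?_
          rw [← Finset.mul_sum, col_orth h x.2 hx1 y.2]
          simp only [← Subgroup.coe_inv, Subtype.coe_inj]
          field_simp
      _ = _ := by
          simp only [mul_add, Finset.sum_add_distrib, mul_ite, mul_one, mul_zero,
            Finset.sum_ite_eq', Finset.mem_univ, if_true]
          rw [hconjdlt]
  have : ((∑ χ : Cfsg.IrrCharacter G, wt χ l * wt χ m : ℤ) : ℂ) =
      (((if m = l then 1 else 0) + (if conjChar m = l then 1 else 0) + 2 : ℤ) : ℂ) := by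
    push_cast
    rw [sum_wt_mul, Finset.sum_congr rfl fun x _ => key x]
    simp only [mul_add, Finset.sum_add_distrib]
    rw [inner_dlt hl hm, inner_dlt hl hm']
    ring
  exact_mod_cast this

theorem sum_wt_degree (l : Cfsg.IrrCharacter ↥K) :
    ∑ χ : Cfsg.IrrCharacter G, (wt χ l : ℂ) * (χ : G → ℂ) 1 = 0 := by
  classical
  rw [sum_wt_mul]
  refine mul_eq_zero_of_right _ (Finset.sum_eq_zero fun x _ => ?_)
  by_cases hx1 : (x : G) = 1
  · rw [show x = 1 from Subtype.ext hx1, dlt_one l h.comm, zero_mul]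
  · refine mul_eq_zero_of_right _ ?_
    rw [Finset.sum_congr rfl fun χ _ => mul_comm _ _, sum_degree_mul_apply, if_neg hx1]

theorem sum_wt_outside (l : Cfsg.IrrCharacter ↥K) {y : G} (hy : Outside K y) :
    ∑ χ : Cfsg.IrrCharacter G, (wt χ l : ℂ) * conj ((χ : G → ℂ) y) = 0 := by
  classical
  rw [sum_wt_mul]
  refine mul_eq_zero_of_right _ (Finset.sum_eq_zero fun x _ => mul_eq_zero_of_right _ ?_)
  rw [sum_irr_mul_conj, if_neg]
  intro hc
  obtain ⟨g, hg⟩ := isConj_iff.1 hc.symm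
  exact hy g (by rw [hg]; exact x.2)

theorem sum_wt_classMult {l : Cfsg.IrrCharacter ↥K} (hl : l ≠ oneChar ↥K) :
    (Nat.card G : ℂ) * ∑ χ : Cfsg.IrrCharacter G,
        (wt χ l : ℂ) * ((χ : G → ℂ) t * (χ : G → ℂ) t / (χ : G → ℂ) 1) =
      -4 * (Nat.card ↥K : ℂ) ^ 3 := by
  classical
  have hk : (Nat.card ↥K : ℂ) ≠ 0 := Nat.cast_ne_zero.2 Nat.card_pos.ne'
  rw [sum_wt_mul, mul_left_comm, Finset.mul_sum]
  have key : ∀ x : ↥K, (Nat.card G : ℂ) * (dlt l x * ∑ χ : Cfsg.IrrCharacter G,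
      (χ : G → ℂ) x * ((χ : G → ℂ) t * (χ : G → ℂ) t / (χ : G → ℂ) 1)) =
      dlt l x * (4 * (Nat.card ↥K : ℂ) ^ 3) := by
    intro x
    by_cases hx1 : (x : G) = 1
    · rw [show x = 1 from Subtype.ext hx1, dlt_one l h.comm, zero_mul, zero_mul, mul_zero]
    rw [mul_left_comm]
    congr 1
    have := classMult h.ht h.conj ((x : G)⁻¹)
    rw [h.card_pairs (inv_mem x.2) (inv_ne_one.2 hx1), h.card_C] at this
    rw [show (4 : ℂ) * (Nat.card ↥K : ℂ) ^ 3 =
        (Nat.card ↥K : ℂ) * ((2 * Nat.card ↥K : ℕ) : ℂ) ^ 2 by push_cast; ring, ← this]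
    congr 1
    refine Finset.sum_congr rfl fun χ _ => ?_
    rw [apply_inv (isCharacter_irr χ), Complex.conj_conj]
    ring
  rw [Finset.sum_congr rfl fun x _ => key x, ← Finset.sum_mul, sum_dlt hl]
  field_simp

theorem wt_oneChar_left {l : Cfsg.IrrCharacter ↥K} (hl : l ≠ oneChar ↥K) :
    wt (oneChar G) l = -1 := by
  have : (wt (oneChar G) l : ℂ) = (-1 : ℤ) := by
    simp only [wt_eq, oneChar_apply, one_mul, sum_dlt hl]
    rw [mul_neg, inv_mul_cancel₀ (Nat.cast_ne_zero.2 Nat.card_pos.ne')]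
    simp
  exact_mod_cast this

omit h in
theorem wt_oneChar_right (χ : Cfsg.IrrCharacter G) : wt χ (oneChar ↥K) = 0 := sub_self _

theorem sum_irrK [Fintype (Cfsg.IrrCharacter ↥K)] {x : ↥K} (hx : x ≠ 1) :
    ∑ l : Cfsg.IrrCharacter ↥K, (l : ↥K → ℂ) x = 0 := by
  classical
  have := sum_degree_mul_apply (G := ↥K) x
  rw [if_neg hx] at this
  simpa [degree_eq_one_of_comm (comm_K h)] using this

theorem apply_eq_sum_mlt [Fintype (Cfsg.IrrCharacter ↥K)] (χ : Cfsg.IrrCharacter G) (x : ↥K) :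
    (χ : G → ℂ) x = ∑ l : Cfsg.IrrCharacter ↥K, (mlt χ l : ℂ) * (l : ↥K → ℂ) x := by
  have hcl : Cfsg.IsClassFunction ↥K (fun x : ↥K => (χ : G → ℂ) x) := fun a b => by
    show (χ : G → ℂ) ((b * a * b⁻¹ : ↥K) : G) = _
    rw [comm_K h b a, mul_inv_cancel_right]
  have := congrFun (classFunction_eq_sum hcl) x
  simp only [Finset.sum_apply, Pi.smul_apply, smul_eq_mul] at this
  rw [this]
  exact Finset.sum_congr rfl fun l _ => by rw [mlt_spec]

theorem apply_eq_sum_wt [Fintype (Cfsg.IrrCharacter ↥K)] (χ : Cfsg.IrrCharacter G) {x : ↥K}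
    (hx : x ≠ 1) :
    (χ : G → ℂ) x = ∑ l : Cfsg.IrrCharacter ↥K, (wt χ l : ℂ) * (l : ↥K → ℂ) x := by
  rw [apply_eq_sum_mlt h χ x]
  simp only [wt, Int.cast_sub, sub_mul, Finset.sum_sub_distrib, ← Finset.mul_sum, sum_irrK h hx,
    mul_zero, sub_zero]

theorem card_irrK [Fintype (Cfsg.IrrCharacter ↥K)] :
    Fintype.card (Cfsg.IrrCharacter ↥K) = Nat.card ↥K := by
  classical
  have := sum_degree_mul_apply (G := ↥K) 1
  rw [if_pos rfl] at this
  simp only [degree_eq_one_of_comm (comm_K h), mul_one, Finset.sum_const, nsmul_eq_mul] at this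
  rw [Finset.card_univ] at this
  exact_mod_cast this

theorem degree_eq [Fintype (Cfsg.IrrCharacter ↥K)] (χ : Cfsg.IrrCharacter G) :
    (χ : G → ℂ) 1 = (((Nat.card ↥K : ℤ) * mlt χ (oneChar ↥K) +
      ∑ l : Cfsg.IrrCharacter ↥K, wt χ l : ℤ) : ℂ) := by
  have := apply_eq_sum_mlt h χ 1
  simp only [OneMemClass.coe_one, degree_eq_one_of_comm (comm_K h), mul_one] at this
  rw [this]
  simp only [wt, Finset.sum_sub_distrib, Finset.sum_const, Finset.card_univ, card_irrK h,
    nsmul_eq_mul]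
  push_cast
  ring

/-- Exactly two characters of `K` are real. -/
theorem card_real [Fintype (Cfsg.IrrCharacter ↥K)] [DecidableEq (Cfsg.IrrCharacter ↥K)] :
    (Finset.univ.filter fun l : Cfsg.IrrCharacter ↥K => conjChar l = l).card = 2 := by
  classical
  have hk : (Nat.card ↥K : ℂ) ≠ 0 := Nat.cast_ne_zero.2 Nat.card_pos.ne'
  have hfix : (Finset.univ.filter fun x : ↥K => x = x⁻¹).card = 2 := by
    rw [Finset.card_eq_two]
    refine ⟨1, ⟨t, h.htK⟩, fun e => invol_ne_one h.ht (Subtype.ext_iff.1 e).symm, ?_⟩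
    ext x
    simp only [Finset.mem_filter, Finset.mem_univ, true_and, Finset.mem_insert,
      Finset.mem_singleton]
    constructor
    · intro e
      rcases h.unique x x.2 (by
        have := eq_inv_iff_mul_eq_one.1 e
        simpa using congrArg (Subtype.val) this) with e' | e'
      · exact Or.inl (Subtype.ext e')
      · exact Or.inr (Subtype.ext e')
    · rintro (rfl | rfl)
      · simp
      · exact Subtype.ext (invol_inv h.ht).symm
  have : ((Finset.univ.filter fun l : Cfsg.IrrCharacter ↥K => conjChar l = l).card : ℂ) = 2 := by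
    calc ((Finset.univ.filter fun l : Cfsg.IrrCharacter ↥K => conjChar l = l).card : ℂ)
        = ∑ l : Cfsg.IrrCharacter ↥K, Cfsg.classInner (conjChar l : ↥K → ℂ) (l : ↥K → ℂ) := by
          simp only [classInner_irr', Finset.sum_boole]
      _ = (Nat.card ↥K : ℂ)⁻¹ * ∑ x : ↥K, ∑ l : Cfsg.IrrCharacter ↥K,
            (l : ↥K → ℂ) x⁻¹ * conj ((l : ↥K → ℂ) x) := by
          simp only [Cfsg.classInner, ← Finset.mul_sum, conjChar_apply,
            apply_inv (isCharacter_irr _)]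
          rw [Finset.sum_comm]
      _ = (Nat.card ↥K : ℂ)⁻¹ * ∑ x : ↥K, if x = x⁻¹ then (Nat.card ↥K : ℂ) else 0 := by
          congr 1
          refine Finset.sum_congr rfl fun x _ => ?_
          rw [sum_irr_mul_conj]
          have hiff : IsConj x⁻¹ x ↔ x = x⁻¹ := by
            refine ⟨fun hc => ?_, fun e => by rw [← e]⟩
            obtain ⟨c, hc⟩ := isConj_iff.1 hc
            rw [comm_K h c, mul_inv_cancel_right] at hc
            exact hc.symm
          have hC : Subgroup.centralizer ({x⁻¹} : Set ↥K) = ⊤ := eq_top_iff.2 fun a _ =>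
            Subgroup.mem_centralizer_singleton_iff.2 (comm_K h a _)
          simp only [hiff, hC, Subgroup.card_top]
      _ = 2 := by
          rw [← Finset.sum_filter, Finset.sum_const, hfix]
          field_simp
          ring
  exact_mod_cast this

end Cfsg.Agent.Lib.BSW
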