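import Cfsg.Agent.Lib.BSW.Setup
import Cfsg.Agent.Lib.BSW.Counting
import Cfsg.Agent.Lib.Characters.Complete

/-!
# Centralisers of elements without conjugates in `K`
-/

namespace Cfsg.Agent.Lib.BSW

open Cfsg.Agent.Lib.Involutions.Basic

variable {G : Type*} [Group G] {t s : G} {K : Subgroup G}

/-- Inverted by an involution. -/
def Real' (y : G) : Prop := ∃ u : G, orderOf u = 2 ∧ u * y * u⁻¹ = y⁻¹

theorem Real'.conj {y : G} (hy : Real' y) (c : G) : Real' (c * y * c⁻¹) := by
  obtain ⟨u, hu, e⟩ := hy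
  refine ⟨c * u * c⁻¹, by rw [orderOf_conj_eq]; exact hu, ?_⟩
  calc c * u * c⁻¹ * (c * y * c⁻¹) * (c * u * c⁻¹)⁻¹ = c * (u * y * u⁻¹) * c⁻¹ := by group
    _ = _ := by rw [e]; group

theorem Outside.not_comm (h : Hyp t s K) {y : G} (hy : Outside K y) : y * t ≠ t * y := by
  intro e
  by_cases hyK : y ∈ K
  · exact hy 1 (by simpa using hyK)
  · obtain ⟨g, hg⟩ := isConj_iff.1 (h.conj y t (h.sq_of_notMem hyK e) h.ht)
    exact hy g (hg ▸ h.htK)

theorem Outside.not_comm_invol (h : Hyp t s K) {y u : G} (hy : Outside K y)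
    (hu : orderOf u = 2) : y * u ≠ u * y := by
  intro e
  obtain ⟨g, hg⟩ := isConj_iff.1 (h.conj u t hu h.ht)
  refine (hy.conj g).not_comm h ?_
  rw [← hg]
  calc g * y * g⁻¹ * (g * u * g⁻¹) = g * (y * u) * g⁻¹ := by group
    _ = _ := by rw [e]; group

theorem Outside.mem_centralizer (h : Hyp t s K) {y c : G} (hy : Outside K y)
    (hc : c ∈ Subgroup.centralizer ({y} : Set G)) (hc1 : c ≠ 1) : Outside K c := by
  intro g hg
  rw [Subgroup.mem_centralizer_singleton_iff] at hc
  refine (hy.conj g).not_comm h (h.commute_mem hg (by simpa using hc1) ?_)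
  calc g * y * g⁻¹ * (g * c * g⁻¹) = g * (y * c) * g⁻¹ := by group
    _ = _ := by rw [← hc]; group

variable [Finite G]

theorem Outside.odd_centralizer (h : Hyp t s K) {y : G} (hy : Outside K y) :
    Odd (Nat.card (Subgroup.centralizer ({y} : Set G))) := by
  by_contra hev
  rw [Nat.not_odd_iff_even] at hev
  obtain ⟨z, hz⟩ := exists_prime_orderOf_dvd_card' 2 (even_iff_two_dvd.1 hev)
  exact hy.not_comm_invol h (u := (z : G)) (by rwa [Subgroup.orderOf_coe])
    (Subgroup.mem_centralizer_singleton_iff.1 z.2).symm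

theorem Outside.not_orderOf_two (h : Hyp t s K) {y : G} (hy : Outside K y) : y * y ≠ 1 := fun e =>
  hy.not_comm_invol h (invol_iff.2 ⟨e, hy.ne_one⟩) rfl

/-- A real outside element: its centraliser is inverted by the involution. -/
theorem Outside.invert_centralizer (h : Hyp t s K) {y u : G} (hy : Outside K y)
    (hu : orderOf u = 2) (hinv : u * y * u⁻¹ = y⁻¹) {c : G}
    (hc : c ∈ Subgroup.centralizer ({y} : Set G)) : u * c * u⁻¹ = c⁻¹ := by
  have hC : ∀ d : G, d ∈ Subgroup.centralizer ({y} : Set G) →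
      u * d * u⁻¹ ∈ Subgroup.centralizer ({y} : Set G) := by
    intro d hd
    rw [Subgroup.mem_centralizer_singleton_iff] at hd ⊢
    have hd' : d * y⁻¹ = y⁻¹ * d := (Commute.inv_right (show Commute d y from hd)).eq
    have e : y = u * y⁻¹ * u⁻¹ := by
      have h2 := congrArg (·⁻¹) hinv
      simp only [mul_inv_rev, inv_inv] at h2
      rw [← mul_assoc] at h2
      exact h2.symm
    calc u * d * u⁻¹ * y = u * d * u⁻¹ * (u * y⁻¹ * u⁻¹) := by rw [← e]
      _ = u * (d * y⁻¹) * u⁻¹ := by group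
      _ = u * y⁻¹ * u⁻¹ * (u * d * u⁻¹) := by rw [hd']; group
      _ = y * (u * d * u⁻¹) := by rw [← e]
  let φ : ↥(Subgroup.centralizer ({y} : Set G)) →* ↥(Subgroup.centralizer ({y} : Set G)) :=
    { toFun := fun d => ⟨u * (d : G) * u⁻¹, hC _ d.2⟩
      map_one' := Subtype.ext (by simp)
      map_mul' := fun a b => Subtype.ext (by simp [mul_assoc]) }
  have hfpf : MonoidHom.FixedPointFree φ := by
    intro d hd
    by_contra hd1
    have hd' : u * (d : G) * u⁻¹ = d := congrArg Subtype.val hd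
    have hne : (d : G) ≠ 1 := fun e => hd1 (Subtype.ext e)
    exact (hy.mem_centralizer h d.2 hne).not_comm_invol h hu (mul_inv_eq_iff_eq_mul.1 hd').symm
  have hinvo : Function.Involutive φ := fun d => Subtype.ext (by
    show u * (u * (d : G) * u⁻¹) * u⁻¹ = d
    rw [invol_inv hu, show u * (u * (d : G) * u) * u = (u * u) * (d : G) * (u * u) by group,
      invol_mul_self hu]
    simp)
  have := congrFun (hfpf.coe_eq_inv_of_involutive hinvo) ⟨c, hc⟩
  exact congrArg Subtype.val this

theorem Outside.comm_centralizer (h : Hyp t s K) {y u : G} (hy : Outside K y)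
    (hu : orderOf u = 2) (hinv : u * y * u⁻¹ = y⁻¹) {a b : G}
    (ha : a ∈ Subgroup.centralizer ({y} : Set G)) (hb : b ∈ Subgroup.centralizer ({y} : Set G)) :
    a * b = b * a := by
  have h1 := hy.invert_centralizer h hu hinv (mul_mem ha hb)
  rw [show u * (a * b) * u⁻¹ = (u * a * u⁻¹) * (u * b * u⁻¹) by group,
    hy.invert_centralizer h hu hinv ha, hy.invert_centralizer h hu hinv hb] at h1
  have := congrArg (·⁻¹) h1
  simpa [mul_inv_rev] using this.symm

theorem Outside.centralizer_eq (h : Hyp t s K) {y u c : G} (hy : Outside K y)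
    (hu : orderOf u = 2) (hinv : u * y * u⁻¹ = y⁻¹)
    (hc : c ∈ Subgroup.centralizer ({y} : Set G)) (hc1 : c ≠ 1) :
    Subgroup.centralizer ({c} : Set G) = Subgroup.centralizer ({y} : Set G) := by
  have hco := hy.mem_centralizer h hc hc1
  have hci := hy.invert_centralizer h hu hinv hc
  have hyc : y ∈ Subgroup.centralizer ({c} : Set G) :=
    Subgroup.mem_centralizer_singleton_iff.2 (Subgroup.mem_centralizer_singleton_iff.1 hc).symm
  refine le_antisymm (fun d hd => ?_) fun d hd => ?_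
  · rw [Subgroup.mem_centralizer_singleton_iff]
    exact hco.comm_centralizer h hu hci hd hyc
  · rw [Subgroup.mem_centralizer_singleton_iff]
    exact hy.comm_centralizer h hu hinv hd hc

theorem Outside.card_pairs_real (h : Hyp t s K) {y u : G} (hy : Outside K y)
    (hu : orderOf u = 2) (hinv : u * y * u⁻¹ = y⁻¹) :
    Nat.card (Pairs y) = Nat.card (Subgroup.centralizer ({y} : Set G)) := by
  rw [Nat.card_congr (pairsEquiv y)]
  have hnu : u ∉ Subgroup.centralizer ({y} : Set G) := fun hm =>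
    hy.not_comm_invol h hu (Subgroup.mem_centralizer_singleton_iff.1 hm).symm
  refine Nat.card_congr
    { toFun := fun v => ⟨u * v.1, Subgroup.mem_centralizer_singleton_iff.2 ?_⟩
      invFun := fun c => ⟨u * c.1, ?_, ?_, ?_⟩
      left_inv := fun v => Subtype.ext (by simp [← mul_assoc, invol_mul_self hu])
      right_inv := fun c => Subtype.ext (by simp [← mul_assoc, invol_mul_self hu]) }
  · have h1 : v.1 * y = y⁻¹ * v.1 := mul_inv_eq_iff_eq_mul.1 v.2.2.1
    have h2 : u * y⁻¹ = y * u := by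
      have e := congrArg (·⁻¹) hinv
      simp only [mul_inv_rev, inv_inv] at e
      rw [← mul_assoc] at e
      exact mul_inv_eq_iff_eq_mul.1 e
    calc u * v.1 * y = u * (v.1 * y) := mul_assoc _ _ _
      _ = u * y⁻¹ * v.1 := by rw [h1, mul_assoc]
      _ = y * (u * v.1) := by rw [h2, mul_assoc]
  · refine invol_iff.2 ⟨?_, fun e => hnu ?_⟩
    · calc u * c.1 * (u * c.1) = (u * c.1 * u) * c.1 := by group
        _ = (u * c.1 * u⁻¹) * c.1 := by rw [invol_inv hu]
        _ = 1 := by rw [hy.invert_centralizer h hu hinv c.2, inv_mul_cancel]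
    · rw [← inv_eq_of_mul_eq_one_left e]
      exact inv_mem (by exact c.2)
  · have h1 : c.1 * y = y * c.1 := Subgroup.mem_centralizer_singleton_iff.1 c.2
    calc u * c.1 * y * (u * c.1)⁻¹ = u * (c.1 * y) * c.1⁻¹ * u⁻¹ := by group
      _ = u * y * u⁻¹ := by rw [h1]; group
      _ = y⁻¹ := hinv
  · intro e
    apply hnu
    have hyC : y ∈ Subgroup.centralizer ({y} : Set G) :=
      Subgroup.mem_centralizer_singleton_iff.2 rfl
    have : u = (c.1 * y)⁻¹ := eq_inv_of_mul_eq_one_left (by rw [← mul_assoc]; exact e)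
    rw [this]
    exact inv_mem (mul_mem c.2 hyC)

theorem Outside.card_pairs_nonreal {y : G} (hy : ¬ Real' y) : Nat.card (Pairs y) = 0 := by
  rw [Nat.card_congr (pairsEquiv y)]
  have : IsEmpty {t : G // orderOf t = 2 ∧ t * y * t⁻¹ = y⁻¹ ∧ t * y ≠ 1} :=
    ⟨fun v => hy ⟨v.1, v.2.1, v.2.2.1⟩⟩
  simp

/-- An outside element conjugate to its inverse is inverted by an involution. -/
theorem Outside.real_of_isConj (h : Hyp t s K) {y : G} (hy : Outside K y)
    (hc : IsConj y y⁻¹) : Real' y := by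
  obtain ⟨g, hg⟩ := isConj_iff.1 hc
  have heven : Even (orderOf g) := by
    by_contra hodd
    rw [Nat.not_even_iff_odd] at hodd
    obtain ⟨j, hj⟩ := hodd
    have hg2 : g * g ∈ Subgroup.centralizer ({y} : Set G) := by
      rw [Subgroup.mem_centralizer_singleton_iff]
      have e : g * y⁻¹ * g⁻¹ = y := by
        have := congrArg (·⁻¹) hg
        simpa [mul_assoc] using this
      calc g * g * y = g * (g * y * g⁻¹) * g := by group
        _ = (g * y⁻¹ * g⁻¹) * (g * g) := by rw [hg]; group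
        _ = y * (g * g) := by rw [e]
    have hgC : g ∈ Subgroup.centralizer ({y} : Set G) := by
      have e : g = (g * g) ^ (j + 1) := by
        rw [← pow_two, ← pow_mul, show 2 * (j + 1) = orderOf g + 1 by omega, pow_succ,
          pow_orderOf_eq_one, one_mul]
      rw [e]; exact pow_mem hg2 _
    rw [Subgroup.mem_centralizer_singleton_iff] at hgC
    rw [hgC, mul_inv_cancel_right] at hg
    exact hy.not_orderOf_two h (eq_inv_iff_mul_eq_one.1 hg)
  obtain ⟨a, r, hr, e⟩ := Nat.exists_eq_two_pow_mul_odd (orderOf_pos g).ne'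
  have hinv : ∀ n : ℕ, g ^ (2 * n + 1) * y * (g ^ (2 * n + 1))⁻¹ = y⁻¹ := by
    intro n
    induction n with
    | zero => simpa using hg
    | succ n ih =>
      have e' : g * y⁻¹ * g⁻¹ = y := by
        have := congrArg (·⁻¹) hg
        simpa [mul_assoc] using this
      calc g ^ (2 * (n + 1) + 1) * y * (g ^ (2 * (n + 1) + 1))⁻¹
          = g * (g * (g ^ (2 * n + 1) * y * (g ^ (2 * n + 1))⁻¹) * g⁻¹) * g⁻¹ := by
            rw [show 2 * (n + 1) + 1 = 2 + (2 * n + 1) by ring, pow_add, pow_two]; group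
        _ = y⁻¹ := by rw [ih, e', hg]
  obtain ⟨i, hi⟩ := hr
  set v := g ^ r with hv
  have hvy : v * y * v⁻¹ = y⁻¹ := by rw [hv, hi]; exact hinv i
  have hv2 : v * v ∈ Subgroup.centralizer ({y} : Set G) := by
    rw [Subgroup.mem_centralizer_singleton_iff]
    have e' : v * y⁻¹ * v⁻¹ = y := by
      have := congrArg (·⁻¹) hvy
      simpa [mul_assoc] using this
    calc v * v * y = v * (v * y * v⁻¹) * v := by group
      _ = (v * y⁻¹ * v⁻¹) * (v * v) := by rw [hvy]; group
      _ = y * (v * v) := by rw [e']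
  have hsq : v * v = 1 := by
    have h1 : (v * v) ^ (2 ^ a) = 1 := by
      rw [hv, ← pow_add, ← pow_mul, show (r + r) * 2 ^ a = orderOf g * 2 by rw [e]; ring, pow_mul,
        pow_orderOf_eq_one, one_pow]
    obtain ⟨i, -, hi⟩ := (Nat.dvd_prime_pow Nat.prime_two).1 (orderOf_dvd_of_pow_eq_one h1)
    have hdvd := Subgroup.orderOf_dvd_natCard _ hv2
    rw [hi] at hdvd
    have hodd := hy.odd_centralizer h
    have hi0 : i = 0 := by
      by_contra hne
      exact absurd ((dvd_pow_self 2 hne).trans hdvd) (by rw [← even_iff_two_dvd, Nat.not_even_iff_odd]; exact hodd)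
    rw [hi0, pow_zero, orderOf_eq_one_iff] at hi
    exact hi
  refine ⟨v, invol_iff.2 ⟨hsq, fun e' => ?_⟩, hvy⟩
  rw [e', one_mul, inv_one, mul_one] at hvy
  exact hy.not_orderOf_two h (eq_inv_iff_mul_eq_one.1 hvy)

/-- The normaliser of the centraliser of a real outside element. -/
theorem Outside.normalizer_real (h : Hyp t s K) {y u g : G} (hy : Outside K y)
    (hu : orderOf u = 2) (hinv : u * y * u⁻¹ = y⁻¹) (hg : g * t * g⁻¹ = u)
    (hcop : (Nat.card (Subgroup.centralizer ({y} : Set G))).Coprime (Nat.card K)) :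
    ∃ D : Subgroup G, D ≤ K.map (MulAut.conj g).toMonoidHom ∧ u ∈ D ∧
      Subgroup.normalizer (Subgroup.centralizer ({y} : Set G) : Set G) =
        Subgroup.centralizer ({y} : Set G) ⊔ D ∧
      Nat.card ↥(Subgroup.normalizer (Subgroup.centralizer ({y} : Set G) : Set G)) =
        Nat.card (Subgroup.centralizer ({y} : Set G)) * Nat.card D ∧
      Nat.card D ∣ Nat.card K ∧ 2 ≤ Nat.card D ∧
      (∀ m ∈ Subgroup.normalizer (Subgroup.centralizer ({y} : Set G) : Set G),
        (orderOf m).Coprime (Nat.card K) → m ∈ Subgroup.centralizer ({y} : Set G)) := by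
  set A := Subgroup.centralizer ({y} : Set G) with hA
  set M := Subgroup.normalizer (A : Set G) with hM
  set K' := K.map (MulAut.conj g).toMonoidHom with hK'
  have hk' : Hyp u (g * s * g⁻¹) K' := by rw [← hg]; exact h.map g
  have hAodd : Odd (Nat.card A) := hy.odd_centralizer h
  have hyA : y ∈ A := Subgroup.mem_centralizer_singleton_iff.2 rfl
  have huM : u ∈ M := by
    rw [hM, Subgroup.mem_normalizer_iff]
    intro c
    refine ⟨fun hc => by rw [hy.invert_centralizer h hu hinv hc]; exact inv_mem hc, fun hc => ?_⟩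
    have := hy.invert_centralizer h hu hinv hc
    have e : c = (u * c * u⁻¹)⁻¹ := by
      rw [← this, invol_inv hu, show u * (u * c * u) * u = (u * u) * c * (u * u) by group,
        invol_mul_self hu]
      simp
    rw [e]; exact inv_mem hc
  -- elements of `M` centralising `u` lie in `K'`
  have hMu : ∀ d ∈ M, d * u = u * d → d ∈ K' := by
    intro d hd hdu
    by_contra hdK
    have hd2 := hk'.sq_of_notMem hdK hdu
    have hdy : d * y * d⁻¹ ∈ A := (Subgroup.mem_normalizer_iff.1 hd y).1 hyA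
    -- `d` fixes no element of `A`
    let φ : ↥A →* ↥A :=
      { toFun := fun a => ⟨d * (a : G) * d⁻¹, (Subgroup.mem_normalizer_iff.1 hd _).1 a.2⟩
        map_one' := Subtype.ext (by simp)
        map_mul' := fun a b => Subtype.ext (by simp [mul_assoc]) }
    have hfpf : MonoidHom.FixedPointFree φ := by
      intro a ha
      by_contra ha1
      have ha' : d * (a : G) * d⁻¹ = a := congrArg Subtype.val ha
      exact (hy.mem_centralizer h a.2 (fun e => ha1 (Subtype.ext e))).not_comm_invol h hd2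
        (mul_inv_eq_iff_eq_mul.1 ha').symm
    have hinvo : Function.Involutive φ := fun a => Subtype.ext (by
      show d * (d * (a : G) * d⁻¹) * d⁻¹ = a
      rw [invol_inv hd2, show d * (d * (a : G) * d) * d = (d * d) * (a : G) * (d * d) by group,
        invol_mul_self hd2]
      simp)
    have hdinv : d * y * d⁻¹ = y⁻¹ :=
      congrArg Subtype.val (congrFun (hfpf.coe_eq_inv_of_involutive hinvo) ⟨y, hyA⟩)
    have hudy : u * d ∈ A := by
      rw [hA, Subgroup.mem_centralizer_singleton_iff]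
      have h1 : d * y = y⁻¹ * d := mul_inv_eq_iff_eq_mul.1 hdinv
      have h2 : u * y⁻¹ * u⁻¹ = y := by
        have := congrArg (·⁻¹) hinv
        simpa [mul_assoc] using this
      calc u * d * y = u * (d * y) := mul_assoc _ _ _
        _ = (u * y⁻¹ * u⁻¹) * (u * d) := by rw [h1]; group
        _ = y * (u * d) := by rw [h2]
    by_cases h1 : u * d = 1
    · have : d = u := by rw [← invol_inv hu]; exact (eq_inv_of_mul_eq_one_right h1)
      exact hdK (this ▸ hk'.htK)
    · refine (hy.mem_centralizer h hudy h1).not_comm_invol h hu ?_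
      rw [mul_assoc, hdu]
  let D : Subgroup G := M ⊓ Subgroup.centralizer ({u} : Set G)
  have hDK : D ≤ K' := fun d hd => hMu d hd.1 (Subgroup.mem_centralizer_singleton_iff.1 hd.2)
  have hAM : A ≤ M := Subgroup.le_normalizer
  have hAD : A ⊓ D = ⊥ := by
    rw [eq_bot_iff]
    intro c hc
    by_contra hc1
    exact (hy.mem_centralizer h hc.1 (fun e => hc1 (by simp [e]))).not_comm_invol h hu
      (Subgroup.mem_centralizer_singleton_iff.1 hc.2.2)
  have hfac : ∀ m ∈ M, ∃ b ∈ A, b⁻¹ * m ∈ D := by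
    intro m hm
    have hmy : m⁻¹ * y * m ∈ A := by
      simpa using (Subgroup.mem_normalizer_iff.1 (inv_mem hm) y).1 hyA
    have h1 : (m * u * m⁻¹) * y * (m * u * m⁻¹)⁻¹ = y⁻¹ := by
      calc (m * u * m⁻¹) * y * (m * u * m⁻¹)⁻¹ = m * (u * (m⁻¹ * y * m) * u⁻¹) * m⁻¹ := by group
        _ = m * (m⁻¹ * y * m)⁻¹ * m⁻¹ := by rw [hy.invert_centralizer h hu hinv hmy]
        _ = y⁻¹ := by group
    have h2 : u * (m * u * m⁻¹) ∈ A := by
      rw [hA, Subgroup.mem_centralizer_singleton_iff]
      have h3 : m * u * m⁻¹ * y = y⁻¹ * (m * u * m⁻¹) := mul_inv_eq_iff_eq_mul.1 h1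
      have h4 : u * y⁻¹ * u⁻¹ = y := by
        have := congrArg (·⁻¹) hinv
        simpa [mul_assoc] using this
      calc u * (m * u * m⁻¹) * y = u * (m * u * m⁻¹ * y) := mul_assoc _ _ _
        _ = (u * y⁻¹ * u⁻¹) * (u * (m * u * m⁻¹)) := by rw [h3]; group
        _ = y * (u * (m * u * m⁻¹)) := by rw [h4]
    obtain ⟨c, hc, hcc⟩ := exists_sq_eq_of_odd hAodd h2
    refine ⟨c⁻¹, inv_mem hc, ?_⟩
    rw [inv_inv]
    refine ⟨mul_mem (hAM hc) hm, Subgroup.mem_centralizer_singleton_iff.2 ?_⟩
    have h5 : m * u * m⁻¹ = u * (c * c) := by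
      rw [hcc, ← mul_assoc, invol_mul_self hu, one_mul]
    have h6 : u * c = c⁻¹ * u := mul_inv_eq_iff_eq_mul.1 (hy.invert_centralizer h hu hinv hc)
    have h7 : c * u * c = u := by rw [mul_assoc, h6, mul_inv_cancel_left]
    calc c * m * u = c * (m * u * m⁻¹) * m := by group
      _ = (c * u * c) * c * m := by rw [h5]; group
      _ = u * (c * m) := by rw [h7, mul_assoc]
  have huD : u ∈ D := ⟨huM, Subgroup.mem_centralizer_singleton_iff.2 rfl⟩
  have hsup : M = A ⊔ D := by
    refine le_antisymm (fun m hm => ?_) (sup_le hAM inf_le_left)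
    obtain ⟨b, hb, hbd⟩ := hfac m hm
    rw [show m = b * (b⁻¹ * m) by group]
    exact Subgroup.mul_mem_sup hb hbd
  have hcard : Nat.card M = Nat.card A * Nat.card D := by
    rw [← Nat.card_prod]
    refine (Nat.card_eq_of_bijective
      (fun p : A × D => (⟨(p.1 : G) * (p.2 : G), mul_mem (hAM p.1.2) p.2.2.1⟩ : M)) ⟨?_, ?_⟩).symm
    · intro p q e
      have e' : (p.1 : G) * p.2 = (q.1 : G) * q.2 := congrArg Subtype.val e
      have e2 : (q.1 : G)⁻¹ * p.1 = (q.2 : G) * (p.2 : G)⁻¹ := by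
        rw [inv_mul_eq_iff_eq_mul, ← mul_assoc, eq_mul_inv_iff_mul_eq]
        exact e'
      have : (q.1 : G)⁻¹ * p.1 ∈ A ⊓ D := Subgroup.mem_inf.2
        ⟨mul_mem (inv_mem q.1.2) p.1.2, by rw [e2]; exact mul_mem q.2.2 (inv_mem p.2.2)⟩
      rw [hAD, Subgroup.mem_bot] at this
      have e1 : (p.1 : G) = q.1 := (inv_mul_eq_one.1 this).symm
      refine Prod.ext (Subtype.ext e1) (Subtype.ext ?_)
      rw [e1] at e'
      exact mul_left_cancel e'
    · intro m
      obtain ⟨b, hb, hbd⟩ := hfac m.1 m.2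
      exact ⟨(⟨b, hb⟩, ⟨b⁻¹ * m.1, hbd⟩), Subtype.ext (mul_inv_cancel_left b m.1)⟩
  have hKK : Nat.card K' = Nat.card K :=
    Subgroup.card_map_of_injective (MulAut.conj g).injective
  have hDdvd : Nat.card D ∣ Nat.card K := hKK ▸ Subgroup.card_dvd_of_le hDK
  refine ⟨D, hDK, huD, hsup, hcard, hDdvd, ?_, fun m hm hco => ?_⟩
  · have h2 := Subgroup.orderOf_dvd_natCard D huD
    rw [hu] at h2
    exact Nat.le_of_dvd Nat.card_pos h2
  · have hnorm : (A.subgroupOf M).Normal := Subgroup.normal_in_normalizer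
    have hidx : (A.subgroupOf M).index = Nat.card D := by
      have h3 := Subgroup.card_mul_index (A.subgroupOf M)
      rw [Nat.card_congr (Subgroup.subgroupOfEquivOfLe hAM).toEquiv, hcard] at h3
      exact Nat.eq_of_mul_eq_mul_left Nat.card_pos h3
    have hpow : m ^ Nat.card D ∈ A := by
      have := Subgroup.pow_index_mem (A.subgroupOf M) ⟨m, hm⟩
      rw [hidx] at this
      simpa [Subgroup.mem_subgroupOf] using this
    obtain ⟨j, hj⟩ := exists_pow_eq_self_of_coprime
      (Nat.Coprime.coprime_dvd_right hDdvd hco).symm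
    rw [← hj]
    exact pow_mem hpow j

end Cfsg.Agent.Lib.BSW
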