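import Cfsg.Agent.Lib.BSW.Star

/-!
# The order of `G`, and the number of ways an outside element is a product of two involutions
-/

namespace Cfsg.Agent.Lib.BSW

open Cfsg.Agent.Lib.Involutions.Basic Cfsg.Agent.Lib.Characters.Basic
open Cfsg.Agent.Lib.Characters.Complete Cfsg.Agent.Lib.Characters.Linear
open scoped ComplexConjugate

universe u

/-- The three small possibilities when `|K| = 2`. -/
theorem three_signed {x y z : ℤ} {g : ℕ} (hx : x % 4 = 3) (hy : y % 4 = 3) (hz : z % 4 = 3)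
    (hsum : x + y + z = 1) (hg : (g : ℚ) * (-1 + (1 / (x : ℚ) + 1 / (y : ℚ) + 1 / (z : ℚ))) = -32)
    (hsq : 1 + x ^ 2 + y ^ 2 + z ^ 2 ≤ (g : ℤ)) :
    ∃ η : ℤ, (η = 1 ∨ η = -1) ∧ (g : ℤ) = 4 * (2 + η) * (4 + η) ∧
      ((x = -1 - 4 * η ∧ y = 1 + 2 * η ∧ z = 1 + 2 * η) ∨
        (y = -1 - 4 * η ∧ x = 1 + 2 * η ∧ z = 1 + 2 * η) ∨
        (z = -1 - 4 * η ∧ x = 1 + 2 * η ∧ y = 1 + 2 * η)) := by
  have bd : ∀ w : ℤ, w % 4 = 3 → (1 : ℚ) / w ≤ 1 / 3 := by
    intro w hw
    rcases le_or_gt w 0 with h0 | h0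
    · have : (w : ℚ) ≤ 0 := by exact_mod_cast h0
      linarith [div_nonpos_of_nonneg_of_nonpos (zero_le_one (α := ℚ)) this]
    · have : (3 : ℚ) ≤ w := by exact_mod_cast (by omega : (3 : ℤ) ≤ w)
      exact one_div_le_one_div_of_le (by norm_num) this
  have neg : ∀ w : ℤ, w < 0 → (1 : ℚ) / w ≤ 0 := fun w hw =>
    div_nonpos_of_nonneg_of_nonpos zero_le_one (by exact_mod_cast hw.le)
  have hle : 1 / (x : ℚ) + 1 / (y : ℚ) + 1 / (z : ℚ) ≤ 2 / 3 := by
    have h3 : x < 0 ∨ y < 0 ∨ z < 0 := by omega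
    rcases h3 with h0 | h0 | h0
    · linarith [neg x h0, bd y hy, bd z hz]
    · linarith [neg y h0, bd x hx, bd z hz]
    · linarith [neg z h0, bd x hx, bd y hy]
  have hg96 : (g : ℤ) ≤ 96 := by
    have hg0 : (0 : ℚ) ≤ g := Nat.cast_nonneg g
    have hm := mul_le_mul_of_nonneg_left hle hg0
    have : (g : ℚ) ≤ 96 := by linarith
    exact_mod_cast this
  have five : ∀ w : ℤ, w % 4 = 3 → w ^ 2 ≤ 95 → w = -9 ∨ w = -5 ∨ w = -1 ∨ w = 3 ∨ w = 7 := by
    intro w hw h2
    have : -9 ≤ w ∧ w ≤ 9 := ⟨by nlinarith, by nlinarith⟩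
    omega
  have hx2 := five x hx (by nlinarith)
  have hy2 := five y hy (by nlinarith)
  have hz' : z = 1 - x - y := by omega
  subst hz'
  rcases hx2 with rfl | rfl | rfl | rfl | rfl <;> rcases hy2 with rfl | rfl | rfl | rfl | rfl <;>
    norm_num at hz hsq hg ⊢ <;>
    first
    | omega
    | (have hg' : (g : ℚ) = 12 := by linarith
       exact_mod_cast hg')
    | (have hg' : (g : ℚ) = 60 := by linarith
       exact_mod_cast hg')
    | (exfalso
       have hgq : (g : ℚ) ≤ 96 := by exact_mod_cast hg96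
       have hsq' := (Nat.cast_le (α := ℚ)).2 hsq
       push_cast at hsq'
       linarith)

variable {G : Type u} [Group G] {t s : G} {K : Subgroup G} [Fintype G] [Fintype ↥K]
  [Fintype (Cfsg.IrrCharacter ↥K)] [DecidableEq (Cfsg.IrrCharacter ↥K)]

/-- The normalised configuration. -/
structure Conf (η : ℤ) (l₀ : Cfsg.IrrCharacter ↥K) (a p q : Cfsg.IrrCharacter G) : Prop where
  eta : η = 1 ∨ η = -1
  l0 : l₀ ≠ oneChar ↥K
  real0 : conjChar l₀ = l₀
  real : ∀ l : Cfsg.IrrCharacter ↥K, conjChar l = l → l = oneChar ↥K ∨ l = l₀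
  hap : a ≠ p
  haq : a ≠ q
  hpq : p ≠ q
  ha : uvec a l₀ ≠ 0
  hp : uvec p l₀ ≠ 0
  hq : uvec q l₀ ≠ 0
  supp : ∀ χ, uvec χ l₀ ≠ 0 → χ = a ∨ χ = p ∨ χ = q
  shared : ∀ l : Cfsg.IrrCharacter ↥K, conjChar l ≠ l → uvec a l = uvec a l₀
  degp : uvec p l₀ * dg (K := K) p = 1 + (Nat.card ↥K : ℤ) * η
  degq : uvec q l₀ * dg (K := K) q = 1 + (Nat.card ↥K : ℤ) * η
  dega : uvec a l₀ * dg (K := K) a = -1 - 2 * (Nat.card ↥K : ℤ) * η
  order : (Nat.card G : ℤ) =
    2 * (Nat.card ↥K : ℤ) * ((Nat.card ↥K : ℤ) + η) * (2 * (Nat.card ↥K : ℤ) + η)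

variable [Fintype (Cfsg.IrrCharacter G)] (h : Hyp t s K)
include h

theorem conjChar_oneChar : conjChar (oneChar ↥K) = oneChar ↥K :=
  Subtype.ext (funext fun x => by simp [conjChar_apply, oneChar_apply])

theorem sum_dg_sq : ∑ χ : Cfsg.IrrCharacter G, dg (K := K) χ ^ 2 = (Nat.card G : ℤ) := by
  classical
  have e := sum_degree_mul_apply (G := G) 1
  rw [if_pos rfl] at e
  simp only [dg_spec h] at e
  have : ((∑ χ : Cfsg.IrrCharacter G, dg (K := K) χ ^ 2 : ℤ) : ℂ) = ((Nat.card G : ℤ) : ℂ) := by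
    push_cast
    rw [← e]
    simp [pow_two]
  exact_mod_cast this

theorem unit_uvec {l : Cfsg.IrrCharacter ↥K} (hl : l ≠ oneChar ↥K) (χ : Cfsg.IrrCharacter G) :
    uvec χ l = -1 ∨ uvec χ l = 0 ∨ uvec χ l = 1 := by
  refine unit_of_sum_sq_le (fun χ => uvec χ l) ?_ χ
  simp only [pow_two]
  rw [gram_uvec h hl hl]
  split_ifs <;> norm_num

theorem uvec_mul_self {l : Cfsg.IrrCharacter ↥K} (hl : l ≠ oneChar ↥K) {χ : Cfsg.IrrCharacter G}
    (hu : uvec χ l ≠ 0) : uvec χ l * uvec χ l = 1 := by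
  rcases unit_uvec h hl χ with e | e | e
  · rw [e]; rfl
  · exact absurd e hu
  · rw [e]; rfl

/-- The basic properties of a star. -/
structure Star (l₀ : Cfsg.IrrCharacter ↥K) (a p q : Cfsg.IrrCharacter G)
    (e : Cfsg.IrrCharacter ↥K → Cfsg.IrrCharacter G) : Prop where
  dist : ∀ l : Cfsg.IrrCharacter ↥K, conjChar l ≠ l →
    e l ≠ a ∧ uvec (e l) l₀ = 0 ∧ uvec (e l) l ≠ 0 ∧ uvec (e l) (conjChar l) = uvec (e l) l ∧
      (∀ χ, uvec χ l ≠ 0 → χ = a ∨ χ = e l) ∧
      ∀ m : Cfsg.IrrCharacter ↥K, conjChar m ≠ m → m ≠ l → m ≠ conjChar l → uvec (e l) m = 0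
  zero_p : ∀ l : Cfsg.IrrCharacter ↥K, conjChar l ≠ l → uvec p l = 0
  zero_q : ∀ l : Cfsg.IrrCharacter ↥K, conjChar l ≠ l → uvec q l = 0
  ft_a : ∑ m : Cfsg.IrrCharacter ↥K, wt a m * sg t h.htK m = -uvec a l₀
  ft_p : ∑ m : Cfsg.IrrCharacter ↥K, wt p m * sg t h.htK m = uvec p l₀ * sg t h.htK l₀
  ft_q : ∑ m : Cfsg.IrrCharacter ↥K, wt q m * sg t h.htK m = uvec q l₀ * sg t h.htK l₀
  ft_e : ∀ l : Cfsg.IrrCharacter ↥K, conjChar l ≠ l →
    ∑ m : Cfsg.IrrCharacter ↥K, wt (e l) m * sg t h.htK m = 2 * uvec (e l) l * sg t h.htK l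

theorem exists_e {l₀ : Cfsg.IrrCharacter ↥K} {a p q : Cfsg.IrrCharacter G}
    (hl₀ : l₀ ≠ oneChar ↥K) (hl₀r : conjChar l₀ = l₀)
    (hreal : ∀ l : Cfsg.IrrCharacter ↥K, conjChar l = l → l = oneChar ↥K ∨ l = l₀)
    (hap : a ≠ p) (haq : a ≠ q) (ha : uvec a l₀ ≠ 0) (hp : uvec p l₀ ≠ 0) (hq : uvec q l₀ ≠ 0)
    (hsh : ∀ l : Cfsg.IrrCharacter ↥K, conjChar l ≠ l → uvec a l = uvec a l₀) :
    ∃ e : Cfsg.IrrCharacter ↥K → Cfsg.IrrCharacter G, Star h l₀ a p q e := by
  classical
  have hone := conjChar_oneChar h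
  have hnr1 : ∀ l : Cfsg.IrrCharacter ↥K, conjChar l ≠ l → l ≠ oneChar ↥K :=
    fun l hl e => hl (e ▸ hone)
  have hnr0 : ∀ l : Cfsg.IrrCharacter ↥K, conjChar l ≠ l → l₀ ≠ l ∧ conjChar l₀ ≠ l := fun l hl =>
    ⟨fun e => hl (e ▸ hl₀r), fun e => hl (by rw [← e, conjChar_conjChar, hl₀r])⟩
  have sel : ∀ l : Cfsg.IrrCharacter ↥K, ∃ x, conjChar l ≠ l → a ≠ x ∧ uvec x l ≠ 0 ∧
      ∀ χ, uvec χ l ≠ 0 → χ = a ∨ χ = x := by
    intro l
    by_cases hl : conjChar l = l
    · exact ⟨a, fun e => absurd hl e⟩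
    · obtain ⟨x, h1, h2, h3⟩ := exists_other_of_two (fun χ => uvec χ l) (by
        simp only [pow_two]
        rw [gram_uvec h (hnr1 l hl) (hnr1 l hl), if_pos rfl, if_neg hl]; norm_num) (a := a)
        (by rw [hsh l hl]; exact ha)
      exact ⟨x, fun _ => ⟨h1, h2, h3⟩⟩
  choose e he using sel
  have dot : ∀ l : Cfsg.IrrCharacter ↥K, conjChar l ≠ l → ∀ m : Cfsg.IrrCharacter ↥K,
      ∑ χ : Cfsg.IrrCharacter G, uvec χ l * uvec χ m =
        uvec a l * uvec a m + uvec (e l) l * uvec (e l) m := by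
    intro l hl m
    simpa using sum_mul_two (fun χ => uvec χ l) (fun χ => uvec χ m) (he l hl).1 (he l hl).2.2
  have hzero0 : ∀ l : Cfsg.IrrCharacter ↥K, conjChar l ≠ l → uvec (e l) l₀ = 0 := by
    intro l hl
    have := dot l hl l₀
    rw [gram_uvec h (hnr1 l hl) hl₀, if_neg (hnr0 l hl).1, if_neg (hnr0 l hl).2, hsh l hl,
      uvec_mul_self h hl₀ ha] at this
    have h2 : uvec (e l) l * uvec (e l) l₀ = 0 := by linarith
    exact (mul_eq_zero.1 h2).resolve_left (he l hl).2.1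
  have hbar : ∀ l : Cfsg.IrrCharacter ↥K, conjChar l ≠ l →
      uvec (e l) (conjChar l) = uvec (e l) l := by
    intro l hl
    have hc : conjChar (conjChar l) ≠ conjChar l := by rw [conjChar_conjChar]; exact Ne.symm hl
    have := dot l hl (conjChar l)
    rw [gram_uvec h (hnr1 l hl) (hnr1 _ hc), if_neg hl, conjChar_conjChar, if_pos rfl, hsh l hl,
      hsh _ hc, uvec_mul_self h hl₀ ha] at this
    exact (unit_dot_one (unit_uvec h (hnr1 l hl) _) (unit_uvec h (hnr1 _ hc) _) (by linarith)).1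
  have hother : ∀ l : Cfsg.IrrCharacter ↥K, conjChar l ≠ l → ∀ m : Cfsg.IrrCharacter ↥K,
      conjChar m ≠ m → m ≠ l → m ≠ conjChar l → uvec (e l) m = 0 := by
    intro l hl m hm h1 h2
    have := dot l hl m
    rw [gram_uvec h (hnr1 l hl) (hnr1 _ hm), if_neg h1,
      if_neg (fun e' => h2 (by rw [← e', conjChar_conjChar])), hsh l hl, hsh _ hm,
      uvec_mul_self h hl₀ ha] at this
    have h3 : uvec (e l) l * uvec (e l) m = 0 := by linarith
    exact (mul_eq_zero.1 h3).resolve_left (he l hl).2.1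
  have hz : ∀ x, a ≠ x → uvec x l₀ ≠ 0 → ∀ l : Cfsg.IrrCharacter ↥K, conjChar l ≠ l →
      uvec x l = 0 := by
    intro x hax hx l hl
    by_contra hne
    rcases (he l hl).2.2 x hne with e' | e'
    · exact hax e'.symm
    · exact hx (e' ▸ hzero0 l hl)
  have ha1 := ne_oneChar_of_uvec ha
  have hwa : ∀ m : Cfsg.IrrCharacter ↥K, wt a m * sg t h.htK m =
      uvec a l₀ * sg t h.htK m -
        if m = oneChar ↥K then uvec a l₀ * sg t h.htK (oneChar ↥K) else 0 := by
    intro m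
    by_cases hm : m = oneChar ↥K
    · subst hm; rw [if_pos rfl, wt_oneChar_right]; ring
    rw [if_neg hm, sub_zero, ← uvec_of_ne ha1]
    by_cases hr : conjChar m = m
    · rw [(hreal m hr).resolve_left hm]
    · rw [hsh m hr]
  have hsone : sg t h.htK (oneChar ↥K) = 1 := by
    have := (sg_spec h (oneChar ↥K)).1
    rw [oneChar_apply] at this
    exact_mod_cast this.symm
  have hft : ∀ x, a ≠ x → uvec x l₀ ≠ 0 →
      ∑ m : Cfsg.IrrCharacter ↥K, wt x m * sg t h.htK m = uvec x l₀ * sg t h.htK l₀ := by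
    intro x hax hx
    rw [Finset.sum_eq_single l₀, uvec_of_ne (ne_oneChar_of_uvec hx)]
    · intro m _ hm
      by_cases hr : conjChar m = m
      · rw [(hreal m hr).resolve_right hm, wt_oneChar_right, zero_mul]
      · rw [← uvec_of_ne (ne_oneChar_of_uvec hx), hz x hax hx m hr, zero_mul]
    · intro hm; exact absurd (Finset.mem_univ _) hm
  refine ⟨e, fun l hl => ⟨(he l hl).1.symm, hzero0 l hl, (he l hl).2.1, hbar l hl, (he l hl).2.2,
    hother l hl⟩, hz p hap hp, hz q haq hq, ?_, hft p hap hp, hft q haq hq, fun l hl => ?_⟩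
  · rw [Finset.sum_congr rfl fun m _ => hwa m, Finset.sum_sub_distrib, ← Finset.mul_sum,
      sum_sg h, Finset.sum_ite_eq', if_pos (Finset.mem_univ _), hsone]
    ring
  · have hx1 := ne_oneChar_of_uvec (he l hl).2.1
    rw [Finset.sum_eq_add l (conjChar l) (Ne.symm hl), ← uvec_of_ne hx1, ← uvec_of_ne hx1,
      hbar l hl, sg_conjChar h]
    · ring
    · intro m _ hm
      by_cases hr : conjChar m = m
      · rcases hreal m hr with e' | e'
        · rw [e', wt_oneChar_right, zero_mul]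
        · rw [e', ← uvec_of_ne hx1, hzero0 l hl, zero_mul]
      · rw [← uvec_of_ne hx1, hother l hl m hr hm.1 hm.2, zero_mul]
    · intro hm; exact absurd (Finset.mem_univ _) hm
    · intro hm; exact absurd (Finset.mem_univ _) hm

theorem exists_conf : ∃ η l₀ a p q, Conf (K := K) (G := G) η l₀ a p q := by
  classical
  obtain ⟨l₀, a, p, q, hl₀, hl₀r, hreal, hap, haq, hpq, ha, hp, hq, hS, hsh⟩ := exists_star h
  obtain ⟨e, hst⟩ := exists_e h hl₀ hl₀r hreal hap haq ha hp hq hsh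
  set k : ℤ := (Nat.card ↥K : ℤ) with hk
  have hkpos : 0 < k := by rw [hk]; exact_mod_cast Nat.card_pos
  have hk2 : 2 ≤ k := by
    have := Nat.le_of_dvd Nat.card_pos h.even_card
    rw [hk]; exact_mod_cast this
  set P := uvec a l₀ * dg (K := K) a with hP
  set A := uvec p l₀ * dg (K := K) p with hA
  set B := uvec q l₀ * dg (K := K) q with hB
  have hsum : P + A + B = 1 := by
    have := sum_uvec_dg h hl₀
    rw [← Finset.sum_congr rfl fun χ _ => congrArg (· * dg (K := K) χ) (Int.cast_id (n := uvec χ l₀)),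
      sum_mul_three (fun χ => uvec χ l₀) _ hap haq hpq hS] at this
    simpa [hP, hA, hB] using this
  have recip : ∀ {χ : Cfsg.IrrCharacter G} {l : Cfsg.IrrCharacter ↥K}, l ≠ oneChar ↥K →
      uvec χ l ≠ 0 → ∀ c : ℚ, (uvec χ l : ℚ) * (c / (dg (K := K) χ : ℚ)) =
        c / ((uvec χ l * dg (K := K) χ : ℤ) : ℚ) := by
    intro χ l hl hu c
    rcases unit_uvec h hl χ with e' | e' | e'
    · rw [e']; push_cast; rw [neg_one_mul, neg_one_mul, div_neg]
    · exact absurd e' hu
    · rw [e']; push_cast; rw [one_mul, one_mul]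
  have sq1 : ∀ {χ : Cfsg.IrrCharacter G}, uvec χ l₀ ≠ 0 →
      ((uvec χ l₀ * sg t h.htK l₀ : ℤ) : ℚ) ^ 2 = 1 := by
    intro χ hu
    rw [← Int.cast_pow, ← Int.cast_one]
    congr 1
    rw [mul_pow, pow_two, pow_two, uvec_mul_self h hl₀ hu, sg_sq h, one_mul]
  have hT0 : (Nat.card G : ℚ) * (-1 + (1 / (P : ℚ) + 1 / (A : ℚ) + 1 / (B : ℚ))) =
      -4 * (k : ℚ) ^ 3 := by
    have e0 := sum_uvec_classMult h hl₀
    rw [sum_mul_three (fun χ => uvec χ l₀) _ hap haq hpq hS, hst.ft_a, hst.ft_p, hst.ft_q,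
      sq1 hp, sq1 hq,
      show ((-uvec a l₀ : ℤ) : ℚ) ^ 2 = 1 by
        rw [Int.cast_neg, neg_sq, pow_two, ← Int.cast_mul, uvec_mul_self h hl₀ ha, Int.cast_one],
      recip hl₀ ha, recip hl₀ hp, recip hl₀ hq] at e0
    rw [hk, hP, hA, hB]
    push_cast at e0 ⊢
    exact e0
  have hsq := sum_dg_sq h
  have sqeq : ∀ {χ : Cfsg.IrrCharacter G} {l : Cfsg.IrrCharacter ↥K}, l ≠ oneChar ↥K →
      uvec χ l ≠ 0 → (uvec χ l * dg (K := K) χ) ^ 2 = dg (K := K) χ ^ 2 := by
    intro χ l hl hu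
    rw [mul_pow, pow_two (uvec χ l), uvec_mul_self h hl hu, one_mul]
  have hone0 := ne_oneChar_of_uvec ha
  have hone1 := ne_oneChar_of_uvec hp
  have hone2 := ne_oneChar_of_uvec hq
  by_cases hNR : ∀ l : Cfsg.IrrCharacter ↥K, conjChar l = l
  · -- `|K| = 2`
    have hk' : k = 2 := by
      have := card_real h
      rw [Finset.filter_true_of_mem fun l _ => hNR l, Finset.card_univ, card_irrK h] at this
      rw [hk]; exact_mod_cast this
    have hs0 : sg t h.htK l₀ = -1 := by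
      have := sum_sg h
      rw [Finset.sum_eq_add (oneChar ↥K) l₀ (Ne.symm hl₀)] at this
      · have h1 : sg t h.htK (oneChar ↥K) = 1 := by
          have := (sg_spec h (oneChar ↥K)).1
          rw [oneChar_apply] at this
          exact_mod_cast this.symm
        omega
      · intro m _ hm; rcases hreal m (hNR m) with e' | e'
        · exact absurd e' hm.1
        · exact absurd e' hm.2
      · intro hm; exact absurd (Finset.mem_univ _) hm
      · intro hm; exact absurd (Finset.mem_univ _) hm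
    -- a congruence modulo four from the four-group `C(t)`
    have hmod : ∀ χ : Cfsg.IrrCharacter G, uvec χ l₀ ≠ 0 →
        ∑ m : Cfsg.IrrCharacter ↥K, wt χ m * sg t h.htK m = -uvec χ l₀ →
        (uvec χ l₀ * dg (K := K) χ) % 4 = 3 := by
      intro χ hu hft
      have hCcard : Nat.card (Subgroup.centralizer ({t} : Set G)) = 4 := by
        rw [h.card_C]
        have : Nat.card ↥K = 2 := by rw [hk] at hk'; exact_mod_cast hk'
        rw [this]
      letI : Fintype ↥(Subgroup.centralizer ({t} : Set G)) := Fintype.ofFinite _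
      obtain ⟨n, hn⟩ := Cfsg.Agent.Lib.H80.ClassMult.exists_sum_subgroup χ
        (Subgroup.centralizer ({t} : Set G))
      rw [hCcard] at hn
      have hval : ∀ u : ↥(Subgroup.centralizer ({t} : Set G)), (χ : G → ℂ) u =
          if u = 1 then ((dg (K := K) χ : ℤ) : ℂ) else ((-uvec χ l₀ : ℤ) : ℂ) := by
        intro u
        split_ifs with hu1
        · rw [hu1]; exact dg_spec h χ
        · have hu2 : orderOf (u : G) = 2 := by
            by_cases huK : (u : G) ∈ K
            · refine invol_iff.2 ⟨?_, fun e' => hu1 (Subtype.ext e')⟩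
              by_contra hne
              have hc := h.centralizer_of_mem huK hne
              have hKcard : Nat.card ↥K = 2 := by rw [hk] at hk'; exact_mod_cast hk'
              have := Subgroup.orderOf_dvd_natCard K huK
              rw [hKcard] at this
              exact hne (by rw [← pow_two]; exact orderOf_dvd_iff_pow_eq_one.1 this)
            · exact h.sq_of_notMem huK ((h.centralizer_t _).1 u.2)
          rw [← hft, ← apply_t h χ]
          exact (classFunction_apply_of_isConj (isClassFunction_irr χ) (h.conj t u h.ht hu2)).symm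
      rw [Finset.sum_congr rfl fun u _ => hval u, Finset.sum_ite, Finset.filter_eq',
        if_pos (Finset.mem_univ _), Finset.sum_singleton, Finset.sum_const, Finset.filter_ne',
        Finset.card_erase_of_mem (Finset.mem_univ _), Finset.card_univ,
        ← Nat.card_eq_fintype_card, hCcard, nsmul_eq_mul] at hn
      have hn' : dg (K := K) χ + 3 * -uvec χ l₀ = 4 * (n : ℤ) := by exact_mod_cast hn
      rcases unit_uvec h hl₀ χ with e' | e' | e'
      · rw [e'] at hn' ⊢; omega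
      · exact absurd e' hu
      · rw [e'] at hn' ⊢; omega
    have hlow : 1 + P ^ 2 + A ^ 2 + B ^ 2 ≤ (Nat.card G : ℤ) := by
      rw [← hsq, hP, hA, hB, sqeq hl₀ ha, sqeq hl₀ hp, sqeq hl₀ hq]
      refine le_trans (le_of_eq ?_) (Finset.sum_le_sum_of_subset_of_nonneg
        (Finset.subset_univ ({oneChar G, a, p, q} : Finset (Cfsg.IrrCharacter G)))
        fun χ _ _ => sq_nonneg _)
      rw [Finset.sum_insert (by simp [Ne.symm hone0, Ne.symm hone1, Ne.symm hone2]),
        Finset.sum_insert (by simp [hap, haq]), Finset.sum_pair hpq, dg_oneChar h]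
      ring
    rw [hk'] at hT0
    obtain ⟨η, hη, hg, hcases⟩ := three_signed (hmod a ha hst.ft_a)
      (hmod p hp (by rw [hst.ft_p, hs0]; ring)) (hmod q hq (by rw [hst.ft_q, hs0]; ring)) hsum
      (g := Nat.card G) (by rw [hT0]; norm_num) hlow
    have hord : (Nat.card G : ℤ) = 2 * k * (k + η) * (2 * k + η) := by rw [hk', hg]; ring
    rcases hcases with ⟨e1, e2, e3⟩ | ⟨e1, e2, e3⟩ | ⟨e1, e2, e3⟩
    · exact ⟨η, l₀, a, p, q, hη, hl₀, hl₀r, hreal, hap, haq, hpq, ha, hp, hq, hS, hsh,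
        by rw [← hk, hk', e2], by rw [← hk, hk', e3],
        by rw [← hk, hk', e1]; ring, by rw [← hk]; exact hord⟩
    · exact ⟨η, l₀, p, a, q, hη, hl₀, hl₀r, hreal, hap.symm, hpq, haq, hp, ha, hq,
        fun χ hχ => by rcases hS χ hχ with e' | e' | e' <;> simp [e'],
        fun l hl => absurd (hNR l) hl,
        by rw [← hk, hk', e2], by rw [← hk, hk', e3],
        by rw [← hk, hk', e1]; ring, by rw [← hk]; exact hord⟩
    · exact ⟨η, l₀, q, a, p, hη, hl₀, hl₀r, hreal, haq.symm, hpq.symm, hap, hq, ha, hp,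
        fun χ hχ => by rcases hS χ hχ with e' | e' | e' <;> simp [e'],
        fun l hl => absurd (hNR l) hl,
        by rw [← hk, hk', e2], by rw [← hk, hk', e3],
        by rw [← hk, hk', e1]; ring, by rw [← hk]; exact hord⟩
  -- `|K| ≥ 4`
  push Not at hNR
  obtain ⟨l₁, hl₁⟩ := hNR
  have hone := conjChar_oneChar h
  have hnr1 : ∀ l : Cfsg.IrrCharacter ↥K, conjChar l ≠ l → l ≠ oneChar ↥K :=
    fun l hl e => hl (e ▸ hone)
  have hdegl : ∀ l : Cfsg.IrrCharacter ↥K, conjChar l ≠ l →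
      P + uvec (e l) l * dg (K := K) (e l) = 1 := by
    intro l hl
    obtain ⟨h1, h2, h3, -, h5, -⟩ := hst.dist l hl
    have := sum_uvec_dg h (hnr1 l hl)
    rw [← Finset.sum_congr rfl fun χ _ => congrArg (· * dg (K := K) χ) (Int.cast_id (n := uvec χ l)),
      sum_mul_two (fun χ => uvec χ l) _ h1.symm h5] at this
    simpa [hP, hsh l hl] using this
  obtain ⟨h1, h2, h3, -, h5, -⟩ := hst.dist l₁ hl₁
  have hT1 : (Nat.card G : ℚ) * (-1 + (1 / (P : ℚ) + 4 / ((1 - P : ℤ) : ℚ))) =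
      -4 * (k : ℚ) ^ 3 := by
    have e0 := sum_uvec_classMult h (hnr1 l₁ hl₁)
    rw [sum_mul_two (fun χ => uvec χ l₁) _ h1.symm h5, hst.ft_a, hst.ft_e l₁ hl₁, hsh l₁ hl₁,
      show ((-uvec a l₀ : ℤ) : ℚ) ^ 2 = 1 by
        rw [Int.cast_neg, neg_sq, pow_two, ← Int.cast_mul, uvec_mul_self h hl₀ ha, Int.cast_one],
      show ((2 * uvec (e l₁) l₁ * sg t h.htK l₁ : ℤ) : ℚ) ^ 2 = 4 by
        rw [← Int.cast_pow, mul_pow, mul_pow, pow_two (uvec _ _), pow_two (sg t h.htK l₁),
          uvec_mul_self h (hnr1 l₁ hl₁) h3, sg_sq h]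
        norm_num,
      recip hl₀ ha, recip (hnr1 l₁ hl₁) h3,
      show uvec (e l₁) l₁ * dg (K := K) (e l₁) = 1 - P by have := hdegl l₁ hl₁; omega] at e0
    rw [hk, hP]
    rw [hP] at e0
    push_cast at e0 ⊢
    exact e0
  have hne : ∀ {χ : Cfsg.IrrCharacter G} {l : Cfsg.IrrCharacter ↥K}, uvec χ l ≠ 0 →
      uvec χ l * dg (K := K) χ ≠ 0 := fun {χ l} hu => mul_ne_zero hu (dg_pos h χ).ne'
  have hP0 : P ≠ 0 := hne ha
  have hA0 : A ≠ 0 := hne hp
  have hB0 : B ≠ 0 := hne hq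
  have hE0 : (1 - P : ℤ) ≠ 0 := by
    have := hne h3
    have := hdegl l₁ hl₁
    omega
  have hG : (Nat.card G : ℚ) ≠ 0 := Nat.cast_ne_zero.2 Nat.card_pos.ne'
  have hAB : A = B := by
    have e1 := add_left_cancel (mul_left_cancel₀ hG (hT0.trans hT1.symm))
    have qP : (P : ℚ) ≠ 0 := Int.cast_ne_zero.2 hP0
    have qA : (A : ℚ) ≠ 0 := Int.cast_ne_zero.2 hA0
    have qB : (B : ℚ) ≠ 0 := Int.cast_ne_zero.2 hB0
    have hE : ((1 - P : ℤ) : ℚ) = (A : ℚ) + B := by
      have : 1 - P = A + B := by omega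
      rw [this, Int.cast_add]
    have qE : (A : ℚ) + B ≠ 0 := hE ▸ Int.cast_ne_zero.2 hE0
    rw [hE] at e1
    have e2 : ((A : ℚ) + B) / ((A : ℚ) * B) = 4 / ((A : ℚ) + B) := by
      have : 1 / (A : ℚ) + 1 / (B : ℚ) = 4 / ((A : ℚ) + B) := by linarith
      rw [← this]; field_simp; ring
    rw [div_eq_div_iff (mul_ne_zero qA qB) qE] at e2
    have e3 : ((A : ℚ) - B) ^ 2 = 0 := by linear_combination e2
    have := sub_eq_zero.1 (pow_eq_zero_iff two_ne_zero |>.1 e3)
    exact_mod_cast this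
  obtain ⟨i, hi⟩ : ∃ i, A = 1 + k * i := by
    refine ⟨uvec p l₀ * mlt p (oneChar ↥K), ?_⟩
    have hw : ∑ l : Cfsg.IrrCharacter ↥K, wt p l = uvec p l₀ := by
      rw [Finset.sum_eq_single l₀, uvec_of_ne hone1]
      · intro m _ hm
        by_cases hr : conjChar m = m
        · rw [(hreal m hr).resolve_right hm, wt_oneChar_right]
        · rw [← uvec_of_ne hone1, hst.zero_p m hr]
      · intro hm; exact absurd (Finset.mem_univ _) hm
    rw [hA, dg, hw, hk, mul_add, uvec_mul_self h hl₀ hp]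
    ring
  have hPA : P = 1 - 2 * A := by omega
  -- the main equation
  have hmain : (Nat.card G : ℤ) * i ^ 2 = 2 * k * A * (2 * A - 1) := by
    have qA : (A : ℚ) ≠ 0 := Int.cast_ne_zero.2 hA0
    have qP : (P : ℚ) ≠ 0 := Int.cast_ne_zero.2 hP0
    have e1 := hT0
    rw [← hAB] at e1
    have e2 : (Nat.card G : ℚ) * (-(P : ℚ) * A + A + 2 * P) = -4 * (k : ℚ) ^ 3 * (P * A) := by
      rw [← e1]; field_simp; ring
    have e3 : (Nat.card G : ℤ) * (-P * A + A + 2 * P) = -4 * k ^ 3 * (P * A) := by exact_mod_cast e2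
    rw [hPA] at e3
    have e4 : (2 * k ^ 2) * ((Nat.card G : ℤ) * i ^ 2) = (2 * k ^ 2) * (2 * k * A * (2 * A - 1)) := by
      rw [hi] at e3 ⊢
      linear_combination e3
    exact mul_left_cancel₀ (by positivity) e4
  have hlow : (1 + P ^ 2 + 2 * A ^ 2) + (k - 2) * (2 * A ^ 2) ≤ (Nat.card G : ℤ) := by
    set NR := Finset.univ.filter fun l : Cfsg.IrrCharacter ↥K => conjChar l ≠ l with hNR
    have hNRcard : (NR.card : ℤ) = k - 2 := by
      have := Finset.card_filter_add_card_filter_not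
        (s := (Finset.univ : Finset (Cfsg.IrrCharacter ↥K))) (fun l => conjChar l = l)
      rw [card_real h, Finset.card_univ, card_irrK h] at this
      simp only [hk, hNR, ne_eq]
      omega
    have himg : NR.card ≤ 2 * (NR.image e).card := by
      refine Finset.card_le_mul_card_image _ 2 fun x hx => ?_
      obtain ⟨l, hl, rfl⟩ := Finset.mem_image.1 hx
      rw [hNR, Finset.mem_filter] at hl
      refine le_trans (Finset.card_le_card (t := {l, conjChar l}) fun m hm => ?_) Finset.card_le_two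
      rw [Finset.mem_filter, hNR, Finset.mem_filter] at hm
      simp only [Finset.mem_insert, Finset.mem_singleton]
      by_contra hno
      simp only [not_or] at hno
      have hz := (hst.dist l hl.2).2.2.2.2.2 m hm.1.2 hno.1 hno.2
      rw [← hm.2] at hz
      exact (hst.dist m hm.1.2).2.2.1 hz
    have hdeg : ∀ x ∈ NR.image e, dg (K := K) x ^ 2 = 4 * A ^ 2 := by
      intro x hx
      obtain ⟨l, hl, rfl⟩ := Finset.mem_image.1 hx
      rw [hNR, Finset.mem_filter] at hl
      rw [← sqeq (hnr1 l hl.2) (hst.dist l hl.2).2.2.1,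
        show uvec (e l) l * dg (K := K) (e l) = 2 * A by have := hdegl l hl.2; omega]
      ring
    have hdisj : Disjoint ({oneChar G, a, p, q} : Finset (Cfsg.IrrCharacter G)) (NR.image e) := by
      rw [Finset.disjoint_right]
      intro x hx
      obtain ⟨l, hl, rfl⟩ := Finset.mem_image.1 hx
      rw [hNR, Finset.mem_filter] at hl
      obtain ⟨f1, f2, f3, -⟩ := hst.dist l hl.2
      simp only [Finset.mem_insert, Finset.mem_singleton, not_or]
      exact ⟨ne_oneChar_of_uvec f3, f1, fun e' => hp (e' ▸ f2), fun e' => hq (e' ▸ f2)⟩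
    have := Finset.sum_le_sum_of_subset_of_nonneg (f := fun χ => dg (K := K) χ ^ 2)
      (Finset.subset_univ (({oneChar G, a, p, q} : Finset (Cfsg.IrrCharacter G)) ∪ NR.image e))
      fun χ _ _ => sq_nonneg _
    rw [hsq, Finset.sum_union hdisj,
      Finset.sum_insert (by simp [Ne.symm hone0, Ne.symm hone1, Ne.symm hone2]),
      Finset.sum_insert (by simp [hap, haq]), Finset.sum_pair hpq, dg_oneChar h,
      Finset.sum_congr rfl hdeg, Finset.sum_const, nsmul_eq_mul,
      ← sqeq hl₀ ha, ← sqeq hl₀ hp, ← sqeq hl₀ hq, ← hP, ← hA, ← hB, ← hAB] at this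
    have h2 : (k - 2) ≤ 2 * ((NR.image e).card : ℤ) := by rw [← hNRcard]; exact_mod_cast himg
    have h3 := mul_le_mul_of_nonneg_right h2 (by positivity : (0 : ℤ) ≤ 2 * A ^ 2)
    linarith
  have hk4 : 4 ≤ k := by
    by_contra hlt
    have hk2' : k ≤ 3 := by omega
    have heven : (2 : ℤ) ∣ k := by rw [hk]; exact_mod_cast h.even_card
    have hk2'' : k = 2 := by omega
    have := Finset.card_filter_add_card_filter_not
      (s := (Finset.univ : Finset (Cfsg.IrrCharacter ↥K))) (fun l => conjChar l = l)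
    rw [card_real h, Finset.card_univ, card_irrK h] at this
    have hz : (Finset.univ.filter fun l : Cfsg.IrrCharacter ↥K => ¬ conjChar l = l).card = 0 := by
      omega
    rw [Finset.card_eq_zero, Finset.filter_eq_empty_iff] at hz
    exact hz (Finset.mem_univ l₁) hl₁
  have hi0 : i ≠ 0 := by
    intro e0
    rw [hi, e0] at hmain
    have : (0 : ℤ) = 2 * k := by linarith
    omega
  have hA1 : A ≠ 1 ∧ A ≠ -1 := by
    constructor
    · intro e1
      have : k * i = 0 := by linarith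
      exact hi0 ((mul_eq_zero.1 this).resolve_left (by omega))
    · intro e1
      have h2 : k * i = -2 := by linarith
      have : k ∣ 2 := ⟨-i, by linarith⟩
      have := Int.le_of_dvd (by norm_num) this
      omega
  have hiu : i = 1 ∨ i = -1 := by
    by_contra hno
    have h2 : 2 ≤ i ∨ i ≤ -2 := by omega
    have hi2 : 4 ≤ i ^ 2 := by rcases h2 with h2 | h2 <;> nlinarith
    have hGpos : (0 : ℤ) ≤ (Nat.card G : ℤ) := Nat.cast_nonneg _
    have h4 : 4 * (Nat.card G : ℤ) ≤ 2 * k * A * (2 * A - 1) := by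
      rw [← hmain]; nlinarith
    rw [hPA] at hlow
    have hA2 : 2 ≤ A ∨ A ≤ -2 := by omega
    have h5 : (4 * k + 8) * A ^ 2 ≤ (16 - 2 * k) * A := by nlinarith
    rcases hA2 with h6 | h6 <;> nlinarith
  have hord : (Nat.card G : ℤ) = 2 * k * (k + i) * (2 * k + i) := by
    rcases hiu with e' | e' <;> rw [hi, e'] at hmain <;> rw [e'] <;> linarith
  exact ⟨i, l₀, a, p, q, hiu, hl₀, hl₀r, hreal, hap, haq, hpq, ha, hp, hq, hS, hsh,
    by rw [← hk]; linarith, by rw [← hk]; linarith,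
    by rw [← hk]; linarith, by rw [← hk]; exact hord⟩

/-- Outside elements: the number of pairs of involutions with given product. -/
theorem pairs_outside {η : ℤ} {l₀ : Cfsg.IrrCharacter ↥K} {a p q : Cfsg.IrrCharacter G}
    (c : Conf (K := K) η l₀ a p q) {y : G} (hy : Outside K y) :
    ∃ C : ℤ, 2 * (Nat.card (Pairs y) : ℤ) =
      2 * (η + (Nat.card ↥K : ℤ)) + C * (1 + η * (2 * (Nat.card ↥K : ℤ) - 1)) := by
  classical
  obtain ⟨e, hst⟩ := exists_e h c.l0 c.real0 c.real c.hap c.haq c.ha c.hp c.hq c.shared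
  set k : ℤ := (Nat.card ↥K : ℤ) with hk
  have hk2 : 2 ≤ k := by
    have := Nat.le_of_dvd Nat.card_pos h.even_card
    rw [hk]; exact_mod_cast this
  have hone := conjChar_oneChar h
  set z : Cfsg.IrrCharacter G → ℂ := fun χ => conj ((χ : G → ℂ) y) with hz
  set C : ℂ := 1 - (uvec a l₀ : ℂ) * z a with hC
  have hz1 : z (oneChar G) = 1 := by simp [hz, oneChar_apply]
  have horth : ∀ l : Cfsg.IrrCharacter ↥K, l ≠ oneChar ↥K →
      ∑ χ : Cfsg.IrrCharacter G, (uvec χ l : ℂ) * z χ = 1 := by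
    intro l hl
    have := sum_wt_outside h l hy
    rw [sum_uvec_mul h hl] at this
    have e1 := hz1
    simp only [hz] at e1 ⊢
    rw [e1] at this
    linear_combination this
  have h0 : (uvec p l₀ : ℂ) * z p + (uvec q l₀ : ℂ) * z q = C := by
    have := horth l₀ c.l0
    rw [sum_mul_three (fun χ => uvec χ l₀) z c.hap c.haq c.hpq c.supp] at this
    rw [hC]; linear_combination this
  have hE : ∀ l : Cfsg.IrrCharacter ↥K, conjChar l ≠ l → (uvec (e l) l : ℂ) * z (e l) = C := by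
    intro l hl
    obtain ⟨f1, -, -, -, f5, -⟩ := hst.dist l hl
    have := horth l (fun e' => hl (e' ▸ hone))
    rw [sum_mul_two (fun χ => uvec χ l) z f1.symm f5, c.shared l hl] at this
    rw [hC]; linear_combination this
  -- `S = ∑ χ(t)² z(χ)/χ(1)`
  set A : ℤ := 1 + k * η with hA
  have hA0 : (A : ℂ) ≠ 0 := by
    rw [hA, hk, ← c.degp]
    exact Int.cast_ne_zero.2 (mul_ne_zero c.hp (dg_pos h p).ne')
  have hP0 : ((-1 - 2 * k * η : ℤ) : ℂ) ≠ 0 := by
    rw [hk, ← c.dega]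
    exact Int.cast_ne_zero.2 (mul_ne_zero c.ha (dg_pos h a).ne')
  set ft : Cfsg.IrrCharacter G → ℂ :=
    fun χ => ((∑ m : Cfsg.IrrCharacter ↥K, wt χ m * sg t h.htK m : ℤ) : ℂ) with hft
  have hterm : ∀ l : Cfsg.IrrCharacter ↥K,
      ∑ χ : Cfsg.IrrCharacter G, (wt χ l : ℂ) * (ft χ * (z χ / (dg (K := K) χ : ℂ))) =
        (if l = oneChar ↥K then 0 else -1 - (1 - C) / ((-1 - 2 * k * η : ℤ) : ℂ)) +
        (sg t h.htK l : ℂ) *
          (if l = oneChar ↥K then 0 else C / (A : ℂ)) := by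
    intro l
    by_cases hl : l = oneChar ↥K
    · rw [if_pos hl, if_pos hl]
      simp [hl, wt_oneChar_right]
    rw [if_neg hl, if_neg hl, sum_uvec_mul h hl]
    have hft1 : ft (oneChar G) = 1 := by
      have := apply_t h (oneChar G)
      rw [oneChar_apply] at this
      exact this.symm
    rw [hft1, hz1, dg_oneChar h]
    have scale : ∀ {χ : Cfsg.IrrCharacter G} {m : Cfsg.IrrCharacter ↥K}, m ≠ oneChar ↥K →
        uvec χ m ≠ 0 → ∀ w : ℂ, w / (dg (K := K) χ : ℂ) =
          (uvec χ m : ℂ) * w / ((uvec χ m * dg (K := K) χ : ℤ) : ℂ) := by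
      intro χ m hm hu w
      rw [Int.cast_mul, mul_div_mul_left _ _ (Int.cast_ne_zero.2 hu)]
    have hua : ((uvec a l₀ : ℤ) : ℂ) * (uvec a l₀ : ℂ) = 1 := by
      rw [← Int.cast_mul, uvec_mul_self h c.l0 c.ha, Int.cast_one]
    have hterma : ft a * (z a / (dg (K := K) a : ℂ)) * (uvec a l₀ : ℂ) =
        -((1 - C) / ((-1 - 2 * k * η : ℤ) : ℂ)) := by
      rw [scale c.l0 c.ha, c.dega, ← hk, hft]
      simp only [hst.ft_a, Int.cast_neg]
      rw [hC]
      linear_combination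
        (-((uvec a l₀ : ℂ) * z a / ((-1 - 2 * k * η : ℤ) : ℂ))) * hua
    by_cases hr : conjChar l = l
    · obtain rfl := (c.real l hr).resolve_left hl
      rw [sum_mul_three (fun χ => uvec χ l) _ c.hap c.haq c.hpq c.supp]
      have hpterm : ∀ x, uvec x l ≠ 0 →
          ∑ m : Cfsg.IrrCharacter ↥K, wt x m * sg t h.htK m = uvec x l * sg t h.htK l →
          uvec x l * dg (K := K) x = A →
          (uvec x l : ℂ) * (ft x * (z x / (dg (K := K) x : ℂ))) =
            (sg t h.htK l : ℂ) * ((uvec x l : ℂ) * z x) / (A : ℂ) := by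
        intro x hx hfx hdx
        rw [scale c.l0 hx, hdx, hft]
        simp only [hfx, Int.cast_mul]
        have : ((uvec x l : ℤ) : ℂ) * (uvec x l : ℂ) = 1 := by
          rw [← Int.cast_mul, uvec_mul_self h c.l0 hx, Int.cast_one]
        linear_combination (sg t h.htK l : ℂ) * ((uvec x l : ℂ) * z x) / (A : ℂ) * this
      rw [hpterm p c.hp hst.ft_p c.degp, hpterm q c.hq hst.ft_q c.degq]
      push_cast at hterma h0 ⊢
      linear_combination hterma + ((sg t h.htK l : ℂ) / (A : ℂ)) * h0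
    · obtain ⟨f1, -, f3, -, f5, -⟩ := hst.dist l hr
      rw [sum_mul_two (fun χ => uvec χ l) _ f1.symm f5, c.shared l hr]
      have hdeg : uvec (e l) l * dg (K := K) (e l) = 2 * A := by
        have := sum_uvec_dg h hl
        rw [← Finset.sum_congr rfl fun χ _ =>
            congrArg (· * dg (K := K) χ) (Int.cast_id (n := uvec χ l)),
          sum_mul_two (fun χ => uvec χ l) _ f1.symm f5] at this
        simp only [Int.cast_id] at this
        rw [c.shared l hr, c.dega, ← hk] at this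
        rw [hA]; linarith
      have hu1 : ((uvec (e l) l : ℤ) : ℂ) * (uvec (e l) l : ℂ) = 1 := by
        rw [← Int.cast_mul, uvec_mul_self h hl f3, Int.cast_one]
      have he : (uvec (e l) l : ℂ) * (ft (e l) * (z (e l) / (dg (K := K) (e l) : ℂ))) =
          (sg t h.htK l : ℂ) * C / (A : ℂ) := by
        rw [scale hl f3, hdeg, hft, ← hE l hr]
        simp only [hst.ft_e l hr, Int.cast_mul, Int.cast_ofNat]
        field_simp
        linear_combination (sg t h.htK l : ℂ) * z (e l) * hu1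
      rw [he]
      push_cast at hterma ⊢
      linear_combination hterma
  have hS : ∑ χ : Cfsg.IrrCharacter G,
      (χ : G → ℂ) t * (χ : G → ℂ) t * conj ((χ : G → ℂ) y) / (χ : G → ℂ) 1 =
      1 + (1 - C) / ((-1 - 2 * k * η : ℤ) : ℂ) + ((k : ℂ) - 1) * (C / (A : ℂ)) := by
    calc _ = ∑ χ : Cfsg.IrrCharacter G, ∑ l : Cfsg.IrrCharacter ↥K,
          (sg t h.htK l : ℂ) * ((wt χ l : ℂ) * (ft χ * (z χ / (dg (K := K) χ : ℂ)))) := by
          refine Finset.sum_congr rfl fun χ _ => ?_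
          rw [apply_t h, dg_spec h, hft, hz]
          have expand : ∀ r : ℂ, ((∑ m : Cfsg.IrrCharacter ↥K, wt χ m * sg t h.htK m : ℤ) : ℂ) * r =
              ∑ m : Cfsg.IrrCharacter ↥K, (sg t h.htK m : ℂ) * ((wt χ m : ℂ) * r) := by
            intro r
            rw [Int.cast_sum, Finset.sum_mul]
            exact Finset.sum_congr rfl fun m _ => by push_cast; ring
          rw [← expand]
          ring
      _ = ∑ l : Cfsg.IrrCharacter ↥K, (sg t h.htK l : ℂ) *
          ∑ χ : Cfsg.IrrCharacter G, (wt χ l : ℂ) * (ft χ * (z χ / (dg (K := K) χ : ℂ))) := by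
          rw [Finset.sum_comm]
          simp only [Finset.mul_sum]
      _ = _ := by
          have h1 : (sg t h.htK (oneChar ↥K) : ℂ) = 1 := by
            rw [← (sg_spec h _).1, oneChar_apply]
          set X : ℂ := -1 - (1 - C) / ((-1 - 2 * k * η : ℤ) : ℂ)
          set Y : ℂ := C / (A : ℂ)
          have hpt : ∀ l : Cfsg.IrrCharacter ↥K, (sg t h.htK l : ℂ) *
              ∑ χ : Cfsg.IrrCharacter G, (wt χ l : ℂ) * (ft χ * (z χ / (dg (K := K) χ : ℂ))) =
              (sg t h.htK l : ℂ) * X + Y - (if l = oneChar ↥K then X + Y else 0) := by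
            intro l
            rw [hterm l]
            by_cases hl : l = oneChar ↥K
            · subst hl; rw [if_pos rfl, if_pos rfl, if_pos rfl, h1]; ring
            · have hsq : (sg t h.htK l : ℂ) * sg t h.htK l = 1 := by
                rw [← Int.cast_mul, sg_sq h, Int.cast_one]
              rw [if_neg hl, if_neg hl, if_neg hl]
              linear_combination Y * hsq
          rw [Finset.sum_congr rfl fun l _ => hpt l, Finset.sum_sub_distrib, Finset.sum_add_distrib,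
            ← Finset.sum_mul, Finset.sum_ite_eq', if_pos (Finset.mem_univ _), Finset.sum_const,
            Finset.card_univ, card_irrK h, nsmul_eq_mul]
          have hs : ((∑ l : Cfsg.IrrCharacter ↥K, sg t h.htK l : ℤ) : ℂ) = 0 := by
            rw [sum_sg h]; simp
          push_cast at hs
          rw [hs, show ((Nat.card ↥K : ℕ) : ℂ) = (k : ℂ) by simp [hk]]
          simp only [X, Y]
          ring
  have key := classMult h.ht h.conj y
  rw [hS, h.card_C] at key
  have hGc : (Nat.card G : ℂ) = ((2 * k * (k + η) * (2 * k + η) : ℤ) : ℂ) := by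
    rw [hk, ← c.order]; simp
  have hη2 : (η : ℂ) * η = 1 := by rcases c.eta with e' | e' <;> rw [e'] <;> norm_num
  have hk0 : (k : ℂ) ≠ 0 := Int.cast_ne_zero.2 (by omega)
  have hGA : (2 * k * (k + η) * (2 * k + η) : ℤ) = -(2 * k * A * (-1 - 2 * k * η)) := by
    rcases c.eta with e' | e' <;> rw [hA, e'] <;> ring
  have hfin : 2 * (Nat.card (Pairs y) : ℂ) =
      2 * ((η : ℂ) + k) + C * (1 + (η : ℂ) * (2 * (k : ℂ) - 1)) := by
    rw [hGc, hGA] at key
    rw [Nat.cast_mul, Nat.cast_ofNat, show ((Nat.card ↥K : ℕ) : ℂ) = (k : ℂ) by simp [hk]] at key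
    have key2 : -(2 * (k : ℂ)) * (((A : ℂ) * ((-1 - 2 * k * η : ℤ) : ℂ)) + (A : ℂ) * (1 - C) +
        ((k : ℂ) - 1) * C * ((-1 - 2 * k * η : ℤ) : ℂ)) =
        (Nat.card (Pairs y) : ℂ) * (2 * (k : ℂ)) ^ 2 := by
      rw [← key]
      push_cast at hP0 ⊢
      field_simp
    have hAc : (A : ℂ) = 1 + (k : ℂ) * η := by rw [hA]; push_cast; ring
    rw [hAc] at key2
    push_cast at key2
    have key3 : (2 * (k : ℂ) ^ 2) * (2 * (Nat.card (Pairs y) : ℂ)) =
        (2 * (k : ℂ) ^ 2) * (2 * ((η : ℂ) + k) + C * (1 + (η : ℂ) * (2 * (k : ℂ) - 1))) := by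
      linear_combination -key2 + (4 * (k : ℂ) ^ 3) * hη2
    exact mul_left_cancel₀ (mul_ne_zero two_ne_zero (pow_ne_zero 2 hk0)) key3
  have hcoef : (1 + η * (2 * k - 1) : ℤ) ≠ 0 := by rcases c.eta with e' | e' <;> rw [e'] <;> omega
  have hint : IsIntegral ℤ C := by
    rw [hC]
    refine isIntegral_one.sub (IsIntegral.mul isIntegral_algebraMap ?_)
    simp only [hz]
    exact (isIntegral_apply (isCharacter_irr a) y).map (starRingEnd ℂ).toIntAlgHom
  obtain ⟨r, hr⟩ : ∃ r : ℚ, C = (r : ℂ) :=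
    ⟨((2 * (Nat.card (Pairs y) : ℤ) - 2 * (η + k) : ℤ) : ℚ) / ((1 + η * (2 * k - 1) : ℤ) : ℚ), by
      have hne : ((1 + η * (2 * k - 1) : ℤ) : ℂ) ≠ 0 := Int.cast_ne_zero.2 hcoef
      rw [Rat.cast_div, Rat.cast_intCast, Rat.cast_intCast, eq_div_iff hne]
      push_cast
      linear_combination -hfin⟩
  have hr' : IsIntegral ℤ r := by
    rw [← isIntegral_algebraMap_iff (A := ℚ) (B := ℂ) (algebraMap ℚ ℂ).injective]
    rw [hr] at hint
    exact hint
  obtain ⟨C', hC'⟩ := IsIntegrallyClosed.isIntegral_iff.1 hr'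
  refine ⟨C', ?_⟩
  rw [hr, ← hC'] at hfin
  simp only [algebraMap_int_eq, eq_intCast, Rat.cast_intCast] at hfin
  exact_mod_cast hfin

end Cfsg.Agent.Lib.BSW
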