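import Cfsg.Agent.Lib.BSW.Group

/-!
# Divisibility facts for real outside elements, and the normalisers inside the inverted subgroup
-/

namespace Cfsg.Agent.Lib.BSW

open Cfsg.Agent.Lib.Involutions.Basic

variable {G : Type*} [Group G] [Finite G] {t s : G} {K : Subgroup G}

/-- An inverted subgroup that controls fusion of its elements. -/
theorem normalizer_inverted {D : Subgroup G} {u : G}
    (hu : orderOf u = 2) (huD : u ∉ D) (hinv : ∀ d ∈ D, u * d * u⁻¹ = d⁻¹)
    (hcomm : ∀ a ∈ D, ∀ b ∈ D, a * b = b * a)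
    (hctl : ∀ x ∈ D, x ≠ 1 → ∀ g : G, g * x * g⁻¹ ∈ D → g ∈ D ⊔ Subgroup.zpowers u)
    (X : Subgroup G) (hX : X ≤ D) (hX1 : X ≠ ⊥) :
    Subgroup.normalizer (X : Set G) = Subgroup.normalizer (D : Set G) ∧
      ∃ u : G, orderOf u = 2 ∧ u ∉ D ∧ (∀ d ∈ D, u * d * u⁻¹ = d⁻¹) ∧
        Subgroup.normalizer (D : Set G) = D ⊔ Subgroup.zpowers u := by
  have key : ∀ Y : Subgroup G, Y ≤ D → Y ≠ ⊥ →
      Subgroup.normalizer (Y : Set G) = D ⊔ Subgroup.zpowers u := by
    intro Y hY hY1
    refine le_antisymm (fun g hg => ?_) (sup_le (fun d hd => ?_) ?_)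
    · obtain ⟨x, hx, hx1⟩ := Y.ne_bot_iff_exists_ne_one.1 hY1 |>.elim fun x hx =>
        (⟨x.1, x.2, fun e => hx (Subtype.ext e)⟩ : ∃ x, x ∈ Y ∧ x ≠ 1)
      exact hctl x (hY hx) hx1 g
        (hY ((Subgroup.mem_normalizer_iff.1 hg x).1 hx))
    · rw [Subgroup.mem_normalizer_iff]
      intro x
      refine ⟨fun hx => ?_, fun hx => ?_⟩
      · rw [hcomm d hd x (hY hx), mul_inv_cancel_right]; exact hx
      · have hxD : x ∈ D := by
          have := mul_mem (mul_mem (inv_mem hd) (hY hx)) hd
          simpa [mul_assoc] using this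
        rwa [hcomm d hd x hxD, mul_inv_cancel_right] at hx
    · rw [Subgroup.zpowers_le, Subgroup.mem_normalizer_iff]
      intro x
      refine ⟨fun hx => by rw [hinv x (hY hx)]; exact inv_mem hx, fun hx => ?_⟩
      have e : u * (u * x * u⁻¹) * u⁻¹ = x := by
        rw [invol_inv hu, show u * (u * x * u) * u = (u * u) * x * (u * u) by group,
          invol_mul_self hu]
        simp
      rw [← e, hinv _ (hY hx)]
      exact inv_mem hx
  have hD1 : D ≠ ⊥ := fun e => hX1 (le_bot_iff.1 (e ▸ hX))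
  exact ⟨(key X hX hX1).trans (key D le_rfl hD1).symm, u, hu, huD, hinv, key D le_rfl hD1⟩

/-- A prime dividing `|K|` and none of the other factors: every element of that order is in a
conjugate of `K`. -/
theorem coprime_centralizer (h : Hyp t s K) {m : ℕ} (hord : Nat.card G = 2 * Nat.card K * m)
    (hm : m.Coprime (Nat.card K)) {y : G} (hy : Outside K y) :
    (Nat.card (Subgroup.centralizer ({y} : Set G))).Coprime (2 * Nat.card K) := by
  refine Nat.coprime_of_dvd fun p hp hpa hpk => ?_
  have hp2 : p ≠ 2 := by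
    rintro rfl
    exact absurd hpa (by rw [← even_iff_two_dvd, Nat.not_even_iff_odd]; exact hy.odd_centralizer h)
  have hpk' : p ∣ Nat.card K :=
    (hp.dvd_mul.1 hpk).resolve_left fun e => hp2 ((Nat.prime_dvd_prime_iff_eq hp Nat.prime_two).1 e)
  haveI := Fact.mk hp
  obtain ⟨⟨c, hc⟩, hco⟩ := exists_prime_orderOf_dvd_card' p hpa
  have hco' : orderOf c = p := by rwa [← Subgroup.orderOf_coe] at hco
  have hidx : K.index = 2 * m := by
    have := K.card_mul_index
    rw [hord] at this
    exact Nat.eq_of_mul_eq_mul_left Nat.card_pos (this.trans (by ring))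
  obtain ⟨g, hg⟩ := exists_conj_mem_of_not_dvd_index (S := K) (by
    rw [hidx, hp.dvd_mul, not_or]
    exact ⟨fun e => hp2 ((Nat.prime_dvd_prime_iff_eq hp Nat.prime_two).1 e),
      fun e => hp.one_lt.ne' (Nat.eq_one_of_dvd_coprimes hm e hpk')⟩) hco'
  have hc1 : c ≠ 1 := fun e => hp.one_lt.ne' (by rw [← hco', e, orderOf_one])
  exact hy.mem_centralizer h hc hc1 g hg

/-- The centraliser of an outside element divides the part of the order prime to `2|K|`. -/
theorem centralizer_dvd (h : Hyp t s K) {m : ℕ} (hord : Nat.card G = 2 * Nat.card K * m)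
    (hm : m.Coprime (Nat.card K)) {y : G} (hy : Outside K y) :
    Nat.card (Subgroup.centralizer ({y} : Set G)) ∣ m :=
  (coprime_centralizer h hord hm hy).dvd_of_dvd_mul_left (hord ▸ Subgroup.card_subgroup_dvd_card _)

/-- Sizes attached to a real outside element. -/
theorem real_data (h : Hyp t s K) {m : ℕ} (hord : Nat.card G = 2 * Nat.card K * m)
    (hm : m.Coprime (Nat.card K)) {y u g : G} (hy : Outside K y)
    (hu : orderOf u = 2) (hinv : u * y * u⁻¹ = y⁻¹) (hg : g * t * g⁻¹ = u) :
    ∃ D : Subgroup G, D ≤ K.map (MulAut.conj g).toMonoidHom ∧ u ∈ D ∧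
      Subgroup.normalizer (Subgroup.centralizer ({y} : Set G) : Set G) =
        Subgroup.centralizer ({y} : Set G) ⊔ D ∧
      Nat.card D ∣ Nat.card K ∧ 2 ≤ Nat.card D ∧
      (Subgroup.normalizer (Subgroup.centralizer ({y} : Set G) : Set G)).index *
          (Nat.card (Subgroup.centralizer ({y} : Set G)) * Nat.card D) = Nat.card G ∧
      Nat.card (Subgroup.centralizer ({y} : Set G)) ∣
        (Subgroup.normalizer (Subgroup.centralizer ({y} : Set G) : Set G)).index - 1 := by
  have hcop2 := coprime_centralizer h hord hm hy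
  have hcop : (Nat.card (Subgroup.centralizer ({y} : Set G))).Coprime (Nat.card K) :=
    Nat.Coprime.coprime_dvd_right (dvd_mul_left _ 2) hcop2
  obtain ⟨D, hDK, huD, hsup, hcard, hdvd, h2, hmem⟩ := hy.normalizer_real h hu hinv hg hcop
  refine ⟨D, hDK, huD, hsup, hdvd, h2, ?_, ?_⟩
  · rw [← hcard, mul_comm, Subgroup.card_mul_index]
  · refine index_mod_card _ _ Subgroup.le_normalizer fun x hx a ha hxa => ?_
    by_contra ha1
    apply hx
    have hmem' : x⁻¹ * a * x ∈ Subgroup.centralizer ({y} : Set G) := by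
      refine hmem _ hxa ?_
      rw [show x⁻¹ * a * x = x⁻¹ * a * x⁻¹⁻¹ by group, orderOf_conj_eq]
      exact Nat.Coprime.coprime_dvd_left (Subgroup.orderOf_dvd_natCard _ ha) hcop
    have hne : x⁻¹ * a * x ≠ 1 := by
      intro e
      apply ha1
      calc a = x * (x⁻¹ * a * x) * x⁻¹ := by group
        _ = 1 := by rw [e]; group
    have e1 := hy.centralizer_eq h hu hinv ha ha1
    have e2 := hy.centralizer_eq h hu hinv hmem' hne
    rw [Subgroup.mem_normalizer_iff]
    intro c
    conv_lhs => rw [← e2, Subgroup.mem_centralizer_singleton_iff]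
    conv_rhs => rw [← e1, Subgroup.mem_centralizer_singleton_iff]
    constructor
    · intro e
      calc x * c * x⁻¹ * a = x * (c * (x⁻¹ * a * x)) * x⁻¹ := by group
        _ = a * (x * c * x⁻¹) := by rw [e]; group
    · intro e
      calc c * (x⁻¹ * a * x) = x⁻¹ * (x * c * x⁻¹ * a) * x := by group
        _ = x⁻¹ * a * x * c := by rw [e]; group

end Cfsg.Agent.Lib.BSW
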