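import Cfsg.Agent.Lib.Involutions.Basic
import Mathlib.GroupTheory.Index

/-!
# The hypothesis of the Brauer–Suzuki–Wall theorem: elementary consequences

`H = C(t)` has an abelian subgroup `K` of index two, inverted by the involution `s ∈ H \ K`,
with `t` the only involution of `K`; `K` meets its conjugates outside `H` trivially; all
involutions are conjugate.
-/

namespace Cfsg.Agent.Lib.BSW

open Cfsg.Agent.Lib.Involutions.Basic

variable {G : Type*} [Group G]

/-- The hypothesis, in element-wise form. -/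
structure Hyp (t s : G) (K : Subgroup G) : Prop where
  ht : orderOf t = 2
  hs : orderOf s = 2
  htK : t ∈ K
  hsK : s ∉ K
  hst : s * t = t * s
  comm : ∀ a ∈ K, ∀ b ∈ K, a * b = b * a
  inv : ∀ a ∈ K, s * a * s⁻¹ = a⁻¹
  cases' : ∀ g : G, g * t = t * g → g ∈ K ∨ s * g ∈ K
  unique : ∀ a ∈ K, a * a = 1 → a = 1 ∨ a = t
  ti : ∀ a ∈ K, a ≠ 1 → ∀ g : G, g * a * g⁻¹ ∈ K → g * t = t * g
  conj : ∀ x y : G, orderOf x = 2 → orderOf y = 2 → IsConj x y

/-- An element with no conjugate in `K`. -/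
def Outside (K : Subgroup G) (y : G) : Prop := ∀ g : G, g * y * g⁻¹ ∉ K

variable {t s : G} {K : Subgroup G}

theorem Hyp.comm_t (h : Hyp t s K) {a : G} (ha : a ∈ K) : a * t = t * a := h.comm a ha t h.htK

theorem Hyp.mem_C_iff (h : Hyp t s K) (g : G) : g * t = t * g ↔ g ∈ K ∨ s * g ∈ K := by
  refine ⟨h.cases' g, ?_⟩
  rintro (hg | hg)
  · exact h.comm_t hg
  · have e : g = s * (s * g) := by rw [← mul_assoc, invol_mul_self h.hs, one_mul]
    rw [e, mul_assoc, h.comm_t hg, ← mul_assoc, h.hst, mul_assoc]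

theorem Hyp.s_conj (h : Hyp t s K) {a : G} (ha : a ∈ K) : s * a = a⁻¹ * s := by
  rw [← h.inv a ha, inv_mul_cancel_right]

theorem Hyp.sq_of_notMem (h : Hyp t s K) {g : G} (hgK : g ∉ K) (hg : g * t = t * g) :
    orderOf g = 2 := by
  rcases h.cases' g hg with h1 | h1
  · exact absurd h1 hgK
  refine invol_iff.2 ⟨?_, fun e => hgK (e ▸ one_mem K)⟩
  have hss := invol_mul_self h.hs
  have e : g = s * (s * g) := by rw [← mul_assoc, hss, one_mul]
  have h2 := h.s_conj h1
  calc g * g = (s * (s * g)) * (s * (s * g)) := by rw [← e]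
    _ = ((s * g)⁻¹ * s) * (s * (s * g)) := by rw [h2]
    _ = 1 := by rw [mul_assoc, ← mul_assoc s s, hss, one_mul, inv_mul_cancel]

theorem Hyp.inverts_of_notMem (h : Hyp t s K) {g : G} (hgK : g ∉ K) (hg : g * t = t * g)
    {a : G} (ha : a ∈ K) : g * a * g⁻¹ = a⁻¹ := by
  rcases h.cases' g hg with h1 | h1
  · exact absurd h1 hgK
  have e : g = s * (s * g) := by rw [← mul_assoc, invol_mul_self h.hs, one_mul]
  calc g * a * g⁻¹ = (s * (s * g)) * a * (s * (s * g))⁻¹ := by rw [← e]
    _ = s * ((s * g) * a * (s * g)⁻¹) * s⁻¹ := by group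
    _ = s * a * s⁻¹ := by rw [h.comm _ h1 a ha, mul_inv_cancel_right]
    _ = a⁻¹ := h.inv a ha

/-- Conjugate configurations satisfy the hypothesis. -/
theorem Hyp.map (h : Hyp t s K) (c : G) :
    Hyp (c * t * c⁻¹) (c * s * c⁻¹) (K.map (MulAut.conj c).toMonoidHom) := by
  have hmem : ∀ a, a ∈ K.map (MulAut.conj c).toMonoidHom ↔ c⁻¹ * a * c ∈ K := by
    intro a
    constructor
    · rintro ⟨b, hb, rfl⟩
      simpa [MulAut.conj_apply, mul_assoc] using hb
    · intro ha
      exact ⟨_, ha, by simp [MulAut.conj_apply, mul_assoc]⟩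
  have hcomm : ∀ x y : G, x * y = y * x → ∀ d : G, (d * x * d⁻¹) * (d * y * d⁻¹) =
      (d * y * d⁻¹) * (d * x * d⁻¹) := by
    intro x y e d
    calc _ = d * (x * y) * d⁻¹ := by group
      _ = _ := by rw [e]; group
  refine ⟨by rw [orderOf_conj_eq]; exact h.ht, by rw [orderOf_conj_eq]; exact h.hs, ?_, ?_, ?_,
    ?_, ?_, ?_, ?_, ?_, h.conj⟩
  · rw [hmem]; simpa [mul_assoc] using h.htK
  · rw [hmem]; simpa [mul_assoc] using h.hsK
  · exact hcomm s t h.hst c
  · intro a ha b hb
    rw [hmem] at ha hb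
    have := hcomm _ _ (h.comm _ ha _ hb) c
    simpa [mul_assoc] using this
  · intro a ha
    rw [hmem] at ha
    have := h.inv _ ha
    calc c * s * c⁻¹ * a * (c * s * c⁻¹)⁻¹ = c * (s * (c⁻¹ * a * c) * s⁻¹) * c⁻¹ := by group
      _ = c * (c⁻¹ * a * c)⁻¹ * c⁻¹ := by rw [this]
      _ = a⁻¹ := by group
  · intro g hg
    have : (c⁻¹ * g * c) * t = t * (c⁻¹ * g * c) := by
      calc (c⁻¹ * g * c) * t = c⁻¹ * (g * (c * t * c⁻¹)) * c := by group
        _ = _ := by rw [hg]; group
    rcases h.cases' _ this with h1 | h1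
    · exact Or.inl ((hmem g).2 h1)
    · refine Or.inr ((hmem _).2 ?_)
      convert h1 using 1
      group
  · intro a ha h1
    rw [hmem] at ha
    have h1' : c⁻¹ * a * c * (c⁻¹ * a * c) = 1 := by
      calc c⁻¹ * a * c * (c⁻¹ * a * c) = c⁻¹ * (a * a) * c := by group
        _ = 1 := by rw [h1]; group
    rcases h.unique _ ha h1' with e | e
    · left
      calc a = c * (c⁻¹ * a * c) * c⁻¹ := by group
        _ = 1 := by rw [e]; group
    · right
      calc a = c * (c⁻¹ * a * c) * c⁻¹ := by group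
        _ = _ := by rw [e]
  · intro a ha hne g hg
    rw [hmem] at ha hg
    have := h.ti _ ha (fun e => hne (by
      calc a = c * (c⁻¹ * a * c) * c⁻¹ := by group
        _ = 1 := by rw [e]; group)) (c⁻¹ * g * c) (by
      convert hg using 1; group)
    calc g * (c * t * c⁻¹) = c * ((c⁻¹ * g * c) * t) * c⁻¹ := by group
      _ = _ := by rw [this]; group

theorem Hyp.outside_map (h : Hyp t s K) {y : G} (hy : Outside K y) (c : G) :
    Outside (K.map (MulAut.conj c).toMonoidHom) y := by
  rintro g ⟨b, hb, e⟩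
  refine hy (c⁻¹ * g) ?_
  have e' : c * b * c⁻¹ = g * y * g⁻¹ := e
  have : c⁻¹ * g * y * (c⁻¹ * g)⁻¹ = b := by
    calc c⁻¹ * g * y * (c⁻¹ * g)⁻¹ = c⁻¹ * (g * y * g⁻¹) * c := by group
      _ = b := by rw [← e']; group
  rw [this]
  exact hb

theorem Hyp.centralizer_t (h : Hyp t s K) (x : G) :
    x ∈ Subgroup.centralizer ({t} : Set G) ↔ x * t = t * x :=
  Subgroup.mem_centralizer_singleton_iff

theorem Hyp.centralizer_of_mem (h : Hyp t s K) {x : G} (hx : x ∈ K) (hx2 : x * x ≠ 1) :
    Subgroup.centralizer ({x} : Set G) = K := by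
  ext g
  rw [Subgroup.mem_centralizer_singleton_iff]
  refine ⟨fun hg => ?_, fun hg => h.comm g hg x hx⟩
  have hc : g * x * g⁻¹ = x := by rw [hg, mul_inv_cancel_right]
  have hgt := h.ti x hx (fun e => hx2 (by simp [e])) g (by rw [hc]; exact hx)
  by_contra hgK
  have := h.inverts_of_notMem hgK hgt hx
  rw [hc] at this
  exact hx2 (eq_inv_iff_mul_eq_one.1 this)

variable [Finite G]

theorem Hyp.card_C (h : Hyp t s K) :
    Nat.card (Subgroup.centralizer ({t} : Set G)) = 2 * Nat.card K := by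
  have hle : K ≤ Subgroup.centralizer ({t} : Set G) := fun a ha =>
    (h.centralizer_t a).2 (h.comm_t ha)
  have hidx : (K.subgroupOf (Subgroup.centralizer ({t} : Set G))).index = 2 := by
    rw [Subgroup.index_eq_two_iff]
    refine ⟨⟨s, (h.centralizer_t s).2 h.hst⟩, fun b => ?_⟩
    simp only [Subgroup.mem_subgroupOf, Subgroup.coe_mul]
    by_cases hb : (b : G) ∈ K
    · refine Or.inr ⟨hb, fun hbs => h.hsK ?_⟩
      have := mul_mem (inv_mem hb) hbs
      rwa [inv_mul_cancel_left] at this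
    · refine Or.inl ⟨?_, hb⟩
      rcases h.cases' _ ((h.centralizer_t _).1 b.2) with h1 | h1
      · exact absurd h1 hb
      · have hbt := (h.centralizer_t _).1 b.2
        have h2 := h.inverts_of_notMem hb hbt h1
        have hs2 := invol_mul_self h.hs
        have hb2 := invol_mul_self (h.sq_of_notMem hb hbt)
        have e : (b : G) * (s * b) * (b : G)⁻¹ = (b : G) * s := by group
        rw [← e, h2]
        exact inv_mem h1
  have := Subgroup.card_mul_index (K.subgroupOf (Subgroup.centralizer ({t} : Set G)))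
  rw [hidx, Nat.card_congr (Subgroup.subgroupOfEquivOfLe hle).toEquiv] at this
  omega

open scoped Classical in
theorem Hyp.centralizer_card (h : Hyp t s K) {x : G} (hx : x ∈ K) (hx1 : x ≠ 1) :
    Nat.card (Subgroup.centralizer ({x} : Set G)) =
      if x = x⁻¹ then 2 * Nat.card K else Nat.card K := by
  split_ifs with he
  · rcases h.unique x hx (eq_inv_iff_mul_eq_one.1 he) with e | e
    · exact absurd e hx1
    · rw [e]; exact h.card_C
  · rw [h.centralizer_of_mem hx (fun e => he (eq_inv_of_mul_eq_one_right e))]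

theorem Hyp.isConj_iff' (h : Hyp t s K) {x y : G} (hx : x ∈ K) (hx1 : x ≠ 1) (hy : y ∈ K) :
    IsConj x y ↔ y = x ∨ y = x⁻¹ := by
  refine ⟨fun hc => ?_, ?_⟩
  · obtain ⟨g, rfl⟩ := isConj_iff.1 hc
    have hgt := h.ti x hx hx1 g hy
    by_cases hgK : g ∈ K
    · left; rw [h.comm g hgK x hx, mul_inv_cancel_right]
    · right; exact h.inverts_of_notMem hgK hgt hx
  · rintro (e | e)
    · rw [e]
    · exact isConj_iff.2 ⟨s, by rw [e]; exact h.inv x hx⟩

theorem Hyp.even_card (h : Hyp t s K) : 2 ∣ Nat.card K := by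
  have := Subgroup.orderOf_dvd_natCard K h.htK
  rwa [h.ht] at this

/-- Each non-identity element of `K` is a product of two involutions in exactly `|K|` ways. -/
theorem Hyp.card_pairs (h : Hyp t s K) {x : G} (hx : x ∈ K) (hx1 : x ≠ 1) :
    Nat.card (Pairs x) = Nat.card K := by
  rw [Nat.card_congr (pairsEquiv x)]
  refine Nat.card_congr
    { toFun := fun u => ⟨s * u.1, ?_⟩
      invFun := fun a => ⟨s * a.1, ?_, ?_, ?_⟩
      left_inv := fun u => Subtype.ext (by simp [← mul_assoc, invol_mul_self h.hs])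
      right_inv := fun a => Subtype.ext (by simp [← mul_assoc, invol_mul_self h.hs]) }
  · obtain ⟨hu2, hu, hne⟩ := u.2
    have hut := h.ti x hx hx1 u.1 (by rw [hu]; exact inv_mem hx)
    rcases h.cases' _ hut with h1 | h1
    · exfalso
      rw [h.comm _ h1 x hx, mul_inv_cancel_right] at hu
      rcases h.unique x hx (eq_inv_iff_mul_eq_one.1 hu) with e | e
      · exact hx1 e
      · rcases h.unique _ h1 (invol_mul_self hu2) with e' | e'
        · exact invol_ne_one hu2 e'
        · refine hne ?_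
          subst e
          rw [e', invol_mul_self h.ht]
    · exact h1
  · refine h.sq_of_notMem (fun ha => h.hsK ?_) ((h.mem_C_iff _).2 (Or.inr ?_))
    · have := mul_mem ha (inv_mem a.2)
      rwa [mul_inv_cancel_right] at this
    · rw [← mul_assoc, invol_mul_self h.hs, one_mul]; exact a.2
  · rw [show s * a.1 * x * (s * a.1)⁻¹ = s * (a.1 * x * a.1⁻¹) * s⁻¹ by group,
      h.comm _ a.2 x hx, mul_inv_cancel_right, h.inv x hx]
  · intro e
    refine h.hsK ?_
    have hs' : s = (a.1 * x)⁻¹ := eq_inv_of_mul_eq_one_left (by rw [← mul_assoc]; exact e)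
    rw [hs']
    exact inv_mem (mul_mem a.2 hx)

omit [Finite G] in
/-- An element centralising a non-identity element of `K` lies in `C(t)`. -/
theorem Hyp.commute_mem (h : Hyp t s K) {x g : G} (hx : x ∈ K) (hx1 : x ≠ 1)
    (hg : g * x = x * g) : g * t = t * g :=
  h.ti x hx hx1 g (by rw [hg, mul_inv_cancel_right]; exact hx)

omit [Finite G] in
theorem Outside.conj {y : G} (hy : Outside K y) (c : G) : Outside K (c * y * c⁻¹) := fun g hg =>
  hy (g * c) (by convert hg using 1; group)

omit [Finite G] in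
theorem Outside.ne_one {y : G} (hy : Outside K y) : y ≠ 1 := fun e => hy 1 (by simp [e])

end Cfsg.Agent.Lib.BSW
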