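import Mathlib

/-!
# Integer vectors of squared length two or three
-/

namespace Cfsg.Agent.Lib.BSW

variable {ι : Type*} [Fintype ι]

theorem unit_of_sum_sq_le (f : ι → ℤ) (hf : ∑ i, f i ^ 2 ≤ 3) (i : ι) :
    f i = -1 ∨ f i = 0 ∨ f i = 1 := by
  have hle : f i ^ 2 ≤ 3 := (Finset.single_le_sum (f := fun j => f j ^ 2)
    (fun j _ => sq_nonneg _) (Finset.mem_univ i)).trans hf
  have : -1 ≤ f i ∧ f i ≤ 1 := ⟨by nlinarith, by nlinarith⟩
  omega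

theorem card_support_of_sum_sq (f : ι → ℤ) {n : ℕ} (hn : n ≤ 3) (hf : ∑ i, f i ^ 2 = n) :
    (Finset.univ.filter fun i => f i ≠ 0).card = n := by
  have : ((Finset.univ.filter fun i => f i ≠ 0).card : ℤ) = n := by
    rw [← hf, Finset.card_filter, Nat.cast_sum]
    refine Finset.sum_congr rfl fun i _ => ?_
    rcases unit_of_sum_sq_le f (by rw [hf]; exact_mod_cast hn) i with e | e | e <;> simp [e]
  exact_mod_cast this

theorem sq_eq_one_of_ne_zero (f : ι → ℤ) (hf : ∑ i, f i ^ 2 ≤ 3) {i : ι} (hi : f i ≠ 0) :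
    f i * f i = 1 := by
  rcases unit_of_sum_sq_le f hf i with e | e | e
  · rw [e]; rfl
  · exact absurd e hi
  · rw [e]; rfl

theorem exists_two (f : ι → ℤ) (hf : ∑ i, f i ^ 2 = 2) :
    ∃ a b, a ≠ b ∧ f a ≠ 0 ∧ f b ≠ 0 ∧ ∀ i, f i ≠ 0 → i = a ∨ i = b := by
  classical
  obtain ⟨a, b, hab, hS⟩ := Finset.card_eq_two.1 (card_support_of_sum_sq f (n := 2) (by norm_num) hf)
  simp only [Finset.ext_iff, Finset.mem_filter, Finset.mem_univ, true_and, Finset.mem_insert,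
    Finset.mem_singleton] at hS
  exact ⟨a, b, hab, (hS a).2 (Or.inl rfl), (hS b).2 (Or.inr rfl), fun i hi => (hS i).1 hi⟩

theorem exists_three (f : ι → ℤ) (hf : ∑ i, f i ^ 2 = 3) :
    ∃ a b c, a ≠ b ∧ a ≠ c ∧ b ≠ c ∧ f a ≠ 0 ∧ f b ≠ 0 ∧ f c ≠ 0 ∧
      ∀ i, f i ≠ 0 → i = a ∨ i = b ∨ i = c := by
  classical
  obtain ⟨a, b, c, hab, hac, hbc, hS⟩ :=
    Finset.card_eq_three.1 (card_support_of_sum_sq f (n := 3) (by norm_num) hf)
  simp only [Finset.ext_iff, Finset.mem_filter, Finset.mem_univ, true_and, Finset.mem_insert,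
    Finset.mem_singleton] at hS
  exact ⟨a, b, c, hab, hac, hbc, (hS a).2 (Or.inl rfl), (hS b).2 (Or.inr (Or.inl rfl)),
    (hS c).2 (Or.inr (Or.inr rfl)), fun i hi => (hS i).1 hi⟩

theorem exists_other_of_two (f : ι → ℤ) (hf : ∑ i, f i ^ 2 = 2) {a : ι} (ha : f a ≠ 0) :
    ∃ b, a ≠ b ∧ f b ≠ 0 ∧ ∀ i, f i ≠ 0 → i = a ∨ i = b := by
  obtain ⟨x, y, hxy, hx, hy, hS⟩ := exists_two f hf
  rcases hS a ha with rfl | rfl
  · exact ⟨y, hxy, hy, hS⟩
  · exact ⟨x, hxy.symm, hx, fun i hi => (hS i hi).symm⟩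

theorem exists_others_of_three (f : ι → ℤ) (hf : ∑ i, f i ^ 2 = 3) {a : ι} (ha : f a ≠ 0) :
    ∃ b c, a ≠ b ∧ a ≠ c ∧ b ≠ c ∧ f b ≠ 0 ∧ f c ≠ 0 ∧
      ∀ i, f i ≠ 0 → i = a ∨ i = b ∨ i = c := by
  obtain ⟨x, y, z, hxy, hxz, hyz, hx, hy, hz, hS⟩ := exists_three f hf
  rcases hS a ha with rfl | rfl | rfl
  · exact ⟨y, z, hxy, hxz, hyz, hy, hz, hS⟩
  · exact ⟨x, z, hxy.symm, hyz, hxz, hx, hz, fun i hi => by
      rcases hS i hi with e | e | e <;> simp [e]⟩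
  · exact ⟨x, y, hxz.symm, hyz.symm, hxy, hx, hy, fun i hi => by
      rcases hS i hi with e | e | e <;> simp [e]⟩

theorem exists_third_of_three (f : ι → ℤ) (hf : ∑ i, f i ^ 2 = 3) {a b : ι} (hab : a ≠ b)
    (ha : f a ≠ 0) (hb : f b ≠ 0) :
    ∃ c, a ≠ c ∧ b ≠ c ∧ f c ≠ 0 ∧ ∀ i, f i ≠ 0 → i = a ∨ i = b ∨ i = c := by
  obtain ⟨x, y, hax, hay, hxy, hx, hy, hS⟩ := exists_others_of_three f hf ha
  rcases hS b hb with e | e | e
  · exact absurd e.symm hab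
  · subst e; exact ⟨y, hay, hxy, hy, hS⟩
  · subst e
    exact ⟨x, hax, hxy.symm, hx, fun i hi => by rcases hS i hi with e | e | e <;> simp [e]⟩

theorem sum_mul_two {R : Type*} [CommRing R] [DecidableEq ι] (f : ι → ℤ) (v : ι → R) {a b : ι}
    (hab : a ≠ b) (hS : ∀ i, f i ≠ 0 → i = a ∨ i = b) :
    ∑ i, (f i : R) * v i = (f a : R) * v a + (f b : R) * v b := by
  rw [Finset.sum_eq_add a b hab]
  · intro i _ hi
    have : f i = 0 := by
      by_contra hne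
      rcases hS i hne with e | e
      · exact hi.1 e
      · exact hi.2 e
    simp [this]
  · simp
  · simp

theorem sum_mul_three {R : Type*} [CommRing R] [DecidableEq ι] (f : ι → ℤ) (v : ι → R)
    {a b c : ι} (hab : a ≠ b) (hac : a ≠ c) (hbc : b ≠ c)
    (hS : ∀ i, f i ≠ 0 → i = a ∨ i = b ∨ i = c) :
    ∑ i, (f i : R) * v i = (f a : R) * v a + (f b : R) * v b + (f c : R) * v c := by
  rw [← Finset.sum_subset (Finset.subset_univ ({a, b, c} : Finset ι))]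
  · rw [Finset.sum_insert (by simp [hab, hac]), Finset.sum_pair hbc, add_assoc]
  · intro i _ hi
    simp only [Finset.mem_insert, Finset.mem_singleton] at hi
    have : f i = 0 := by
      by_contra hne
      exact hi (hS i hne)
    simp [this]

theorem unit_dot_two {x y x' y' : ℤ} (hx : x = -1 ∨ x = 0 ∨ x = 1) (hy : y = -1 ∨ y = 0 ∨ y = 1)
    (hx' : x' = -1 ∨ x' = 0 ∨ x' = 1) (hy' : y' = -1 ∨ y' = 0 ∨ y' = 1) (hx0 : x ≠ 0)
    (hy0 : y ≠ 0) (e : x * x' + y * y' = 1) : (x' = x ∧ y' = 0) ∨ (x' = 0 ∧ y' = y) := by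
  rcases hx with rfl | rfl | rfl <;> rcases hy with rfl | rfl | rfl <;>
    rcases hx' with rfl | rfl | rfl <;> rcases hy' with rfl | rfl | rfl <;> norm_num at *

theorem unit_dot_one {x y : ℤ} (hx : x = -1 ∨ x = 0 ∨ x = 1) (hy : y = -1 ∨ y = 0 ∨ y = 1)
    (e : x * y = 1) : y = x ∧ x ≠ 0 := by
  rcases hx with rfl | rfl | rfl <;> rcases hy with rfl | rfl | rfl <;> norm_num at *

theorem unit_mul_pos {x y d d' : ℤ} (hx : x = -1 ∨ x = 0 ∨ x = 1) (hy : y = -1 ∨ y = 0 ∨ y = 1)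
    (hx0 : x ≠ 0) (hy0 : y ≠ 0) (hd : 0 < d) (hd' : 0 < d') (e : x * d = y * d') :
    x = y ∧ d = d' := by
  rcases hx with rfl | rfl | rfl <;> rcases hy with rfl | rfl | rfl <;>
    first
    | exact absurd rfl hx0
    | exact absurd rfl hy0
    | exact ⟨by omega, by omega⟩

end Cfsg.Agent.Lib.BSW
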