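import Cfsg.Agent.Lib.BSW.Fourier
import Cfsg.Agent.Lib.BSW.Support

/-!
# The exceptional characters

Each non-real character `l` of `K` gives `-1 + φ Φ + ε_l e_l` and the real one gives
`-1 + φ Φ + α A + β B`.
-/

namespace Cfsg.Agent.Lib.BSW

open Cfsg.Agent.Lib.Involutions.Basic Cfsg.Agent.Lib.Characters.Basic
open Cfsg.Agent.Lib.Characters.Complete Cfsg.Agent.Lib.Characters.Linear
open scoped ComplexConjugate

universe u

variable {G : Type u} [Group G] {t s : G} {K : Subgroup G} [Fintype G] [Fintype ↥K]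

open scoped Classical in
/-- `wt` without the trivial character of `G`. -/
noncomputable def uvec (χ : Cfsg.IrrCharacter G) (l : Cfsg.IrrCharacter ↥K) : ℤ :=
  if χ = oneChar G then 0 else wt χ l

theorem uvec_of_ne {χ : Cfsg.IrrCharacter G} (hχ : χ ≠ oneChar G) (l : Cfsg.IrrCharacter ↥K) :
    uvec χ l = wt χ l := if_neg hχ

theorem uvec_oneChar (l : Cfsg.IrrCharacter ↥K) : uvec (oneChar G) l = 0 := if_pos rfl

theorem ne_oneChar_of_uvec {χ : Cfsg.IrrCharacter G} {l : Cfsg.IrrCharacter ↥K}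
    (hu : uvec χ l ≠ 0) : χ ≠ oneChar G := fun e => hu (e ▸ uvec_oneChar l)

variable [Fintype (Cfsg.IrrCharacter ↥K)]

/-- The degree, as an integer. -/
noncomputable def dg (χ : Cfsg.IrrCharacter G) : ℤ :=
  (Nat.card ↥K : ℤ) * mlt χ (oneChar ↥K) + ∑ l : Cfsg.IrrCharacter ↥K, wt χ l

/-- The value of a linear character at `t`. -/
noncomputable def sg (t : G) (htK : t ∈ K) (l : Cfsg.IrrCharacter ↥K) : ℤ :=
  if (l : ↥K → ℂ) ⟨t, htK⟩ = 1 then 1 else -1

variable [Fintype (Cfsg.IrrCharacter G)] (h : Hyp t s K)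
include h

theorem dg_spec (χ : Cfsg.IrrCharacter G) : (χ : G → ℂ) 1 = (dg (K := K) χ : ℂ) :=
  degree_eq h χ

theorem dg_pos (χ : Cfsg.IrrCharacter G) : 0 < dg (K := K) χ := by
  obtain ⟨n, hn, e⟩ := exists_degree_pos χ
  rw [dg_spec h] at e
  have : dg (K := K) χ = n := by exact_mod_cast e
  omega

theorem dg_oneChar : dg (K := K) (oneChar G) = 1 := by
  have e := dg_spec h (oneChar G)
  rw [oneChar_apply] at e
  exact_mod_cast e.symm

theorem sg_spec (l : Cfsg.IrrCharacter ↥K) :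
    (l : ↥K → ℂ) ⟨t, h.htK⟩ = (sg t h.htK l : ℂ) ∧
      (sg t h.htK l = 1 ∨ sg t h.htK l = -1) := by
  have hl1 := degree_eq_one_of_comm (comm_K h) l
  have hm := apply_mul_of_degree_one (isCharacter_irr l) hl1 ⟨t, h.htK⟩ ⟨t, h.htK⟩
  rw [show (⟨t, h.htK⟩ : ↥K) * ⟨t, h.htK⟩ = 1 from Subtype.ext (invol_mul_self h.ht), hl1] at hm
  unfold sg
  split_ifs with e
  · exact ⟨by rw [e]; simp, Or.inl rfl⟩
  · refine ⟨?_, Or.inr rfl⟩
    rcases mul_self_eq_one_iff.1 hm.symm with e' | e'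
    · exact absurd e' e
    · rw [e']; simp

theorem sg_sq (l : Cfsg.IrrCharacter ↥K) : sg t h.htK l * sg t h.htK l = 1 := by
  rcases (sg_spec h l).2 with e | e <;> rw [e] <;> rfl

theorem sum_sg : ∑ l : Cfsg.IrrCharacter ↥K, sg t h.htK l = 0 := by
  have := sum_irrK h (x := ⟨t, h.htK⟩) (fun e => invol_ne_one h.ht (Subtype.ext_iff.1 e))
  simp only [(sg_spec h _).1] at this
  exact_mod_cast this

theorem apply_t (χ : Cfsg.IrrCharacter G) :
    (χ : G → ℂ) t = ((∑ l : Cfsg.IrrCharacter ↥K, wt χ l * sg t h.htK l : ℤ) : ℂ) := by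
  have := apply_eq_sum_wt h χ (x := ⟨t, h.htK⟩) (fun e => invol_ne_one h.ht (Subtype.ext_iff.1 e))
  rw [this]
  push_cast
  simp only [(sg_spec h _).1]

theorem sg_conjChar (l : Cfsg.IrrCharacter ↥K) : sg t h.htK (conjChar l) = sg t h.htK l := by
  have e : (conjChar l : ↥K → ℂ) ⟨t, h.htK⟩ = (sg t h.htK l : ℂ) := by
    rw [conjChar_apply, (sg_spec h l).1, map_intCast]
  rw [(sg_spec h _).1] at e
  exact_mod_cast e

theorem sum_uvec_mul {R : Type*} [CommRing R] {l : Cfsg.IrrCharacter ↥K} (hl : l ≠ oneChar ↥K)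
    (v : Cfsg.IrrCharacter G → R) :
    ∑ χ : Cfsg.IrrCharacter G, (wt χ l : R) * v χ =
      -v (oneChar G) + ∑ χ : Cfsg.IrrCharacter G, (uvec χ l : R) * v χ := by
  classical
  have : ∀ χ : Cfsg.IrrCharacter G, (wt χ l : R) * v χ =
      (if χ = oneChar G then -v (oneChar G) else 0) + (uvec χ l : R) * v χ := by
    intro χ
    by_cases e : χ = oneChar G
    · subst e; rw [wt_oneChar_left h hl, uvec_oneChar, if_pos rfl]; simp
    · rw [uvec_of_ne e, if_neg e, zero_add]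
  rw [Finset.sum_congr rfl fun χ _ => this χ, Finset.sum_add_distrib, Finset.sum_ite_eq',
    if_pos (Finset.mem_univ _)]

theorem gram_uvec [DecidableEq (Cfsg.IrrCharacter ↥K)] {l m : Cfsg.IrrCharacter ↥K}
    (hl : l ≠ oneChar ↥K) (hm : m ≠ oneChar ↥K) :
    ∑ χ : Cfsg.IrrCharacter G, uvec χ l * uvec χ m =
      (if m = l then 1 else 0) + (if conjChar m = l then 1 else 0) + 1 := by
  classical
  have e := sum_uvec_mul h hl (fun χ => wt χ m)
  simp only [Int.cast_id] at e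
  rw [gram h hl hm, wt_oneChar_left h hm] at e
  have e2 : ∑ χ : Cfsg.IrrCharacter G, uvec χ l * uvec χ m =
      ∑ χ : Cfsg.IrrCharacter G, uvec χ l * wt χ m := by
    refine Finset.sum_congr rfl fun χ _ => ?_
    by_cases e' : χ = oneChar G
    · subst e'; rw [uvec_oneChar]; ring
    · rw [uvec_of_ne e' m]
  omega

theorem sum_uvec_dg {l : Cfsg.IrrCharacter ↥K} (hl : l ≠ oneChar ↥K) :
    ∑ χ : Cfsg.IrrCharacter G, uvec χ l * dg (K := K) χ = 1 := by
  have e := sum_wt_degree h l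
  rw [sum_uvec_mul h hl, oneChar_apply] at e
  simp only [dg_spec h] at e
  have : ((∑ χ : Cfsg.IrrCharacter G, uvec χ l * dg (K := K) χ : ℤ) : ℂ) = 1 := by
    push_cast
    linear_combination e
  exact_mod_cast this

/-- Class multiplication in terms of `uvec`. -/
theorem sum_uvec_classMult {l : Cfsg.IrrCharacter ↥K} (hl : l ≠ oneChar ↥K) :
    (Nat.card G : ℚ) * (-1 + ∑ χ : Cfsg.IrrCharacter G, (uvec χ l : ℚ) *
      (((∑ m : Cfsg.IrrCharacter ↥K, wt χ m * sg t h.htK m : ℤ) : ℚ) ^ 2 / (dg (K := K) χ : ℚ))) =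
      -4 * (Nat.card ↥K : ℚ) ^ 3 := by
  have e := sum_wt_classMult h hl
  rw [sum_uvec_mul h hl, oneChar_apply, oneChar_apply] at e
  simp only [dg_spec h, apply_t h] at e
  have : ((((Nat.card G : ℚ) * (-1 + ∑ χ : Cfsg.IrrCharacter G, (uvec χ l : ℚ) *
      (((∑ m : Cfsg.IrrCharacter ↥K, wt χ m * sg t h.htK m : ℤ) : ℚ) ^ 2 /
        (dg (K := K) χ : ℚ)))) : ℚ) : ℂ) = ((-4 * (Nat.card ↥K : ℚ) ^ 3 : ℚ) : ℂ) := by
    push_cast at e ⊢
    rw [← e]
    simp [pow_two]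
  exact_mod_cast this

/-- The exceptional characters of `G`. -/
theorem exists_star [DecidableEq (Cfsg.IrrCharacter ↥K)] :
    ∃ (l₀ : Cfsg.IrrCharacter ↥K) (a p q : Cfsg.IrrCharacter G),
      l₀ ≠ oneChar ↥K ∧ conjChar l₀ = l₀ ∧
      (∀ l : Cfsg.IrrCharacter ↥K, conjChar l = l → l = oneChar ↥K ∨ l = l₀) ∧
      a ≠ p ∧ a ≠ q ∧ p ≠ q ∧ uvec a l₀ ≠ 0 ∧ uvec p l₀ ≠ 0 ∧ uvec q l₀ ≠ 0 ∧
      (∀ χ, uvec χ l₀ ≠ 0 → χ = a ∨ χ = p ∨ χ = q) ∧
      ∀ l : Cfsg.IrrCharacter ↥K, conjChar l ≠ l → uvec a l = uvec a l₀ := by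
  classical
  -- the real character
  have hone : conjChar (oneChar ↥K) = oneChar ↥K :=
    Subtype.ext (funext fun x => by simp [conjChar_apply, oneChar_apply])
  obtain ⟨x, y, hxy, hR⟩ := Finset.card_eq_two.1 (card_real h)
  simp only [Finset.ext_iff, Finset.mem_filter, Finset.mem_univ, true_and, Finset.mem_insert,
    Finset.mem_singleton] at hR
  obtain ⟨l₀, hl₀, hl₀r, hl₀u⟩ : ∃ l₀, l₀ ≠ oneChar ↥K ∧ conjChar l₀ = l₀ ∧
      ∀ l : Cfsg.IrrCharacter ↥K, conjChar l = l → l = oneChar ↥K ∨ l = l₀ := by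
    rcases (hR _).1 hone with e | e
    · exact ⟨y, fun e' => hxy (e ▸ e'.symm), (hR y).2 (Or.inr rfl), fun l hl => e.symm ▸ (hR l).1 hl⟩
    · exact ⟨x, fun e' => hxy (e ▸ e'), (hR x).2 (Or.inl rfl),
        fun l hl => e.symm ▸ ((hR l).1 hl).symm⟩
  have hnr1 : ∀ l : Cfsg.IrrCharacter ↥K, conjChar l ≠ l → l ≠ oneChar ↥K := fun l hl e => hl (e ▸ hone)
  have hnr0 : ∀ l : Cfsg.IrrCharacter ↥K, conjChar l ≠ l → l₀ ≠ l ∧ conjChar l₀ ≠ l := fun l hl =>
    ⟨fun e => hl (e ▸ hl₀r), fun e => hl (by rw [← e, conjChar_conjChar, hl₀r])⟩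
  have hsq0 : ∑ χ : Cfsg.IrrCharacter G, uvec χ l₀ ^ 2 = 3 := by
    simp only [pow_two]
    rw [gram_uvec h hl₀ hl₀, if_pos rfl, if_pos hl₀r]; norm_num
  have hsq : ∀ l : Cfsg.IrrCharacter ↥K, conjChar l ≠ l → ∑ χ : Cfsg.IrrCharacter G, uvec χ l ^ 2 = 2 := fun l hl => by
    simp only [pow_two]
    rw [gram_uvec h (hnr1 l hl) (hnr1 l hl), if_pos rfl, if_neg hl]; norm_num
  by_cases hNR : ∀ l : Cfsg.IrrCharacter ↥K, conjChar l = l
  · obtain ⟨a, p, q, hap, haq, hpq, ha, hp, hq, hS⟩ := exists_three _ hsq0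
    exact ⟨l₀, a, p, q, hl₀, hl₀r, hl₀u, hap, haq, hpq, ha, hp, hq, hS,
      fun l hl => absurd (hNR l) hl⟩
  push Not at hNR
  obtain ⟨l₁, hl₁⟩ := hNR
  have dot0 : ∀ l : Cfsg.IrrCharacter ↥K, conjChar l ≠ l → ∑ χ : Cfsg.IrrCharacter G, uvec χ l * uvec χ l₀ = 1 := by
    intro l hl
    rw [gram_uvec h (hnr1 l hl) hl₀, if_neg (hnr0 l hl).1, if_neg (hnr0 l hl).2]; norm_num
  have unit : ∀ l : Cfsg.IrrCharacter ↥K, l ≠ oneChar ↥K → ∀ χ : Cfsg.IrrCharacter G,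
      uvec χ l = -1 ∨ uvec χ l = 0 ∨ uvec χ l = 1 := by
    intro l hl χ
    refine unit_of_sum_sq_le (fun χ => uvec χ l) ?_ χ
    simp only [pow_two]
    rw [gram_uvec h hl hl]
    split_ifs <;> norm_num
  -- a member of the support of `l₁` shared with `l₀`
  obtain ⟨a, b, hab, ha, hb, hS1, ha0, hb0⟩ : ∃ a b, a ≠ b ∧ uvec a l₁ ≠ 0 ∧ uvec b l₁ ≠ 0 ∧
      (∀ χ, uvec χ l₁ ≠ 0 → χ = a ∨ χ = b) ∧ uvec a l₀ = uvec a l₁ ∧ uvec b l₀ = 0 := by
    obtain ⟨a, b, hab, ha, hb, hS⟩ := exists_two _ (hsq l₁ hl₁)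
    have e := dot0 l₁ hl₁
    rw [← Finset.sum_congr rfl fun χ _ => congrArg (· * uvec χ l₀) (Int.cast_id (n := uvec χ l₁)),
      sum_mul_two _ _ hab hS] at e
    simp only [Int.cast_id] at e
    rcases unit_dot_two (unit l₁ (hnr1 _ hl₁) a) (unit l₁ (hnr1 _ hl₁) b) (unit l₀ hl₀ a)
      (unit l₀ hl₀ b) ha hb e with ⟨e1, e2⟩ | ⟨e1, e2⟩
    · exact ⟨a, b, hab, ha, hb, hS, e1, e2⟩
    · exact ⟨b, a, hab.symm, hb, ha, fun χ hχ => (hS χ hχ).symm, e2, e1⟩
  suffices key : ∀ μ : Cfsg.IrrCharacter ↥K, conjChar μ ≠ μ → uvec a μ = uvec a l₁ by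
    obtain ⟨p, q, hap, haq, hpq, hp, hq, hS0⟩ :=
      exists_others_of_three _ hsq0 (a := a) (by rw [ha0]; exact ha)
    exact ⟨l₀, a, p, q, hl₀, hl₀r, hl₀u, hap, haq, hpq, by rw [ha0]; exact ha, hp, hq, hS0,
      fun l hl => by rw [key l hl, ha0]⟩
  intro μ hμ
  by_contra hne
  have hμ1 := hnr1 μ hμ
  have hμl : μ ≠ l₁ := fun e => hne (e ▸ rfl)
  have hbar : ∀ χ : Cfsg.IrrCharacter G, ∀ l : Cfsg.IrrCharacter ↥K, conjChar l ≠ l →
      uvec χ (conjChar l) = uvec χ l := by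
    intro χ l hl
    have hc : conjChar (conjChar l) ≠ conjChar l := by rw [conjChar_conjChar]; exact Ne.symm hl
    have hz : ∑ ψ : Cfsg.IrrCharacter G, (uvec ψ (conjChar l) - uvec ψ l) ^ 2 = 0 := by
      have hexp : ∀ x y : ℤ, (x - y) ^ 2 = x * x - 2 * (x * y) + y * y := fun x y => by ring
      simp only [hexp, Finset.sum_add_distrib, Finset.sum_sub_distrib, ← Finset.mul_sum]
      rw [gram_uvec h (hnr1 _ hc) (hnr1 _ hc), gram_uvec h (hnr1 _ hc) (hnr1 _ hl),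
        gram_uvec h (hnr1 _ hl) (hnr1 _ hl), if_pos rfl, if_pos rfl,
        if_neg hc, if_neg hl, if_neg (Ne.symm hl)]
      norm_num
    have := (Finset.sum_eq_zero_iff_of_nonneg fun ψ _ => sq_nonneg _).1 hz χ (Finset.mem_univ _)
    exact sub_eq_zero.1 (pow_eq_zero_iff (two_ne_zero) |>.1 this)
  have hμl' : conjChar μ ≠ l₁ := fun e => hne (by rw [← hbar a μ hμ, e])
  have two : ∀ (l : Cfsg.IrrCharacter ↥K) (x y : Cfsg.IrrCharacter G), x ≠ y →
      (∀ χ, uvec χ l ≠ 0 → χ = x ∨ χ = y) → ∀ v : Cfsg.IrrCharacter G → ℤ,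
      ∑ χ : Cfsg.IrrCharacter G, uvec χ l * v χ = uvec x l * v x + uvec y l * v y := by
    intro l x y hxy hS v
    simpa using sum_mul_two (fun χ => uvec χ l) v hxy hS
  -- `μ` meets `l₁` in `b` only
  have dot : ∀ ν : Cfsg.IrrCharacter ↥K, conjChar ν ≠ ν → ν ≠ l₁ → conjChar ν ≠ l₁ →
      uvec a l₁ * uvec a ν + uvec b l₁ * uvec b ν = 1 := by
    intro ν hν h1 h2
    rw [← two l₁ a b hab hS1 (fun χ => uvec χ ν), gram_uvec h (hnr1 _ hl₁) (hnr1 _ hν), if_neg h1,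
      if_neg h2]
    norm_num
  obtain ⟨hμb, hμa⟩ : uvec b μ = uvec b l₁ ∧ uvec a μ = 0 := by
    have e := dot μ hμ hμl hμl'
    rcases unit_dot_two (unit l₁ (hnr1 _ hl₁) a) (unit l₁ (hnr1 _ hl₁) b) (unit μ hμ1 a)
      (unit μ hμ1 b) ha hb e with ⟨e1, e2⟩ | ⟨e1, e2⟩
    · exact absurd e1 hne
    · exact ⟨e2, e1⟩
  obtain ⟨c, hbc, hcμ, hSμ⟩ := exists_other_of_two _ (hsq μ hμ) (a := b) (by rw [hμb]; exact hb)
  have hac : a ≠ c := fun e => hcμ (e ▸ hμa)
  have hc0 : uvec c l₀ = uvec c μ := by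
    have e := dot0 μ hμ
    rw [two μ b c hbc hSμ, hb0, mul_zero, zero_add] at e
    exact (unit_dot_one (unit μ hμ1 c) (unit l₀ hl₀ c) e).1
  obtain ⟨x', hax, hcx, hx, hS0⟩ := exists_third_of_three _ hsq0 hac (by rw [ha0]; exact ha)
    (by rw [hc0]; exact hcμ)
  -- degrees
  have d1 : uvec a l₁ * dg (K := K) a + uvec b l₁ * dg (K := K) b = 1 := by
    rw [← two l₁ a b hab hS1 (fun χ => dg (K := K) χ)]; exact sum_uvec_dg h (hnr1 _ hl₁)
  have d2 : uvec b l₁ * dg (K := K) b + uvec c μ * dg (K := K) c = 1 := by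
    rw [← hμb, ← two μ b c hbc hSμ (fun χ => dg (K := K) χ)]; exact sum_uvec_dg h hμ1
  have d0 : uvec a l₁ * dg (K := K) a + uvec c μ * dg (K := K) c +
      uvec x' l₀ * dg (K := K) x' = 1 := by
    rw [← ha0, ← hc0]
    have e := sum_uvec_dg h hl₀
    rw [← Finset.sum_congr rfl fun χ _ => congrArg (· * dg (K := K) χ) (Int.cast_id (n := uvec χ l₀)),
      sum_mul_three _ _ hac hax hcx hS0] at e
    simpa using e
  -- there are no further non-real characters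
  have hall : ∀ ν : Cfsg.IrrCharacter ↥K, ν = oneChar ↥K ∨ ν = l₀ ∨ ν = l₁ ∨ ν = conjChar l₁ ∨ ν = μ ∨
      ν = conjChar μ := by
    intro ν
    by_contra hno
    simp only [not_or] at hno
    obtain ⟨n1, n2, n3, n4, n5, n6⟩ := hno
    have hν : conjChar ν ≠ ν := fun e => (hl₀u ν e).elim n1 n2
    have n4' : conjChar ν ≠ l₁ := fun e => n4 (by rw [← e, conjChar_conjChar])
    have n6' : conjChar ν ≠ μ := fun e => n6 (by rw [← e, conjChar_conjChar])
    have eν := dot ν hν n3 n4'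
    have eμ : uvec b μ * uvec b ν + uvec c μ * uvec c ν = 1 := by
      rw [← two μ b c hbc hSμ (fun χ => uvec χ ν), gram_uvec h hμ1 (hnr1 _ hν), if_neg n5,
        if_neg n6']
      norm_num
    rw [hμb] at eμ
    have hν1 := hnr1 ν hν
    by_cases hνb : uvec b ν = 0
    · rw [hνb, mul_zero, add_zero] at eν
      rw [hνb, mul_zero, zero_add] at eμ
      have hνa : uvec a ν ≠ 0 := fun e => by simp [e] at eν
      obtain ⟨y', hay, hy', hSν⟩ := exists_other_of_two _ (hsq ν hν) hνa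
      have hyc : c = y' := by
        rcases hSν c (fun e => by simp [e] at eμ) with e | e
        · exact absurd e.symm hac
        · exact e
      subst hyc
      have dν := sum_uvec_dg h hν1
      rw [two ν a c hay hSν] at dν
      have e1 := (unit_dot_one (unit l₁ (hnr1 _ hl₁) a) (unit ν hν1 a) eν).1
      have e2 := (unit_dot_one (unit μ hμ1 c) (unit ν hν1 c) eμ).1
      rw [e1, e2] at dν
      omega
    · obtain ⟨y', hby, hy', hSν⟩ := exists_other_of_two _ (hsq ν hν) hνb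
      obtain ⟨hνa, e1⟩ : uvec a ν = 0 ∧ uvec b ν = uvec b l₁ := by
        rcases unit_dot_two (unit l₁ (hnr1 _ hl₁) a) (unit l₁ (hnr1 _ hl₁) b) (unit ν hν1 a)
          (unit ν hν1 b) ha hb eν with ⟨-, e2⟩ | h2
        · exact absurd e2 hνb
        · exact h2
      have hy1 : y' ≠ a := fun e => hy' (by rw [e]; exact hνa)
      rw [e1] at eμ
      have hcν : uvec c ν = 0 := by
        have hbb : uvec b l₁ * uvec b l₁ = 1 := by
          rcases unit l₁ (hnr1 _ hl₁) b with e | e | e <;>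
            first | exact absurd e hb | (rw [e]; rfl)
        rw [hbb] at eμ
        have h2 : uvec c μ * uvec c ν = 0 := by omega
        exact (mul_eq_zero.1 h2).resolve_left hcμ
      have e := dot0 ν hν
      rw [two ν b y' hby hSν, hb0, mul_zero, zero_add] at e
      have hy0 : uvec y' l₀ ≠ 0 := fun e' => by simp [e'] at e
      have hyx : y' = x' := by
        rcases hS0 y' hy0 with e' | e' | e'
        · exact absurd e' hy1
        · subst e'; exact absurd hcν hy'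
        · exact e'
      subst hyx
      have dν := sum_uvec_dg h hν1
      rw [two ν b y' hby hSν, e1] at dν
      have e2 := ((unit_dot_one (unit ν hν1 y') (unit l₀ hl₀ y') e).1).symm
      rw [e2] at dν
      omega
  -- and the values at `t` are inconsistent
  have hd := Classical.decEq (Cfsg.IrrCharacter ↥K)
  have huniv : (Finset.univ : Finset (Cfsg.IrrCharacter ↥K)) =
      {oneChar ↥K, l₀, l₁, conjChar l₁, μ, conjChar μ} :=
    (Finset.eq_univ_iff_forall.2 fun ν => by simpa using hall ν).symm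
  have hsum : ∀ f : Cfsg.IrrCharacter ↥K → ℤ, ∑ l : Cfsg.IrrCharacter ↥K, f l =
      f (oneChar ↥K) + f l₀ + f l₁ + f (conjChar l₁) + f μ + f (conjChar μ) := by
    intro f
    have hc1 : conjChar (conjChar l₁) ≠ conjChar l₁ := by
      rw [conjChar_conjChar]; exact Ne.symm hl₁
    have hcμ' : conjChar (conjChar μ) ≠ conjChar μ := by
      rw [conjChar_conjChar]; exact Ne.symm hμ
    have n5 : conjChar l₁ ≠ μ := fun e => hμl' (by rw [← e, conjChar_conjChar])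
    have n6 : conjChar l₁ ≠ conjChar μ := fun e => hμl (by
      rw [← conjChar_conjChar μ, ← e, conjChar_conjChar])
    rw [huniv,
      Finset.sum_insert (by simp [Ne.symm hl₀, Ne.symm (hnr1 _ hl₁), Ne.symm (hnr1 _ hc1),
        Ne.symm hμ1, Ne.symm (hnr1 _ hcμ')]),
      Finset.sum_insert (by simp [(hnr0 _ hl₁).1, (hnr0 _ hc1).1, (hnr0 _ hμ).1, (hnr0 _ hcμ').1]),
      Finset.sum_insert (by simp [Ne.symm hl₁, Ne.symm hμl, Ne.symm hμl']),
      Finset.sum_insert (by simp [n5, n6]), Finset.sum_pair (Ne.symm hμ)]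
    ring
  have hsgs := sum_sg h
  rw [hsum, sg_conjChar h, sg_conjChar h] at hsgs
  have hs1 : sg t h.htK (oneChar ↥K) = 1 := by
    have := (sg_spec h (oneChar ↥K)).1
    rw [oneChar_apply] at this
    exact_mod_cast this.symm
  have ft : ∀ χ : Cfsg.IrrCharacter G, χ ≠ oneChar G → ∑ m : Cfsg.IrrCharacter ↥K, wt χ m * sg t h.htK m =
      uvec χ l₀ * sg t h.htK l₀ + 2 * uvec χ l₁ * sg t h.htK l₁ +
        2 * uvec χ μ * sg t h.htK μ := by
    intro χ hχ
    rw [hsum, wt_oneChar_right, ← uvec_of_ne hχ, ← uvec_of_ne hχ, ← uvec_of_ne hχ,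
      ← uvec_of_ne hχ, ← uvec_of_ne hχ, hbar χ _ hl₁, hbar χ _ hμ, sg_conjChar h, sg_conjChar h]
    ring
  have T1 := sum_uvec_classMult h (hnr1 _ hl₁)
  have T2 := sum_uvec_classMult h hμ1
  rw [← T2] at T1
  have hG : (Nat.card G : ℚ) ≠ 0 := Nat.cast_ne_zero.2 Nat.card_pos.ne'
  have T := add_left_cancel (mul_left_cancel₀ hG T1)
  rw [sum_mul_two (fun χ => uvec χ l₁) _ hab hS1, sum_mul_two (fun χ => uvec χ μ) _ hbc hSμ,
    hμb] at T
  have hcl : uvec c l₁ = 0 := by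
    by_contra e
    rcases hS1 c e with e' | e'
    · exact hac e'.symm
    · exact hbc e'.symm
  rw [ft a (ne_oneChar_of_uvec ha), ft c (ne_oneChar_of_uvec hcμ), ha0, hμa, hc0, hcl] at T
  have hpa := dg_pos h a
  have hpc := dg_pos h c
  have he : uvec a l₁ = uvec c μ ∧ dg (K := K) a = dg (K := K) c := by
    exact unit_mul_pos (unit l₁ (hnr1 _ hl₁) a) (unit μ hμ1 c) ha hcμ hpa hpc (by omega)
  rw [← he.1, ← he.2] at T
  have hda : ((dg (K := K) a : ℤ) : ℚ) ≠ 0 := by exact_mod_cast hpa.ne'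
  have hua : ((uvec a l₁ : ℤ) : ℚ) ≠ 0 := by exact_mod_cast ha
  have T' : ((uvec a l₁ * sg t h.htK l₀ + 2 * uvec a l₁ * sg t h.htK l₁ + 0 : ℤ) : ℚ) ^ 2 =
      ((uvec a l₁ * sg t h.htK l₀ + 0 + 2 * uvec a l₁ * sg t h.htK μ : ℤ) : ℚ) ^ 2 := by
    push_cast at T ⊢
    field_simp at T
    apply mul_left_cancel₀ hua
    linear_combination T
  have T'' : (sg t h.htK l₀ + 2 * sg t h.htK l₁) ^ 2 = (sg t h.htK l₀ + 2 * sg t h.htK μ) ^ 2 := by
    have : (uvec a l₁ * sg t h.htK l₀ + 2 * uvec a l₁ * sg t h.htK l₁ + 0) ^ 2 =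
      (uvec a l₁ * sg t h.htK l₀ + 0 + 2 * uvec a l₁ * sg t h.htK μ) ^ 2 := by exact_mod_cast T'
    rcases unit l₁ (hnr1 _ hl₁) a with e | e | e
    · rw [e] at this; linarith
    · exact absurd e ha
    · rw [e] at this; linarith
  rcases (sg_spec h l₀).2 with e | e <;> rcases (sg_spec h l₁).2 with e' | e' <;>
    rcases (sg_spec h μ).2 with e'' | e'' <;>
    rw [e, e', e''] at T'' <;> rw [hs1, e, e', e''] at hsgs <;> omega

end Cfsg.Agent.Lib.BSW
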